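import Cfsg.Agent.Lib.Char.Gallagher
import Cfsg.Agent.Lib.Char.Clifford
import Cfsg.Agent.Lib.Char.Orthogonality
import Cfsg.Agent.Lib.Clifford.CyclicQuotient
import Cfsg.Agent.S0886

/-!
# Characters over an invariant character

`card_over_le`: at most `k(G / N)` irreducible characters of `G` lie over a `G`-invariant character
of the normal subgroup `N`.
-/

set_option autoImplicit false
set_option linter.style.haveILetI false
set_option linter.unusedSectionVars false

namespace Cfsg.Agent.SolvLin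

open Cfsg

universe u

variable {G : Type u} [Group G] [Fintype G] (N : Subgroup G) [hN : N.Normal] [Fintype N]

/-- On a coset, the characters over an invariant character are proportional. -/
theorem exists_proportional (θ : IrrCharacter N) (hinv : ∀ g, Char.conjFun N θ.1 g = θ.1) (g : G) :
    ∃ ψ : G → ℂ, ∀ χ : IrrCharacter G, classInner (Char.resFun N χ.1) θ.1 ≠ 0 →
      ∃ c : ℂ, ∀ x : G, (x : G ⧸ N) = (g : G ⧸ N) → χ.1 x = c * ψ x := by
  classical
  set H := (Subgroup.zpowers (g : G ⧸ N)).comap (QuotientGroup.mk' N) with hH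
  haveI := Fintype.ofFinite H
  have hNH : N ≤ H := fun n hn => by
    show QuotientGroup.mk' N n ∈ Subgroup.zpowers (g : G ⧸ N)
    rw [show QuotientGroup.mk' N n = 1 from (QuotientGroup.eq_one_iff n).2 hn]
    exact one_mem _
  haveI : (N.subgroupOf H).Normal := Subgroup.normal_subgroupOf
  haveI := Fintype.ofFinite (N.subgroupOf H)
  let e := Subgroup.subgroupOfEquivOfLe hNH
  let θ' : IrrCharacter (N.subgroupOf H) :=
    ⟨θ.1 ∘ e.toMonoidHom, Char.IsIrrCharacter.comp_surjective θ.2 e.toMonoidHom e.surjective⟩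
  haveI : IsCyclic (H ⧸ N.subgroupOf H) := by
    let f : H →* Subgroup.zpowers (g : G ⧸ N) :=
      ((QuotientGroup.mk' N).comp H.subtype).codRestrict _ fun x => x.2
    have hker : f.ker = N.subgroupOf H := by
      ext x
      rw [MonoidHom.mem_ker, Subgroup.mem_subgroupOf, Subtype.ext_iff]
      exact QuotientGroup.eq_one_iff (x : G)
    have hf : Function.Surjective f := by
      rintro ⟨q, hq⟩
      obtain ⟨x, rfl⟩ := QuotientGroup.mk_surjective q
      exact ⟨⟨x, hq⟩, rfl⟩
    exact ((QuotientGroup.quotientMulEquivOfEq hker.symm).trans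
      (QuotientGroup.quotientKerEquivOfSurjective f hf)).isCyclic.2 inferInstance
  obtain ⟨ψ₀, hψ₀, hext⟩ := S0886.result (N.subgroupOf H) inferInstance θ'.1 θ'.2 fun h n => by
    show θ.1 _ = θ.1 (e n)
    exact (Char.conjFun_eq_self_iff N θ.1 (h : G)).1 (hinv h) (e n) _ rfl
  let ψ : IrrCharacter H := ⟨ψ₀, hψ₀⟩
  have hres : Char.resFun (N.subgroupOf H) ψ.1 = θ'.1 := funext hext
  refine ⟨extendByZero H ψ.1, fun χ hχ => ?_⟩
  obtain ⟨m, hm, -⟩ :=
    Char.IsCharacter.exists_decomp (Char.IsCharacter.restrict (Char.irr_isCharacter χ) H)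
  -- the restriction to `N` is a multiple of `θ`
  have horb : ∀ η ∈ Char.orbitFinset N θ, η = θ := fun η hη => by
    obtain ⟨x, rfl⟩ := (Char.mem_orbitFinset N).1 hη
    exact Subtype.ext (by rw [Char.conjChar_coe]; exact hinv x)
  have hresN : ∀ n : N, χ.1 n = classInner (Char.resFun N χ.1) θ.1 * θ.1 n := fun n => by
    have h := congrFun (Char.resFun_eq_smul_orbitSum N χ θ hχ) n
    have hθ : θ ∈ Char.orbitFinset N θ :=
      (Char.mem_orbitFinset N).2 ⟨1, Subtype.ext (Char.conjFun_one N θ.1).symm⟩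
    rw [show Char.orbitFinset N θ = {θ} from Finset.eq_singleton_iff_unique_mem.2 ⟨hθ, horb⟩] at *
    rw [Pi.smul_apply, smul_eq_mul, Char.orbitSum, Finset.sum_apply,
      show Char.orbitFinset N θ = {θ} from Finset.eq_singleton_iff_unique_mem.2
        ⟨(Char.mem_orbitFinset N).2 ⟨1, Subtype.ext (Char.conjFun_one N θ.1).symm⟩, horb⟩,
      Finset.sum_singleton] at h
    exact h
  have hover : ∀ η : IrrCharacter H, m η ≠ 0 →
      classInner (Char.resFun (N.subgroupOf H) η.1) θ'.1 ≠ 0 := by
    intro η hη hzero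
    obtain ⟨ξ, hξ⟩ := Char.exists_constituent (N.subgroupOf H) η
    have hne : ξ ≠ θ' := fun h => hξ (h ▸ hzero)
    have hsum : classInner (fun n : N.subgroupOf H => χ.1 (n : H)) ξ.1 =
        ∑ η : IrrCharacter H, (m η : ℂ) * classInner (Char.resFun (N.subgroupOf H) η.1) ξ.1 := by
      rw [show (fun n : N.subgroupOf H => χ.1 (n : H)) =
        ∑ η : IrrCharacter H, (m η : ℂ) • Char.resFun (N.subgroupOf H) η.1 from funext fun n => by
          have := congrFun hm (n : H)
          simpa using this, Char.classInner_sum_left]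
      exact Finset.sum_congr rfl fun η _ => Char.classInner_smul_left _ _ _
    rw [show (fun n : N.subgroupOf H => χ.1 (n : H)) =
        classInner (Char.resFun N χ.1) θ.1 • θ'.1 from funext fun n => hresN (e n),
      Char.classInner_smul_left, Char.classInner_irr_of_ne θ'.2 ξ.2 (fun h => hne (Subtype.ext h.symm)),
      mul_zero] at hsum
    choose k hk using fun η : IrrCharacter H =>
      Char.IsCharacter.exists_nat_classInner
        (Char.IsCharacter.restrict (Char.irr_isCharacter η) (N.subgroupOf H)) (Char.irr_isCharacter ξ)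
    have hnat : ∑ η : IrrCharacter H, m η * k η = 0 := by
      have h2 : ((∑ η : IrrCharacter H, m η * k η : ℕ) : ℂ) = 0 := by
        rw [hsum]
        push_cast
        exact Finset.sum_congr rfl fun η _ => by rw [← hk η]; rfl
      exact_mod_cast h2
    have h3 := (Finset.sum_eq_zero_iff.1 hnat η (Finset.mem_univ η))
    refine hξ ?_
    rw [show classInner (Char.resFun (N.subgroupOf H) η.1) ξ.1 = (k η : ℂ) from hk η,
      (mul_eq_zero.1 h3).resolve_left hη, Nat.cast_zero]
  have hβ : ∀ η : IrrCharacter H, ∃ β : H ⧸ N.subgroupOf H → ℂ,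
      m η ≠ 0 → ∀ x : H, η.1 x = ψ.1 x * β (x : H ⧸ N.subgroupOf H) := by
    intro η
    by_cases hη : m η = 0
    · exact ⟨0, fun h => absurd hη h⟩
    obtain ⟨β, hβ⟩ := Char.exists_mulQuotient_eq (N.subgroupOf H) ψ (hres ▸ θ'.2) η
      (hres ▸ hover η hη)
    exact ⟨β.1, fun _ x => (congrFun hβ x).symm⟩
  choose β hβ using hβ
  have hgH : g ∈ H := Subgroup.mem_zpowers _
  refine ⟨∑ η : IrrCharacter H, (m η : ℂ) * β η (⟨g, hgH⟩ : H), fun x hx => ?_⟩
  have hxH : x ∈ H := by
    show QuotientGroup.mk' N x ∈ Subgroup.zpowers (g : G ⧸ N)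
    rw [QuotientGroup.mk'_apply, hx]
    exact Subgroup.mem_zpowers _
  have hq : ((⟨x, hxH⟩ : H) : H ⧸ N.subgroupOf H) = ((⟨g, hgH⟩ : H) : H ⧸ N.subgroupOf H) :=
    QuotientGroup.eq.2 (Subgroup.mem_subgroupOf.2 (QuotientGroup.eq.1 hx))
  rw [show extendByZero H ψ.1 x = ψ.1 ⟨x, hxH⟩ from Char.extendByZero_coe H ψ.1 ⟨x, hxH⟩,
    Finset.sum_mul]
  have := congrFun hm ⟨x, hxH⟩
  simp only [Finset.sum_apply, Pi.smul_apply, smul_eq_mul] at this
  refine (show χ.1 x = _ from this).trans (Finset.sum_congr rfl fun η _ => ?_)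
  by_cases hη : m η = 0
  · rw [hη, Nat.cast_zero, zero_mul, zero_mul, zero_mul]
  · rw [hβ η hη, hq]
    ring

/-- At most `k(G / N)` characters lie over an invariant character. -/
theorem card_over_le (θ : IrrCharacter N) (hinv : ∀ g, Char.conjFun N θ.1 g = θ.1) :
    Nat.card {χ : IrrCharacter G // classInner (Char.resFun N χ.1) θ.1 ≠ 0} ≤
      Nat.card (ConjClasses (G ⧸ N)) := by
  classical
  haveI := Fintype.ofFinite (ConjClasses (G ⧸ N))
  haveI := Fintype.ofFinite {χ : IrrCharacter G // classInner (Char.resFun N χ.1) θ.1 ≠ 0}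
  have hrep : ∀ C : ConjClasses (G ⧸ N), ∃ g : G, ConjClasses.mk (g : G ⧸ N) = C := fun C => by
    obtain ⟨q, rfl⟩ := ConjClasses.mk_surjective C
    obtain ⟨g, rfl⟩ := QuotientGroup.mk_surjective q
    exact ⟨g, rfl⟩
  choose g hg using hrep
  choose ψ hψ using fun C => exists_proportional N θ hinv (g C)
  choose c hc using fun (χ : {χ : IrrCharacter G // classInner (Char.resFun N χ.1) θ.1 ≠ 0}) C =>
    hψ C χ.1 χ.2
  have hli : LinearIndependent ℂ c := by
    rw [Fintype.linearIndependent_iff]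
    intro a ha
    have hzero : ∑ χ, a χ • χ.1.1 = 0 := by
      funext x
      set C : ConjClasses (G ⧸ N) := ConjClasses.mk (x : G ⧸ N) with hC
      obtain ⟨q, hq⟩ := isConj_iff.1 (ConjClasses.mk_eq_mk_iff_isConj.1 ((hg C).trans hC).symm)
      obtain ⟨y, rfl⟩ := QuotientGroup.mk_surjective q
      have hconj : ∀ χ : IrrCharacter G, χ.1 x = χ.1 (y * x * y⁻¹) := fun χ =>
        (Char.IsCharacter.isClassFunction (Char.irr_isCharacter χ) x y).symm
      have hcoset : ((y * x * y⁻¹ : G) : G ⧸ N) = (g C : G ⧸ N) := by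
        rw [← hq]
        rfl
      rw [Finset.sum_apply, Pi.zero_apply]
      calc ∑ χ, (a χ • χ.1.1) x = ∑ χ, a χ * c χ C * ψ C (y * x * y⁻¹) :=
            Finset.sum_congr rfl fun χ _ => by
              rw [Pi.smul_apply, smul_eq_mul, hconj χ.1, hc χ C _ hcoset, ← mul_assoc (a χ)]
        _ = (∑ χ, a χ * c χ C) * ψ C (y * x * y⁻¹) := by rw [Finset.sum_mul]
        _ = 0 := by
          have := congrFun ha C
          simp only [Finset.sum_apply, Pi.smul_apply, smul_eq_mul, Pi.zero_apply] at this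
          rw [this, zero_mul]
    exact Fintype.linearIndependent_iff.1
      ((Char.linearIndependent_irr (G := G)).comp Subtype.val Subtype.val_injective) a hzero
  have h := hli.fintype_card_le_finrank
  rwa [Module.finrank_fintype_fun_eq_card, ← Nat.card_eq_fintype_card, ← Nat.card_eq_fintype_card] at h

end Cfsg.Agent.SolvLin
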