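import Cfsg.Agent.Lib.SolvLin.GVMain
import Cfsg.Agent.Lib.SolvLin.CharCount
import Cfsg.Agent.Lib.BlocksX.FongHeight

/-!
# The size of a block of a solvable group
-/

set_option linter.style.haveILetI false
set_option linter.unusedSectionVars false

namespace Cfsg.Agent.SolvLin

open Cfsg Cfsg.Agent.Blocks Cfsg.Agent.BlocksX

universe u

variable {p : ℕ} [hp : Fact p.Prime] {M : Ideal AlgInt}

/-- `3 k(B) ≤ (3 p) ^ d` for blocks of positive defect of solvable groups. -/
theorem three_mul_card_block_le (hM : IsPModular p M) :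
    ∀ {G : Type u} [Group G] [Fintype G], Group.IsSolvable G → ∀ (B : Set (IrrCharacter G)),
      IsPBlock M B → 0 < blockDefect p B → 3 * Set.ncard B ≤ (3 * p) ^ blockDefect p B := by
  classical
  haveI := hM.2.1
  have hpM := hM.2.2
  suffices h : ∀ (n : ℕ) (G : Type u) [Group G] [Fintype G], Nat.card G = n → Group.IsSolvable G →
      ∀ (B : Set (IrrCharacter G)), IsPBlock M B → 0 < blockDefect p B →
        3 * Set.ncard B ≤ (3 * p) ^ blockDefect p B by
    intro G _ _
    exact h _ G rfl
  intro n
  induction n using Nat.strong_induction_on with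
  | _ n ih =>
  intro G _ _ hn hsolv B hB hd
  haveI := hsolv
  obtain ⟨χ, hχ⟩ := block_nonempty hB
  set N := pPrimeCore p G with hNdef
  haveI := Fintype.ofFinite N
  have hNp : ¬ p ∣ Nat.card N :=
    hp.out.coprime_iff_not_dvd.1 (PCore.coprime_card_pPrimeCore (p := p) (G := G)).symm
  obtain ⟨θ, hθ⟩ := Char.exists_constituent N χ
  have hb : blockOf M θ.1 = {θ} := (blockOf_eq_singleton_iff hpM θ).2 (by
    rw [Nat.factorization_eq_zero_of_not_dvd hNp,
      Nat.factorization_eq_zero_of_not_dvd fun h => hNp (h.trans (Char.degree_dvd_natCard θ))])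
  set T := Char.inertia N θ.1 with hT
  haveI := Fintype.ofFinite T
  have hNT : N ≤ T := Char.le_inertia N (Char.IsCharacter.isClassFunction (Char.irr_isCharacter θ))
  have SD : StabData M N T {θ} := ⟨hNT, hb ▸ isPBlock_blockOf θ, fun g => by
    rw [hT, Char.mem_inertia]
    exact ⟨fun h η hη => by
      rw [Set.mem_singleton_iff] at hη ⊢
      subst hη
      exact Subtype.ext h, fun h => congrArg Subtype.val (Set.mem_singleton_iff.1 (h θ rfl))⟩⟩
  by_cases htop : T = ⊤
  · have hinv : ∀ g : G, Char.conjFun N θ.1 g = θ.1 := fun g => by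
      rw [← Char.mem_inertia, ← hT, htop]; exact Subgroup.mem_top g
    obtain ⟨B₀, hB₀, hiff, hsyl, hdef⟩ := S4492.result p M hM (PCore.isPSolvable_of_isSolvable) N
      hNdef θ fun g m => (Char.conjFun_eq_self_iff N θ.1 g).1 (hinv g) m _ rfl
    obtain rfl : B = B₀ := block_eq_of_mem hB hB₀ hχ ((hiff χ).2 hθ)
    have hcount : Set.ncard B ≤ Nat.card (ConjClasses (G ⧸ N)) := by
      rw [← Nat.card_coe_set_eq]
      refine le_trans (le_of_eq ?_) (card_over_le N θ hinv)
      exact Nat.card_congr (Equiv.subtypeEquivRight fun ψ => hiff ψ)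
    obtain ⟨P⟩ := (inferInstance : Nonempty (Sylow p G))
    have hcard := card_defectGroup hpM hB (hsyl P)
    rw [Sylow.card_eq_multiplicity] at hcard
    have hd' : (Nat.card G).factorization p = blockDefect p B :=
      Nat.pow_right_injective hp.out.two_le hcard
    have hfac : (Nat.card (G ⧸ N)).factorization p = blockDefect p B := by
      rw [← hd', ← N.card_mul_index, Nat.factorization_mul Nat.card_pos.ne'
        Subgroup.index_ne_zero_of_finite, Finsupp.add_apply, Nat.factorization_eq_zero_of_not_dvd hNp,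
        zero_add]
      rfl
    haveI : Nontrivial (G ⧸ N) := by
      refine not_subsingleton_iff_nontrivial.1 fun hs => hd.ne ?_
      rw [← hfac, (Nat.card_eq_one_iff_unique.2 ⟨hs, inferInstance⟩ : Nat.card (G ⧸ N) = 1)]
      simp
    have hno : NoPPrimeNormal p (G ⧸ N) := fun K hK hKp => by
      haveI := hK
      have hle : K ≤ pPrimeCore p (G ⧸ N) :=
        PCore.le_pPrimeCore ((hp.out.coprime_iff_not_dvd.2 hKp).symm)
      have hbot : pPrimeCore p (G ⧸ N) = ⊥ := PCore.pPrimeCore_quotient_self_eq_bot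
      exact eq_bot_iff.2 (hbot ▸ hle)
    refine (Nat.mul_le_mul_left 3 hcount).trans ?_
    rw [← hfac]
    exact three_mul_classes_le hp.out hno
  · have hlt : Nat.card T < n := by
      rw [← hn]
      refine lt_of_le_of_ne (Nat.le_of_dvd Nat.card_pos T.card_subgroup_dvd_card) fun h => htop ?_
      exact Subgroup.eq_top_of_card_eq T h
    obtain ⟨ψ, hψ, he⟩ := SD.exists_over_T (Set.mem_singleton θ) hθ
    have hB' := isPBlock_blockOf (M := M) ψ
    have hsub : blockOf M ψ.1 ⊆ overB T {θ} := SD.blockOf_subset hψ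
    have hχeq : frMap T (Char.trivialChar G) ψ = χ :=
      Subtype.ext ((SD.frMap_coe hψ).trans he.symm)
    have himg : B = frMap T (Char.trivialChar G) '' blockOf M ψ.1 := by
      rw [SD.image_block hB' hsub (mem_blockOf_self ψ), hχeq]
      exact block_eq hB hχ
    have hdd : blockDefect p B = blockDefect p (blockOf M ψ.1) := by
      rw [himg]
      exact SD.defect_image ⟨ψ, mem_blockOf_self ψ⟩ hsub
    rw [hdd] at hd ⊢
    rw [himg, Set.InjOn.ncard_image (SD.frMap_injOn.mono hsub)]
    exact ih _ hlt T rfl inferInstance _ hB' hd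

end Cfsg.Agent.SolvLin
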