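import Mathlib

/-!
# An abelian normal subgroup either spans a field or yields a system of blocks
-/

set_option autoImplicit false
set_option linter.style.haveILetI false

namespace Cfsg.Agent.SolvLin

open Module
open scoped IsMulCommutative

universe u v w

set_option linter.unusedSectionVars false

variable {k : Type w} [Field k] {V : Type v} [AddCommGroup V] [Module k V]
variable {G : Type u} [Group G] (ρ : G →* Module.End k V) (A : Subgroup G)

/-- The algebra spanned by the images of the elements of `A`. -/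
def algOf : Subalgebra k (Module.End k V) := Algebra.adjoin k (ρ '' (A : Set G))

theorem rho_mem_algOf {a : G} (ha : a ∈ A) : ρ a ∈ algOf ρ A := Algebra.subset_adjoin ⟨a, ha, rfl⟩

theorem algOf_comm (hab : ∀ a ∈ A, ∀ b ∈ A, a * b = b * a) :
    ∀ x ∈ ρ '' (A : Set G), ∀ y ∈ ρ '' (A : Set G), x * y = y * x := by
  rintro _ ⟨a, ha, rfl⟩ _ ⟨b, hb, rfl⟩
  rw [← map_mul, ← map_mul, hab a ha b hb]

theorem rho_inv_mul (g : G) : ρ g⁻¹ * ρ g = 1 := by rw [← map_mul, inv_mul_cancel, map_one]

theorem rho_mul_inv (g : G) : ρ g * ρ g⁻¹ = 1 := by rw [← map_mul, mul_inv_cancel, map_one]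

/-- Conjugation by `ρ g`. -/
def conjEnd (g : G) : Module.End k V →ₐ[k] Module.End k V where
  toFun x := ρ g * x * ρ g⁻¹
  map_one' := by rw [mul_one, rho_mul_inv]
  map_mul' x y := by
    calc ρ g * (x * y) * ρ g⁻¹ = ρ g * x * 1 * y * ρ g⁻¹ := by simp only [mul_one, mul_assoc]
      _ = ρ g * x * ρ g⁻¹ * (ρ g * y * ρ g⁻¹) := by
        rw [← rho_inv_mul ρ g]; simp only [mul_assoc]
  map_zero' := by rw [mul_zero, zero_mul]
  map_add' x y := by rw [mul_add, add_mul]
  commutes' r := by
    rw [← Algebra.commutes r (ρ g), mul_assoc, rho_mul_inv, mul_one]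

theorem conjEnd_mem [A.Normal] (g : G) {x : Module.End k V} (hx : x ∈ algOf ρ A) :
    conjEnd ρ g x ∈ algOf ρ A := by
  have h : algOf ρ A ≤ (algOf ρ A).comap (conjEnd ρ g) := Algebra.adjoin_le <| by
    rintro _ ⟨a, ha, rfl⟩
    show ρ g * ρ a * ρ g⁻¹ ∈ algOf ρ A
    rw [← map_mul, ← map_mul]
    exact rho_mem_algOf ρ A (Subgroup.Normal.conj_mem inferInstance a ha g)
  exact h hx

theorem conjEnd_mul (g h : G) (x : Module.End k V) :
    conjEnd ρ g (conjEnd ρ h x) = conjEnd ρ (g * h) x := by
  show ρ g * (ρ h * x * ρ h⁻¹) * ρ g⁻¹ = ρ (g * h) * x * ρ (g * h)⁻¹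
  rw [mul_inv_rev, map_mul, map_mul]
  simp only [mul_assoc]

/-- A system of blocks: orthogonal idempotents with sum `1`, permuted by `G`. -/
structure Blocks (ρ : G →* Module.End k V) where
  S : Finset (Module.End k V)
  one_lt : 1 < S.card
  ne_zero : ∀ e ∈ S, e ≠ 0
  idem : ∀ e ∈ S, e * e = e
  orth : ∀ e ∈ S, ∀ f ∈ S, e ≠ f → e * f = 0
  sum_eq : ∑ e ∈ S, e = 1
  conj_mem : ∀ g : G, ∀ e ∈ S, conjEnd ρ g e ∈ S

/-- **Dichotomy**: the algebra of an abelian normal subgroup of order invertible in `k` is a field,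
or there is a system of blocks. -/
theorem field_or_blocks [Finite G] [A.Normal] (hab : ∀ a ∈ A, ∀ b ∈ A, a * b = b * a)
    [hne : NeZero (Nat.card A : k)] [Nontrivial V] :
    IsField (algOf ρ A) ∨ Nonempty (Blocks ρ) := by
  classical
  haveI : IsMulCommutative (algOf ρ A) := Algebra.isMulCommutative_adjoin k (algOf_comm ρ A hab)
  haveI hss : IsSemisimpleRing (algOf ρ A) := by
    let ι : A →* algOf ρ A :=
      { toFun := fun a => ⟨ρ a, rho_mem_algOf ρ A a.2⟩
        map_one' := Subtype.ext (map_one ρ)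
        map_mul' := fun a b => Subtype.ext (map_mul ρ _ _) }
    let φ : MonoidAlgebra k A →ₐ[k] algOf ρ A := MonoidAlgebra.lift k (algOf ρ A) A ι
    refine RingHom.isSemisimpleRing_of_surjective φ.toRingHom fun x => ?_
    have h : algOf ρ A ≤ φ.range.map (algOf ρ A).val := Algebra.adjoin_le <| by
      rintro _ ⟨a, ha, rfl⟩
      refine ⟨ι ⟨a, ha⟩, ⟨MonoidAlgebra.of k A ⟨a, ha⟩, ?_⟩, rfl⟩
      exact MonoidAlgebra.lift_of ι ⟨a, ha⟩
    obtain ⟨y, ⟨z, hz⟩, hyx⟩ := h x.2
    exact ⟨z, Subtype.ext ((congrArg Subtype.val hz).trans hyx)⟩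
  haveI : Nontrivial (algOf ρ A) := inferInstance
  by_cases hf : IsField (algOf ρ A)
  · exact Or.inl hf
  right
  obtain ⟨a, ha0, hau⟩ : ∃ a : algOf ρ A, a ≠ 0 ∧ ¬ IsUnit a := by
    by_contra hno
    refine hf ⟨exists_pair_ne _, mul_comm, fun {a} ha => ?_⟩
    obtain ⟨b, hb⟩ := (Classical.not_not.1 fun hu => hno ⟨a, ha, hu⟩ : IsUnit a).exists_right_inv
    exact ⟨b, hb⟩
  obtain ⟨e, hei, hee⟩ := IsSemisimpleRing.ideal_eq_span_idempotent (Ideal.span {a})
  have he0 : e ≠ 0 := fun h0 => ha0 <| by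
    have : a ∈ Ideal.span {e} := hee ▸ Ideal.mem_span_singleton_self a
    rw [h0, Ideal.span_singleton_eq_bot.2 rfl] at this
    exact (Submodule.mem_bot _).1 this
  have he1 : e ≠ 1 := fun h1 => hau <| Ideal.span_singleton_eq_top.1 <| by
    rw [hee, h1, Ideal.span_singleton_one]
  haveI := Fintype.ofFinite G
  let cE : G → algOf ρ A → algOf ρ A := fun g x => ⟨conjEnd ρ g x, conjEnd_mem ρ A g x.2⟩
  have cE_mul : ∀ g x y, cE g (x * y) = cE g x * cE g y := fun g x y =>
    Subtype.ext (map_mul (conjEnd ρ g) _ _)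
  have cE_one : ∀ g, cE g 1 = 1 := fun g => Subtype.ext (map_one (conjEnd ρ g))
  have cE_sub : ∀ g x, cE g (1 - x) = 1 - cE g x := fun g x =>
    Subtype.ext (by
      show conjEnd ρ g ((1 : Module.End k V) - x) = 1 - conjEnd ρ g x
      rw [map_sub, map_one])
  let f : G → algOf ρ A := fun g => cE g e
  have hfi : ∀ g, f g * f g = f g := fun g => by rw [← cE_mul, hei.eq]
  let F : G → Bool → algOf ρ A := fun g b => if b then f g else 1 - f g
  let atom : (G → Bool) → algOf ρ A := fun χ => ∏ g, F g (χ g)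
  have hatom_idem : ∀ χ, atom χ * atom χ = atom χ := fun χ => by
    show (∏ g, F g (χ g)) * (∏ g, F g (χ g)) = ∏ g, F g (χ g)
    rw [← Finset.prod_mul_distrib]
    refine Finset.prod_congr rfl fun g _ => ?_
    show (if χ g then f g else 1 - f g) * (if χ g then f g else 1 - f g) = _
    cases χ g
    · simp only [Bool.false_eq_true, if_false, F]
      linear_combination hfi g
    · simp only [if_true, F]
      exact hfi g
  have hF0 : ∀ g b b', b ≠ b' → F g b * F g b' = 0 := fun g b b' h => by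
    cases b <;> cases b' <;> simp only [F, if_true, Bool.false_eq_true, if_false]
    · exact absurd rfl h
    · linear_combination -hfi g
    · linear_combination -hfi g
    · exact absurd rfl h
  have hatom_orth : ∀ χ χ', χ ≠ χ' → atom χ * atom χ' = 0 := fun χ χ' hne' => by
    obtain ⟨g, hg⟩ := Function.ne_iff.1 hne'
    show (∏ g, F g (χ g)) * (∏ g, F g (χ' g)) = 0
    rw [← Finset.prod_mul_distrib]
    exact Finset.prod_eq_zero (Finset.mem_univ g) (hF0 g _ _ hg)
  have hatom_sum : ∑ χ, atom χ = 1 := by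
    rw [show (1 : algOf ρ A) = ∏ g : G, ∑ b : Bool, F g b by
      symm; exact Finset.prod_eq_one fun g _ => by simp [F]]
    exact (Fintype.prod_sum F).symm
  have hatom_conj : ∀ h χ, cE h (atom χ) = atom fun g => χ (h⁻¹ * g) := fun h χ => by
    let cH : algOf ρ A →* algOf ρ A := { toFun := cE h, map_one' := cE_one h, map_mul' := cE_mul h }
    show cH (∏ g, F g (χ g)) = ∏ g, F g (χ (h⁻¹ * g))
    rw [map_prod, ← Equiv.prod_comp (Equiv.mulLeft h) (fun g => F g (χ (h⁻¹ * g)))]
    refine Finset.prod_congr rfl fun g _ => ?_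
    show cE h (F g (χ g)) = F (h * g) (χ (h⁻¹ * (h * g)))
    rw [inv_mul_cancel_left]
    have hfg : cE h (f g) = f (h * g) := Subtype.ext (conjEnd_mul ρ h g _)
    cases χ g
    · simp only [F, Bool.false_eq_true, if_false, cE_sub, hfg]
    · simp only [F, if_true, hfg]
  set T := Finset.univ.filter fun χ => atom χ ≠ 0 with hT
  have hinj : Set.InjOn (fun χ => (atom χ : Module.End k V)) T := fun χ hχ χ' _ hEq => by
    by_contra hne'
    have h0 := hatom_orth χ χ' hne'
    rw [← show atom χ = atom χ' from Subtype.ext hEq, hatom_idem] at h0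
    exact (Finset.mem_filter.1 hχ).2 h0
  have hsumT : ∑ χ ∈ T, atom χ = 1 := by rw [hT, Finset.sum_filter_ne_zero, hatom_sum]
  refine ⟨{ S := T.image fun χ => (atom χ : Module.End k V), one_lt := ?_, ne_zero := ?_, idem := ?_,
            orth := ?_, sum_eq := ?_, conj_mem := ?_ }⟩
  · rw [Finset.card_image_of_injOn hinj]
    by_contra hle
    obtain ⟨χ, hχ⟩ : ∃ χ, χ ∈ T := by
      by_contra hno
      rw [Finset.eq_empty_of_forall_notMem fun χ h => hno ⟨χ, h⟩, Finset.sum_empty] at hsumT
      exact zero_ne_one hsumT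
    have hTs : T = {χ} := (Finset.eq_of_subset_of_card_le (Finset.singleton_subset_iff.2 hχ)
      (by simpa using not_lt.1 hle)).symm
    rw [hTs, Finset.sum_singleton] at hsumT
    have hF : F 1 (χ 1) * atom χ = atom χ := by
      show F 1 (χ 1) * ∏ g, F g (χ g) = ∏ g, F g (χ g)
      rw [← Finset.mul_prod_erase _ _ (Finset.mem_univ (1 : G)), ← mul_assoc]
      congr 1
      cases χ 1
      · simp only [F, Bool.false_eq_true, if_false]
        linear_combination hfi 1
      · simp only [F, if_true]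
        exact hfi 1
    rw [hsumT, mul_one] at hF
    have hf1 : f 1 = e := Subtype.ext (show ρ 1 * (e : Module.End k V) * ρ 1⁻¹ = e by
      rw [inv_one, map_one, one_mul, mul_one])
    rcases Bool.eq_false_or_eq_true (χ 1) with hb | hb <;>
      simp only [F, hb, if_true, Bool.false_eq_true, if_false, hf1] at hF
    · exact he1 hF
    · exact he0 (sub_eq_self.1 hF)
  · intro x hx
    obtain ⟨χ, hχ, rfl⟩ := Finset.mem_image.1 hx
    exact fun h0 => (Finset.mem_filter.1 hχ).2 (Subtype.ext h0)
  · intro x hx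
    obtain ⟨χ, _, rfl⟩ := Finset.mem_image.1 hx
    exact congrArg Subtype.val (hatom_idem χ)
  · intro x hx y hy hxy
    obtain ⟨χ, _, rfl⟩ := Finset.mem_image.1 hx
    obtain ⟨χ', _, rfl⟩ := Finset.mem_image.1 hy
    exact congrArg Subtype.val (hatom_orth χ χ' fun h => hxy (by rw [h]))
  · rw [Finset.sum_image hinj, ← AddSubmonoidClass.coe_finsetSum, hsumT]
    rfl
  · intro g x hx
    obtain ⟨χ, hχ, rfl⟩ := Finset.mem_image.1 hx
    refine Finset.mem_image.2 ⟨fun h => χ (g⁻¹ * h), Finset.mem_filter.2 ⟨Finset.mem_univ _, ?_⟩,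
      congrArg Subtype.val (hatom_conj g χ).symm⟩
    rw [← hatom_conj]
    intro h0
    refine (Finset.mem_filter.1 hχ).2 (Subtype.ext ?_)
    have h1 := congrArg (conjEnd ρ g⁻¹) (congrArg Subtype.val h0)
    simp only [cE] at h1
    rw [conjEnd_mul, inv_mul_cancel] at h1
    simpa [conjEnd] using h1

namespace Blocks

variable {ρ}
variable (B : Blocks ρ)

/-- The space of one block. -/
abbrev space (e : B.S) : Submodule k V := LinearMap.range (e : Module.End k V)

theorem apply_of_mem {e : B.S} {x : V} (hx : x ∈ B.space e) : (e : Module.End k V) x = x := by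
  obtain ⟨y, rfl⟩ := hx
  exact LinearMap.congr_fun (B.idem e e.2) y

theorem nontrivial_space (e : B.S) : Nontrivial (B.space e) :=
  Submodule.nontrivial_iff_ne_bot.2 fun h => B.ne_zero e e.2 (LinearMap.range_eq_bot.1 h)

theorem decomp (x : V) : ∑ e : B.S, (e : Module.End k V) x = x := by
  rw [Finset.sum_coe_sort B.S fun e => e x, ← LinearMap.sum_apply, B.sum_eq, Module.End.one_apply]

/-- The space is the product of the blocks. -/
noncomputable def equivPi : V ≃ₗ[k] ((e : B.S) → B.space e) where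
  toFun x e := ⟨(e : Module.End k V) x, x, rfl⟩
  map_add' x y := funext fun e => Subtype.ext (map_add (e : Module.End k V) x y)
  map_smul' r x := funext fun e => Subtype.ext (map_smul (e : Module.End k V) r x)
  invFun y := ∑ e, (y e : V)
  left_inv x := B.decomp x
  right_inv y := funext fun e => Subtype.ext <| by
    show (e : Module.End k V) (∑ f, (y f : V)) = y e
    rw [map_sum, Finset.sum_eq_single e]
    · exact B.apply_of_mem (y e).2
    · intro f _ hf
      obtain ⟨z, hz⟩ := (y f).2
      rw [← hz, ← Module.End.mul_apply,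
        B.orth e e.2 f f.2 fun h => hf (Subtype.ext h).symm, LinearMap.zero_apply]
    · exact fun h => absurd (Finset.mem_univ e) h

theorem sum_finrank [FiniteDimensional k V] :
    ∑ e : B.S, finrank k (B.space e) = finrank k V := by
  rw [B.equivPi.finrank_eq, Module.finrank_pi_fintype]

/-- The action on the blocks. -/
def perm : G →* Equiv.Perm B.S where
  toFun g :=
    { toFun := fun e => ⟨conjEnd ρ g e, B.conj_mem g e e.2⟩
      invFun := fun e => ⟨conjEnd ρ g⁻¹ e, B.conj_mem g⁻¹ e e.2⟩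
      left_inv := fun e => Subtype.ext <| by
        show conjEnd ρ g⁻¹ (conjEnd ρ g e) = e
        rw [conjEnd_mul, inv_mul_cancel]; simp [conjEnd]
      right_inv := fun e => Subtype.ext <| by
        show conjEnd ρ g (conjEnd ρ g⁻¹ e) = e
        rw [conjEnd_mul, mul_inv_cancel]; simp [conjEnd] }
  map_one' := Equiv.ext fun e => Subtype.ext <| by simp [conjEnd]
  map_mul' g h := Equiv.ext fun e => Subtype.ext (conjEnd_mul ρ g h e).symm

theorem rho_apply_block (g : G) (e : B.S) (x : V) :
    ρ g ((e : Module.End k V) x) = (B.perm g e : Module.End k V) (ρ g x) := by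
  show _ = (ρ g * (e : Module.End k V) * ρ g⁻¹) (ρ g x)
  rw [Module.End.mul_apply, Module.End.mul_apply, ← Module.End.mul_apply (ρ g⁻¹), rho_inv_mul,
    Module.End.one_apply]

/-- The stabiliser of a block. -/
def stab (e : B.S) : Subgroup G := (MulAction.stabilizer (Equiv.Perm B.S) e).comap B.perm

theorem mem_stab {e : B.S} {g : G} : g ∈ B.stab e ↔ B.perm g e = e := Iff.rfl

theorem ker_le_stab (e : B.S) : B.perm.ker ≤ B.stab e := fun g hg => by
  rw [mem_stab, MonoidHom.mem_ker.1 hg, Equiv.Perm.one_apply]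

theorem maps_space {e : B.S} {g : G} (hg : g ∈ B.stab e) {x : V} (hx : x ∈ B.space e) :
    ρ g x ∈ B.space e := by
  refine ⟨ρ g x, ?_⟩
  have h := B.rho_apply_block g e x
  rw [B.apply_of_mem hx, B.mem_stab.1 hg] at h
  exact h.symm

/-- The action of the stabiliser on its block. -/
def onBlock (e : B.S) : B.stab e →* Module.End k (B.space e) where
  toFun g := (ρ (g : G)).restrict fun _ hx => B.maps_space g.2 hx
  map_one' := LinearMap.ext fun x => Subtype.ext (LinearMap.congr_fun (map_one ρ) (x : V))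
  map_mul' g h := LinearMap.ext fun x => Subtype.ext (LinearMap.congr_fun (map_mul ρ (g : G) h) (x : V))

theorem eq_one_of_onBlock (hρ : Function.Injective ρ) {g : G} (hg : g ∈ B.perm.ker)
    (h : ∀ e : B.S, B.onBlock e ⟨g, B.ker_le_stab e hg⟩ = 1) : g = 1 := by
  refine hρ (LinearMap.ext fun x => ?_)
  rw [map_one, Module.End.one_apply]
  conv_lhs => rw [← B.decomp x, map_sum]
  conv_rhs => rw [← B.decomp x]
  refine Finset.sum_congr rfl fun e _ => ?_
  exact (congrArg Subtype.val (LinearMap.congr_fun (h e) ⟨(e : Module.End k V) x, x, rfl⟩) :)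

end Blocks

end Cfsg.Agent.SolvLin
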