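import Mathlib
import Cfsg.Prelude.Def_Solvable
import Cfsg.Agent.Lib.Components.Fitting
import Cfsg.Agent.Lib.Solvable.Basic

/-!
# The Fitting subgroup when all abelian normal subgroups are scalar
-/

set_option autoImplicit false
set_option linter.style.haveILetI false
set_option linter.unusedSectionVars false

namespace Cfsg.Agent.SolvLin

open Subgroup Module
open scoped commutatorElement

variable {L : Type} [Field L] {V : Type} [AddCommGroup V] [Module L V] [FiniteDimensional L V]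
  [Nontrivial V]

/-- A normal subgroup `C` of `X`, linear over `L`, whose abelian subgroups normal in `X` consist of
scalars. -/
structure Core (L : Type) [Field L] (V : Type) [AddCommGroup V] [Module L V] (X : Type) [Group X] where
  C : Subgroup X
  A : Subgroup X
  C_normal : C.Normal
  A_normal : A.Normal
  A_le : A ≤ C
  solv : Group.IsSolvable C
  σ : C →* Module.End L V
  inj : Function.Injective σ
  scalar : ∀ c : C, (c : X) ∈ A ↔ ∃ l : L, σ c = algebraMap L (Module.End L V) l
  abelian_le : ∀ U : Subgroup X, U ≤ C → U.Normal → (∀ a ∈ U, ∀ b ∈ U, a * b = b * a) → U ≤ A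

namespace Core

variable {X : Type} [Group X] [Finite X] (S : Core L V X)

instance : S.C.Normal := S.C_normal

instance : S.A.Normal := S.A_normal

instance : Group.IsSolvable S.C := S.solv

theorem central {a : X} (ha : a ∈ S.A) {c : X} (hc : c ∈ S.C) : Commute a c := by
  obtain ⟨l, hl⟩ := (S.scalar ⟨a, S.A_le ha⟩).1 ha
  have h : (⟨a, S.A_le ha⟩ : S.C) * ⟨c, hc⟩ = ⟨c, hc⟩ * ⟨a, S.A_le ha⟩ := S.inj <| by
    rw [map_mul, map_mul, hl]
    exact Algebra.commutes l _
  exact congrArg Subtype.val h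

/-- The Fitting subgroup of `C`. -/
def F : Subgroup X := (Cfsg.fittingSubgroup S.C).map S.C.subtype

theorem F_le : S.F ≤ S.C := Subgroup.map_subtype_le _

theorem mem_F {c : S.C} : (c : X) ∈ S.F ↔ c ∈ Cfsg.fittingSubgroup S.C := by
  show S.C.subtype c ∈ (Cfsg.fittingSubgroup S.C).map S.C.subtype ↔ _
  exact Subgroup.mem_map_iff_mem S.C.subtype_injective

instance F_normal : S.F.Normal where
  conj_mem x hx g := by
    obtain ⟨c, hc, rfl⟩ := hx
    refine ⟨MulAut.conjNormal (H := S.C) g c, ?_, rfl⟩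
    rw [← Components.map_fittingSubgroup (MulAut.conjNormal (H := S.C) g)]
    exact ⟨c, hc, rfl⟩

theorem A_le_F : S.A ≤ S.F := by
  intro a ha
  haveI : IsMulCommutative (S.A.subgroupOf S.C) := ⟨⟨fun x y =>
    Subtype.ext (Subtype.ext (S.central x.2 (y : S.C).2).eq)⟩⟩
  letI : CommGroup (S.A.subgroupOf S.C) :=
    { (inferInstance : Group (S.A.subgroupOf S.C)) with mul_comm := mul_comm' }
  exact S.mem_F.2 (Components.le_fittingSubgroup (inferInstance : (S.A.subgroupOf S.C).Normal)
    (x := ⟨a, S.A_le ha⟩) (show (⟨a, S.A_le ha⟩ : S.C) ∈ S.A.subgroupOf S.C from ha))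

instance F_nilpotent : Group.IsNilpotent S.F := by
  haveI := Components.fittingSubgroup_isNilpotent S.C
  exact (Group.isNilpotent_congr
    (Subgroup.equivMapOfInjective (Cfsg.fittingSubgroup S.C) S.C.subtype S.C.subtype_injective)).1
    inferInstance

theorem inf_centralizer_le {U : Subgroup X} [U.Normal] (hU : U ≤ S.C) :
    U ⊓ centralizer (U : Set X) ≤ S.A :=
  S.abelian_le _ (inf_le_left.trans hU) inferInstance fun _ ha _ hb =>
    ((mem_centralizer_iff.1 hb.2) _ ha.1)

/-- The Fitting subgroup has class at most 2. -/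
theorem commutator_mem {x y : X} (hx : x ∈ S.F) (hy : y ∈ S.F) : ⁅x, y⁆ ∈ S.A := by
  classical
  set P := ↥S.F
  let Z2 : Subgroup P := Subgroup.upperCentralSeries P 2
  let D : Subgroup P := commutator P
  haveI : D.Characteristic := inferInstanceAs (commutator P).Characteristic
  haveI : Z2.Characteristic := inferInstanceAs (Subgroup.upperCentralSeries P 2).Characteristic
  have hZ2 : ∀ z ∈ Z2, ∀ p : P, ⁅z, p⁆ ∈ center P := fun z hz p => by
    have h := (Subgroup.mem_upperCentralSeries_succ_iff (n := 1)).1 hz p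
    rwa [Subgroup.upperCentralSeries_one] at h
  have h1 : ⁅⁅Z2, (⊤ : Subgroup P)⁆, (⊤ : Subgroup P)⁆ = ⊥ := by
    rw [Subgroup.commutator_eq_bot_iff_le_centralizer, Subgroup.commutator_le]
    intro z hz p _
    rw [Subgroup.coe_top, Subgroup.centralizer_univ]
    exact hZ2 z hz p
  have h2 : ⁅⁅(⊤ : Subgroup P), Z2⁆, (⊤ : Subgroup P)⁆ = ⊥ := by
    rwa [Subgroup.commutator_comm ⊤ Z2]
  have h3 : ⁅⁅(⊤ : Subgroup P), (⊤ : Subgroup P)⁆, Z2⁆ = ⊥ :=
    Subgroup.commutator_commutator_eq_bot_of_rotate h2 h1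
  have hYA : (D ⊓ Z2).map S.F.subtype ≤ S.A := by
    refine S.abelian_le _ ((Subgroup.map_subtype_le _).trans S.F_le) inferInstance ?_
    rintro _ ⟨a, ha, rfl⟩ _ ⟨b, hb, rfl⟩
    have h := Subgroup.commutator_eq_bot_iff_le_centralizer.1 h3 ha.1
    exact congrArg Subtype.val (mem_centralizer_iff.1 h b hb.2).symm
  have hcen : ∀ a : P, (a : X) ∈ S.A → a ∈ center P := fun a ha =>
    mem_center_iff.2 fun b => Subtype.ext (S.central ha (S.F_le b.2)).eq.symm
  have hcenA : ∀ a : P, a ∈ center P → (a : X) ∈ S.A := fun a ha =>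
    S.inf_centralizer_le S.F_le ⟨a.2, mem_centralizer_iff.2 fun b hb =>
      congrArg Subtype.val (mem_center_iff.1 ha ⟨b, hb⟩)⟩
  have hD : D ≤ center P := by
    by_contra hne
    have hbot : D.map (QuotientGroup.mk' (center P)) ≠ ⊥ := fun h => hne <| by
      rwa [Subgroup.map_eq_bot_iff, QuotientGroup.ker_mk'] at h
    haveI : (D.map (QuotientGroup.mk' (center P))).Normal :=
      Subgroup.Normal.map inferInstance _ (QuotientGroup.mk'_surjective _)
    obtain ⟨⟨_, ⟨d, hdD, rfl⟩, hdc⟩, hd1⟩ : ∃ w : ↥(D.map (QuotientGroup.mk' (center P)) ⊓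
        center (P ⧸ center P)), w ≠ 1 := by
      haveI := (Subgroup.nontrivial_iff_ne_bot _).2 (Solvable.inf_center_ne_bot hbot)
      exact exists_ne 1
    have hdZ2 : d ∈ Z2 := by
      refine (Subgroup.mem_upperCentralSeries_succ_iff (n := 1)).2 fun p => ?_
      rw [Subgroup.upperCentralSeries_one, ← QuotientGroup.eq_one_iff]
      have hc := mem_center_iff.1 hdc (p : P ⧸ center P)
      show ((d * p * d⁻¹ * p⁻¹ : P) : P ⧸ center P) = 1
      rw [QuotientGroup.mk_mul, QuotientGroup.mk_mul, QuotientGroup.mk_mul, QuotientGroup.mk_inv,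
        QuotientGroup.mk_inv]
      rw [show (d : P ⧸ center P) * p = p * d from hc.symm, mul_inv_cancel_right, mul_inv_cancel]
    refine hd1 (Subtype.ext ?_)
    show ((d : P) : P ⧸ center P) = 1
    rw [QuotientGroup.eq_one_iff]
    exact hcen d (hYA ⟨d, ⟨hdD, hdZ2⟩, rfl⟩)
  exact hcenA ⁅(⟨x, hx⟩ : P), ⟨y, hy⟩⁆ (hD (Subgroup.commutator_mem_commutator (mem_top _) (mem_top _)))

/-- The scalar by which an element of `A` acts. -/
noncomputable def sc : S.A →* L where
  toFun a := ((S.scalar ⟨a, S.A_le a.2⟩).1 a.2).choose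
  map_one' := by
    refine (algebraMap L (Module.End L V)).injective ?_
    rw [← ((S.scalar ⟨((1 : S.A) : X), S.A_le (1 : S.A).2⟩).1 (1 : S.A).2).choose_spec, map_one]
    exact map_one S.σ
  map_mul' a b := by
    refine (algebraMap L (Module.End L V)).injective ?_
    rw [← ((S.scalar ⟨((a * b : S.A) : X), S.A_le (a * b : S.A).2⟩).1 (a * b : S.A).2).choose_spec,
      map_mul, ← ((S.scalar ⟨(a : X), S.A_le a.2⟩).1 a.2).choose_spec,
      ← ((S.scalar ⟨(b : X), S.A_le b.2⟩).1 b.2).choose_spec]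
    exact map_mul S.σ ⟨(a : X), S.A_le a.2⟩ ⟨(b : X), S.A_le b.2⟩

theorem σ_of_mem (a : S.A) : S.σ ⟨a, S.A_le a.2⟩ = algebraMap L (Module.End L V) (S.sc a) :=
  ((S.scalar ⟨(a : X), S.A_le a.2⟩).1 a.2).choose_spec

theorem sc_injective : Function.Injective S.sc := fun a b h => by
  have := S.inj ((S.σ_of_mem a).trans ((congrArg _ h).trans (S.σ_of_mem b).symm))
  exact Subtype.ext (congrArg (fun c : S.C => (c : X)) this)

/-- The commutator with an element, as a character of `F`. -/
noncomputable def chi {c : X} (hc : ∀ y ∈ S.F, ⁅c, y⁆ ∈ S.A) : S.F →* L where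
  toFun y := S.sc ⟨⁅c, (y : X)⁆, hc y y.2⟩
  map_one' := by
    rw [← map_one S.sc]
    exact congrArg S.sc (Subtype.ext (by simp [commutatorElement_def]))
  map_mul' y z := by
    rw [← map_mul]
    refine congrArg S.sc (Subtype.ext ?_)
    have hcomm : (y : X) * ⁅c, (z : X)⁆ * (y : X)⁻¹ = ⁅c, (z : X)⁆ := by
      rw [← (S.central (hc z z.2) (S.F_le y.2)).eq, mul_inv_cancel_right]
    show ⁅c, (y : X) * z⁆ = ⁅c, (y : X)⁆ * ⁅c, (z : X)⁆
    conv_rhs => rw [← hcomm]
    simp only [commutatorElement_def]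
    group

theorem chi_apply {c : X} (hc : ∀ y ∈ S.F, ⁅c, y⁆ ∈ S.A) (y : S.F) :
    S.chi hc y = S.sc ⟨⁅c, (y : X)⁆, hc y y.2⟩ := rfl

theorem chi_eq_one_iff {c : X} (hc : ∀ y ∈ S.F, ⁅c, y⁆ ∈ S.A) (y : S.F) :
    S.chi hc y = 1 ↔ Commute c (y : X) := by
  rw [chi_apply, ← map_one S.sc, S.sc_injective.eq_iff, Subtype.ext_iff, Subgroup.coe_one,
    commutatorElement_eq_one_iff_commute]

theorem eq_inv_mul_commute {c d : X} (hc : ∀ y ∈ S.F, ⁅c, y⁆ ∈ S.A)
    (hd : ∀ y ∈ S.F, ⁅d, y⁆ ∈ S.A) {y : S.F} (h : S.chi hc y = S.chi hd y) :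
    Commute (d⁻¹ * c) (y : X) := by
  have h' : ⁅c, (y : X)⁆ = ⁅d, (y : X)⁆ := congrArg Subtype.val (S.sc_injective h)
  have h1 : c * y * c⁻¹ = d * y * d⁻¹ := by
    simp only [commutatorElement_def] at h'
    exact mul_right_cancel h'
  rw [Commute, SemiconjBy]
  calc d⁻¹ * c * y = d⁻¹ * (c * y * c⁻¹) * c := by group
    _ = d⁻¹ * (d * y * d⁻¹) * c := by rw [h1]
    _ = y * (d⁻¹ * c) := by group

end Core

/-- At most `[M : B]` characters of `M` are trivial on `B`. -/
theorem card_characters_le {L : Type} [Field L] {M : Type} [Group M] [Finite M] (B : Subgroup M)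
    [B.Normal] : Finite {f : M →* L // B ≤ f.ker} ∧
      Nat.card {f : M →* L // B ≤ f.ker} ≤ Nat.card (M ⧸ B) := by
  have hli := linearIndependent_monoidHom (M ⧸ B) L
  haveI := Fintype.ofFinite (M ⧸ B)
  haveI hfin : Finite (M ⧸ B →* L) := hli.finite
  haveI := Fintype.ofFinite (M ⧸ B →* L)
  have hle := hli.fintype_card_le_finrank
  rw [Module.finrank_fintype_fun_eq_card, ← Nat.card_eq_fintype_card, ← Nat.card_eq_fintype_card]
    at hle
  let e : {f : M →* L // B ≤ f.ker} → (M ⧸ B →* L) := fun f => QuotientGroup.lift B f.1 f.2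
  have he : Function.Injective e := fun f g h => Subtype.ext (MonoidHom.ext fun x =>
    DFunLike.congr_fun h (x : M ⧸ B))
  exact ⟨Finite.of_injective e he, (Nat.card_le_card_of_injective e he).trans hle⟩

namespace Core

variable {X : Type} [Group X] [Finite X] (S : Core L V X)

theorem commutator_right_mem {u : X} (hu : u ∈ S.F) : ∀ y ∈ S.F, ⁅u, y⁆ ∈ S.A :=
  fun _ hy => S.commutator_mem hu hy

theorem subgroupOf_normal {B M : Subgroup X} (hAB : S.A ≤ B) (hBM : B ≤ M) (hM : M ≤ S.F) :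
    (B.subgroupOf M).Normal where
  conj_mem b hb m := by
    show (m : X) * b * (m : X)⁻¹ ∈ B
    have h : (m : X) * b * (m : X)⁻¹ = ⁅(m : X), (b : X)⁆ * b := by
      rw [commutatorElement_def, inv_mul_cancel_right]
    rw [h]
    exact B.mul_mem (hAB (S.commutator_mem (hM m.2) (hM b.2))) hb

/-- Characters separate cosets of centralisers. -/
theorem relIndex_centralizer_le {U M B : Subgroup X} (hU : U ≤ S.F) (hAB : S.A ≤ B) (hBM : B ≤ M)
    (hM : M ≤ S.F) (hcomm : ∀ u ∈ U, ∀ b ∈ B, Commute u b) :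
    (centralizer (M : Set X)).relIndex U ≤ B.relIndex M := by
  haveI := S.subgroupOf_normal hAB hBM hM
  obtain ⟨hfin, hle⟩ := card_characters_le (L := L) (B.subgroupOf M)
  refine le_trans ?_ hle
  let f : U → {f : M →* L // B.subgroupOf M ≤ f.ker} := fun u =>
    ⟨(S.chi (S.commutator_right_mem (hU u.2))).comp (Subgroup.inclusion hM), fun b hb =>
      MonoidHom.mem_ker.2 <| by
        show S.chi (S.commutator_right_mem (hU u.2)) (Subgroup.inclusion hM b) = 1
        rw [S.chi_eq_one_iff]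
        exact hcomm u u.2 b hb⟩
  have hf : ∀ a b : U, QuotientGroup.leftRel ((centralizer (M : Set X)).subgroupOf U) a b →
      f a = f b := by
    intro a b hab
    rw [QuotientGroup.leftRel_apply, mem_subgroupOf, mem_centralizer_iff] at hab
    refine Subtype.ext (MonoidHom.ext fun m => congrArg S.sc (Subtype.ext ?_))
    show ⁅(a : X), (m : X)⁆ = ⁅(b : X), (m : X)⁆
    have h := hab m m.2
    simp only [commutatorElement_def]
    congr 1
    have h' : (m : X) * (a : X)⁻¹ * b = (a : X)⁻¹ * b * m := by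
      rw [mul_assoc]; exact h
    calc (a : X) * m * (a : X)⁻¹ = a * ((m : X) * (a : X)⁻¹ * b) * (b : X)⁻¹ := by group
      _ = a * ((a : X)⁻¹ * b * m) * (b : X)⁻¹ := by rw [h']
      _ = (b : X) * m * (b : X)⁻¹ := by group
  refine Nat.card_le_card_of_injective (Quotient.lift f hf) ?_
  intro p q hpq
  induction p using Quotient.inductionOn with
  | _ a => induction q using Quotient.inductionOn with
    | _ b =>
      refine Quotient.sound (s := QuotientGroup.leftRel _) (QuotientGroup.leftRel_apply.2 ?_)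
      rw [mem_subgroupOf, mem_centralizer_iff]
      intro m hm
      have h := DFunLike.congr_fun (congrArg Subtype.val hpq.symm) (⟨m, hm⟩ : M)
      exact (S.eq_inv_mul_commute (S.commutator_right_mem (hU b.2)) (S.commutator_right_mem (hU a.2))
        (y := ⟨m, hM hm⟩) h).eq.symm

/-- The sections of `F` between `A` and normal subgroups have square order. -/
theorem exists_sqrt {U : Subgroup X} [U.Normal] (hAU : S.A ≤ U) (hUF : U ≤ S.F) :
    ∃ t, S.A.relIndex U = t * t := by
  obtain ⟨M, ⟨hAM, hMU, hMc⟩, hmax⟩ := Set.Finite.exists_maximal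
    (s := {M : Subgroup X | S.A ≤ M ∧ M ≤ U ∧ ∀ a ∈ M, ∀ b ∈ M, Commute a b}) (Set.toFinite _)
    ⟨S.A, le_rfl, hAU, fun a ha b hb => S.central ha (S.A_le hb)⟩
  refine ⟨S.A.relIndex M, ?_⟩
  have h1 : U ⊓ centralizer (M : Set X) ≤ M := by
    intro x ⟨hxU, hxc⟩
    have hle : M ≤ M ⊔ zpowers x := le_sup_left
    have hcomm : ∀ a ∈ M ⊔ zpowers x, ∀ b ∈ M ⊔ zpowers x, Commute a b := by
      have hgen : M ⊔ zpowers x = closure ((M : Set X) ∪ {x}) := by
        rw [Subgroup.closure_union, Subgroup.closure_eq, ← Subgroup.zpowers_eq_closure]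
      intro a ha b hb
      rw [hgen] at ha hb
      haveI := Subgroup.isMulCommutative_closure (k := (M : Set X) ∪ {x}) (by
        rintro p (hp | hp) q (hq | hq)
        · exact hMc p hp q hq
        · rw [Set.mem_singleton_iff.1 hq]; exact mem_centralizer_iff.1 hxc p hp
        · rw [Set.mem_singleton_iff.1 hp]; exact (mem_centralizer_iff.1 hxc q hq).symm
        · rw [Set.mem_singleton_iff.1 hp, Set.mem_singleton_iff.1 hq])
      exact congrArg Subtype.val (mul_comm' (⟨a, ha⟩ : closure ((M : Set X) ∪ {x})) ⟨b, hb⟩)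
    exact hmax ⟨hAM.trans hle, sup_le hMU ((zpowers_le).2 hxU), hcomm⟩ hle
      (Subgroup.mem_sup_right (mem_zpowers x))
  have e1 : (centralizer (M : Set X)).relIndex U = M.relIndex U := by
    rw [← Subgroup.inf_relIndex_right, inf_comm, le_antisymm h1
      (le_inf hMU fun x hx => mem_centralizer_iff.2 fun y hy => hMc y hy x hx)]
  have h2 : M ⊓ centralizer (U : Set X) = S.A :=
    le_antisymm (le_trans (inf_le_inf_right _ hMU) (S.inf_centralizer_le (hUF.trans S.F_le)))
      (le_inf hAM fun a ha => mem_centralizer_iff.2 fun y hy =>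
        (S.central ha (S.F_le (hUF hy))).eq.symm)
  have e2 : (centralizer (U : Set X)).relIndex M = S.A.relIndex M := by
    rw [← Subgroup.inf_relIndex_right, inf_comm, h2]
  have b1 := S.relIndex_centralizer_le hUF le_rfl hAM (hMU.trans hUF)
    fun u hu a ha => (S.central ha (S.F_le (hUF hu))).symm
  have b2 := S.relIndex_centralizer_le (hMU.trans hUF) hAM hMU hUF fun u hu b hb => hMc u hu b hb
  rw [e1] at b1
  rw [e2] at b2
  rw [← Subgroup.relIndex_mul_relIndex S.A M U hAM hMU, le_antisymm b1 b2]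

/-- The order of `F / A` is at most the square of the dimension. -/
theorem relIndex_F_le : S.A.relIndex S.F ≤ finrank L V * finrank L V := by
  classical
  haveI := S.subgroupOf_normal le_rfl S.A_le_F le_rfl
  set Q := S.F ⧸ S.A.subgroupOf S.F
  let rep : Q → S.F := Quotient.out
  let v : Q → Module.End L V := fun q => S.σ ⟨rep q, S.F_le (rep q).2⟩
  let χ : Q → (S.F →* L) := fun q => S.chi (S.commutator_right_mem (rep q).2)
  have hχ : Function.Injective χ := by
    intro q q' h
    have hc : ((rep q' : X)⁻¹ * (rep q : X)) ∈ S.A := by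
      refine S.inf_centralizer_le S.F_le ⟨S.F.mul_mem (S.F.inv_mem (rep q').2) (rep q).2, ?_⟩
      exact mem_centralizer_iff.2 fun y hy =>
        (S.eq_inv_mul_commute _ _ (y := ⟨y, hy⟩) (DFunLike.congr_fun h ⟨y, hy⟩)).eq.symm
    have h2 : (rep q' : Q) = (rep q : Q) := QuotientGroup.eq.2 (show
      ((rep q')⁻¹ * rep q) ∈ S.A.subgroupOf S.F from hc)
    rwa [QuotientGroup.out_eq', QuotientGroup.out_eq', eq_comm] at h2
  haveI := Fintype.ofFinite Q
  have hli : LinearIndependent L v := by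
    rw [Fintype.linearIndependent_iff]
    intro c hc q
    -- conjugating by `y` multiplies the `q` term by `χ q y`
    have key : ∀ y : S.F, ∑ p, (c p * χ p y) • v p = 0 := by
      intro y
      have hy : ∀ p, S.σ ⟨y, S.F_le y.2⟩⁻¹ * v p * S.σ ⟨y, S.F_le y.2⟩ =
          (S.chi (S.commutator_right_mem (S.F.inv_mem y.2))) (rep p) • v p := by
        intro p
        rw [Algebra.smul_def, chi_apply, ← S.σ_of_mem, ← map_mul, ← map_mul, ← map_mul]
        refine congrArg S.σ (Subtype.ext ?_)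
        show (y : X)⁻¹ * rep p * y = ⁅(y : X)⁻¹, (rep p : X)⁆ * rep p
        rw [commutatorElement_def, inv_mul_cancel_right, inv_inv]
      have hχy : ∀ p, (S.chi (S.commutator_right_mem (S.F.inv_mem y.2))) (rep p) = χ p y := by
        intro p
        refine congrArg S.sc (Subtype.ext ?_)
        show ⁅(y : X)⁻¹, (rep p : X)⁆ = ⁅(rep p : X), (y : X)⁆
        have hm : ⁅(rep p : X), (y : X)⁆ ∈ S.A := S.commutator_mem (rep p).2 y.2
        have := (S.central hm (S.F_le y.2)).eq
        calc ⁅(y : X)⁻¹, (rep p : X)⁆ = (y : X)⁻¹ * ⁅(rep p : X), (y : X)⁆ * y := by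
              simp only [commutatorElement_def]; group
          _ = ⁅(rep p : X), (y : X)⁆ := by rw [mul_assoc, this, inv_mul_cancel_left]
      have h0 : S.σ ⟨y, S.F_le y.2⟩⁻¹ * (∑ p, c p • v p) * S.σ ⟨y, S.F_le y.2⟩ = 0 := by
        rw [hc, mul_zero, zero_mul]
      rw [Finset.mul_sum, Finset.sum_mul] at h0
      rw [← h0]
      refine Finset.sum_congr rfl fun p _ => ?_
      rw [mul_smul_comm, smul_mul_assoc, hy, smul_smul, hχy]
    by_contra hq
    have hv : v q ≠ 0 := fun h0 => by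
      have h1 := map_one S.σ
      rw [← mul_inv_cancel (⟨rep q, S.F_le (rep q).2⟩ : S.C), map_mul] at h1
      rw [show S.σ ⟨rep q, S.F_le (rep q).2⟩ = 0 from h0, zero_mul] at h1
      exact zero_ne_one h1
    obtain ⟨φ, hφ⟩ : ∃ φ : Module.End L V →ₗ[L] L, φ (v q) ≠ 0 := by
      by_contra hno
      exact hv ((Module.forall_dual_apply_eq_zero_iff L (v q)).1 fun φ =>
        not_not.1 fun h => hno ⟨φ, h⟩)
    have hzero : ∑ p, (c p * φ (v p)) • (χ p : S.F → L) = 0 := by
      funext y
      have := congrArg φ (key y)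
      simp only [map_sum, map_smul, smul_eq_mul, map_zero] at this
      rw [Finset.sum_apply, Pi.zero_apply, ← this]
      refine Finset.sum_congr rfl fun p _ => ?_
      rw [Pi.smul_apply, smul_eq_mul]; ring
    have hind : LinearIndependent L fun p : Q => (χ p : S.F → L) :=
      (linearIndependent_monoidHom S.F L).comp χ hχ
    exact mul_ne_zero hq hφ (Fintype.linearIndependent_iff.1 hind _ hzero q)
  have h := hli.fintype_card_le_finrank
  rw [Module.finrank_linearMap, ← Nat.card_eq_fintype_card] at h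
  exact h

/-- In characteristic two the index is odd. -/
theorem odd_relIndex_F (h2 : (2 : L) = 0) : Odd (S.A.relIndex S.F) := by
  rw [← Nat.not_even_iff_odd, even_iff_two_dvd]
  intro hdvd
  haveI := S.subgroupOf_normal le_rfl S.A_le_F le_rfl
  haveI : Fact (Nat.Prime 2) := ⟨Nat.prime_two⟩
  obtain ⟨q, hq⟩ := exists_prime_orderOf_dvd_card' (G := S.F ⧸ S.A.subgroupOf S.F) 2 hdvd
  obtain ⟨x, rfl⟩ := QuotientGroup.mk_surjective q
  have hx : x ∉ S.A.subgroupOf S.F := fun h => by
    rw [(QuotientGroup.eq_one_iff x).2 h, orderOf_one] at hq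
    omega
  have hx2 : x ^ 2 ∈ S.A.subgroupOf S.F := by
    rw [← QuotientGroup.eq_one_iff, QuotientGroup.mk_pow, ← hq, pow_orderOf_eq_one]
  refine hx (S.inf_centralizer_le S.F_le ⟨x.2, mem_centralizer_iff.2 fun y hy => ?_⟩)
  have hsq : S.chi (S.commutator_right_mem hy) x ^ 2 = 1 := by
    rw [← map_pow, S.chi_eq_one_iff]
    exact (S.central (show ((x ^ 2 : S.F) : X) ∈ S.A from hx2) (S.F_le hy)).symm
  have h0 : (S.chi (S.commutator_right_mem hy) x - 1) ^ 2 = 0 := by
    linear_combination hsq + (1 - S.chi (S.commutator_right_mem hy) x) * h2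
  exact ((S.chi_eq_one_iff _ x).1 (sub_eq_zero.1 (sq_eq_zero_iff.1 h0))).eq

/-- An element of `C` acting trivially on `F / A` lies in `F`. -/
theorem mem_F_of_trivial {c : X} (hcC : c ∈ S.C) (hc : ∀ y ∈ S.F, ⁅c, y⁆ ∈ S.A) : c ∈ S.F := by
  classical
  haveI := S.subgroupOf_normal le_rfl S.A_le_F le_rfl
  set A' := S.A.subgroupOf S.F
  obtain ⟨hfin, hle⟩ := card_characters_le (L := L) A'
  have hker : ∀ {d : X} (_ : d ∈ S.C) (hd : ∀ y ∈ S.F, ⁅d, y⁆ ∈ S.A),
      A' ≤ (S.chi hd).ker := fun hdC hd a ha => MonoidHom.mem_ker.2 <|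
    (S.chi_eq_one_iff hd a).2 (S.central ha hdC).symm
  let T : S.F ⧸ A' → {f : S.F →* L // A' ≤ f.ker} := fun q =>
    ⟨S.chi (S.commutator_right_mem (q.out).2),
      hker (S.F_le (q.out).2) (S.commutator_right_mem (q.out).2)⟩
  have hT : Function.Injective T := by
    intro q q' h
    have hmem : ((q'.out : X)⁻¹ * (q.out : X)) ∈ S.A := by
      refine S.inf_centralizer_le S.F_le ⟨S.F.mul_mem (S.F.inv_mem q'.out.2) q.out.2, ?_⟩
      exact mem_centralizer_iff.2 fun y hy => (S.eq_inv_mul_commute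
        (S.commutator_right_mem q.out.2) (S.commutator_right_mem q'.out.2) (y := ⟨y, hy⟩)
        (DFunLike.congr_fun (congrArg Subtype.val h) ⟨y, hy⟩)).eq.symm
    have h2 : (q'.out : S.F ⧸ A') = (q.out : S.F ⧸ A') :=
      QuotientGroup.eq.2 (show q'.out⁻¹ * q.out ∈ A' from hmem)
    rwa [QuotientGroup.out_eq', QuotientGroup.out_eq', eq_comm] at h2
  obtain ⟨q, hq⟩ := (hT.bijective_of_nat_card_le hle).2 ⟨S.chi hc, hker hcC hc⟩
  have hmem : (q.out : X)⁻¹ * c ∈ S.F := by
    have hC : (q.out : X)⁻¹ * c ∈ S.C := S.C.mul_mem (S.C.inv_mem (S.F_le q.out.2)) hcC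
    refine (S.mem_F (c := ⟨_, hC⟩)).2 (Components.centralizer_fittingSubgroup_le ?_)
    refine mem_centralizer_iff.2 fun y hy => Subtype.ext ?_
    exact (S.eq_inv_mul_commute hc (S.commutator_right_mem q.out.2) (y := ⟨y, S.mem_F.2 hy⟩)
      (DFunLike.congr_fun (congrArg Subtype.val hq) _).symm).eq.symm
  have h := S.F.mul_mem q.out.2 hmem
  rwa [mul_inv_cancel_left] at h

end Core

end Cfsg.Agent.SolvLin
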