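import Mathlib

/-!
# Numerical inequalities for the finite field case
-/

set_option autoImplicit false

namespace Cfsg.Agent.SolvLin

theorem le_three_pow_pred (a : ℕ) : a ≤ 3 ^ (a - 1) := by
  rcases a with - | a
  · simp
  · rw [Nat.add_sub_cancel]
    exact Nat.lt_pow_self (by norm_num)

theorem sq_le_three_pow_pred {d : ℕ} (h : 3 ≤ d) : d * d ≤ 3 ^ (d - 1) := by
  induction d, h using Nat.le_induction with
  | base => norm_num
  | succ n hn ih =>
    rw [show n + 1 - 1 = (n - 1) + 1 by omega, pow_succ]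
    nlinarith

theorem pred_mul_sq_le_pow {q d : ℕ} (hq : 3 ≤ q) : (q - 1) * (d * d) ≤ q ^ d := by
  rcases lt_or_ge d 3 with hd | hd
  · interval_cases d
    · simp
    · simp
    · obtain ⟨r, rfl⟩ := Nat.exists_eq_add_of_le hq
      rw [show 3 + r - 1 = 2 + r by omega]
      nlinarith
  · calc (q - 1) * (d * d) ≤ q * q ^ (d - 1) := Nat.mul_le_mul (Nat.sub_le q 1)
          ((sq_le_three_pow_pred hd).trans (Nat.pow_le_pow_left hq _))
      _ = q ^ d := by rw [← pow_succ', Nat.sub_add_cancel (by omega)]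

theorem mul_three_pow_le {a d t : ℕ} (ha : 1 ≤ a) (hd : 1 ≤ d) (htd : t ≤ d) :
    a * 3 ^ (t - 1) ≤ 3 ^ (a * d - 1) := by
  refine (Nat.mul_le_mul (le_three_pow_pred a)
    (Nat.pow_le_pow_right (by norm_num) (show t - 1 ≤ d - 1 by omega))).trans ?_
  rw [← pow_add]
  refine Nat.pow_le_pow_right (by norm_num) ?_
  obtain ⟨a, rfl⟩ := Nat.exists_eq_add_of_le ha
  obtain ⟨d, rfl⟩ := Nat.exists_eq_add_of_le hd
  have : (1 + a) * (1 + d) = 1 + a + d + a * d := by ring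
  omega

/-- Odd characteristic. -/
theorem field_num_odd {p a d t m : ℕ} (hp : 3 ≤ p) (ha : 1 ≤ a) (hd : 1 ≤ d) (htd : t ≤ d)
    (hm : m ≤ p ^ a - 1) :
    m * (t * t) * 3 ^ (t - 1) * a ≤ 3 ^ (a * d - 1) * p ^ (a * d) := by
  have hq : 3 ≤ p ^ a := hp.trans (Nat.le_self_pow (by omega) p)
  calc m * (t * t) * 3 ^ (t - 1) * a = (a * 3 ^ (t - 1)) * (m * (t * t)) := by ring
    _ ≤ 3 ^ (a * d - 1) * ((p ^ a - 1) * (d * d)) :=
      Nat.mul_le_mul (mul_three_pow_le ha hd htd) (Nat.mul_le_mul hm (Nat.mul_le_mul htd htd))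
    _ ≤ 3 ^ (a * d - 1) * (p ^ a) ^ d := Nat.mul_le_mul_left _ (pred_mul_sq_le_pow hq)
    _ = 3 ^ (a * d - 1) * p ^ (a * d) := by rw [← pow_mul]

theorem mul_two_pow_le {a : ℕ} (h : 3 ≤ a) : a * 2 ^ a ≤ 3 ^ (3 * a - 5) := by
  induction a, h using Nat.le_induction with
  | base => norm_num
  | succ n hn ih =>
    rw [show 3 * (n + 1) - 5 = (3 * n - 5) + 3 by omega, pow_succ 2, pow_add 3]
    have h1 : n * 2 ^ n + 2 ^ n ≤ 2 * (n * 2 ^ n) := by nlinarith [Nat.two_pow_pos n]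
    calc (n + 1) * (2 ^ n * 2) = 2 * (n * 2 ^ n + 2 ^ n) := by ring
      _ ≤ 3 ^ (3 * n - 5) * 3 ^ 3 := by omega

theorem six_sq_le {t : ℕ} (h : 5 ≤ t) : 6 * (t * t) ≤ 3 ^ t := by
  induction t, h using Nat.le_induction with
  | base => norm_num
  | succ n hn ih =>
    rw [pow_succ]
    nlinarith

/-- Characteristic two, no symplectic section. -/
theorem field_num_two_one {a d m : ℕ} (hd : 2 ≤ d) (hm : m ≤ 2 ^ a) :
    m * (1 * 1) * 3 ^ (1 - 1) * a ≤ 3 ^ (a * d - 1) := by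
  rcases Nat.eq_zero_or_pos a with rfl | ha
  · simp
  calc m * (1 * 1) * 3 ^ (1 - 1) * a = m * a := by ring
    _ ≤ 3 ^ a * 3 ^ (a - 1) :=
      Nat.mul_le_mul (hm.trans (Nat.pow_le_pow_left (by norm_num) a)) (le_three_pow_pred a)
    _ ≤ 3 ^ (a * d - 1) := by
      rw [← pow_add]
      refine Nat.pow_le_pow_right (by norm_num) ?_
      have : a * 2 ≤ a * d := Nat.mul_le_mul_left a hd
      omega

/-- Characteristic two, a symplectic section, apart from one exception. -/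
theorem field_num_two {a d t m : ℕ} (ha : 2 ≤ a) (ht : 3 ≤ t) (ht4 : t ≠ 4) (htd : t ≤ d)
    (hexc : ¬ (a = 2 ∧ d = 3)) (hm : m ≤ 2 ^ a - 1) :
    m * (t * t) * 3 ^ (t - 1) * a ≤ 3 ^ (a * d - 1) := by
  rcases eq_or_lt_of_le ha with h2 | h3
  · subst h2
    have hm3 : m ≤ 3 := by simpa using hm
    refine (Nat.mul_le_mul_right 2 (Nat.mul_le_mul_right _ (Nat.mul_le_mul_right _ hm3))).trans ?_
    rw [show 3 * (t * t) * 3 ^ (t - 1) * 2 = 6 * (t * t) * 3 ^ (t - 1) by ring]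
    rcases eq_or_lt_of_le ht with h | h
    · subst h
      calc 6 * (3 * 3) * 3 ^ (3 - 1) ≤ 3 ^ 7 := by norm_num
        _ ≤ 3 ^ (2 * d - 1) := Nat.pow_le_pow_right (by norm_num) (by omega)
    · refine (Nat.mul_le_mul_right _ (six_sq_le (by omega))).trans ?_
      rw [← pow_add]
      exact Nat.pow_le_pow_right (by norm_num) (by omega)
  · have h1 : a * m ≤ 3 ^ (3 * a - 5) :=
      (Nat.mul_le_mul_left a (hm.trans (Nat.sub_le _ _))).trans (mul_two_pow_le (by omega))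
    calc m * (t * t) * 3 ^ (t - 1) * a = a * m * (t * t) * 3 ^ (t - 1) := by ring
      _ ≤ 3 ^ (3 * a - 5) * 3 ^ (t - 1) * 3 ^ (t - 1) :=
        Nat.mul_le_mul_right _ (Nat.mul_le_mul h1 (sq_le_three_pow_pred ht))
      _ ≤ 3 ^ (a * d - 1) := by
        rw [← pow_add, ← pow_add]
        refine Nat.pow_le_pow_right (by norm_num) ?_
        obtain ⟨b, rfl⟩ := Nat.exists_eq_add_of_le (show 3 ≤ a by omega)
        have h4 : (3 + b) * t ≤ (3 + b) * d := Nat.mul_le_mul_left _ htd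
        have h5 : (3 + b) * t = 3 * t + b * t := by ring
        have h6 : b * 3 ≤ b * t := Nat.mul_le_mul_left b ht
        omega

/-- Characteristic two, dimension one over the field. -/
theorem field_num_semilinear {a c : ℕ} (ha : 2 ≤ a) (ha8 : a < 8) (hc : 1 ≤ c) (hca : c ≤ a) :
    2 ^ a - 1 + (c - 1) * (c + 1) * (2 ^ (a / 2) - 1) ≤ c * 3 ^ (a - 1) := by
  interval_cases a <;> interval_cases c <;> norm_num

theorem field_num_semilinear_large {a : ℕ} (ha : 8 ≤ a) : a * 2 ^ a ≤ 3 ^ (a - 1) := by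
  induction a, ha using Nat.le_induction with
  | base => norm_num
  | succ n hn ih =>
    rw [show n + 1 - 1 = (n - 1) + 1 by omega, pow_succ, pow_succ]
    nlinarith [Nat.two_pow_pos n]

end Cfsg.Agent.SolvLin
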