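import Cfsg.Agent.Lib.SolvLin.Symp
import Cfsg.Agent.Lib.SolvLin.FieldNum

/-!
# The case of a maximal abelian normal subgroup spanning a finite field
-/

set_option autoImplicit false
set_option linter.style.haveILetI false
set_option linter.unusedSectionVars false

namespace Cfsg.Agent.SolvLin

open Module Subgroup
open scoped commutatorElement

/-- The subgroup `F` of a group of order 27 type. -/
theorem classes_le_eleven {G : Type} [Group G] [Finite G] (hG : Nat.card G = 27)
    (hz : Nat.card (center G) ≤ 3) : KB G 11 := by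
  intro K
  by_cases hK : K = ⊤
  · subst hK
    refine (card_classes_le_of_surjective (f := (topEquiv (G := G)).symm.toMonoidHom)
      topEquiv.symm.surjective).trans ?_
    have h := card_classes_central_bound (G := G) (s := 3) fun g hg => by
      have hd : Nat.card (centralizer ({g} : Set G)) ∣ 3 ^ 3 :=
        (Subgroup.card_subgroup_dvd_card _).trans (dvd_of_eq (by rw [hG]; norm_num))
      obtain ⟨i, hi, he⟩ := (Nat.dvd_prime_pow Nat.prime_three).1 hd
      have hne : i ≠ 3 := by
        rintro rfl
        refine hg (mem_center_iff.2 fun y => ?_)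
        have htop := Subgroup.eq_top_of_card_eq _ (by rw [he, hG]; norm_num :
          Nat.card (centralizer ({g} : Set G)) = Nat.card G)
        exact mem_centralizer_singleton_iff.1 (htop ▸ Subgroup.mem_top y)
      rw [he, hG]
      calc 3 * 3 ^ i ≤ 3 * 3 ^ 2 := Nat.mul_le_mul_left 3 (Nat.pow_le_pow_right (by norm_num) (by omega))
        _ ≤ 27 := by norm_num
    omega
  · refine card_classes_le_card.trans ?_
    have hd : Nat.card K ∣ 3 ^ 3 := (Subgroup.card_subgroup_dvd_card _).trans
      (dvd_of_eq (by rw [hG]; norm_num))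
    obtain ⟨i, hi, he⟩ := (Nat.dvd_prime_pow Nat.prime_three).1 hd
    have hne : i ≠ 3 := by
      rintro rfl
      exact hK (Subgroup.eq_top_of_card_eq _ (by rw [he, hG]; norm_num))
    rw [he]
    calc 3 ^ i ≤ 3 ^ 2 := Nat.pow_le_pow_right (by norm_num) (by omega)
      _ ≤ 11 := by norm_num

section

variable {p : ℕ} [Fact p.Prime]
variable {E : Type} [Field E] [Algebra (ZMod p) E] [Finite E]
variable {V : Type} [AddCommGroup V] [Module E V] [Finite V]
variable {X : Type} [Group X] [Finite X] [Group.IsSolvable X]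

/-- The data of the field case. -/
structure FieldData (A : Subgroup X) (V : Type) [AddCommGroup V] [Module E V] where
  ι : A →* E
  ι_inj : Function.Injective ι
  act : X →* AddMonoid.End V
  act_inj : Function.Injective act
  act_A : ∀ (a : A) (v : V), act a v = ι a • v
  θ : X →* (E ≃ₐ[ZMod p] E)
  act_smul : ∀ (x : X) (e : E) (v : V), act x (e • v) = θ x e • act x v
  θ_eq_one : ∀ x : X, θ x = 1 ↔ x ∈ centralizer (A : Set X)
  maximal : ∀ U : Subgroup X, U ≤ centralizer (A : Set X) → U.Normal →
    (∀ a ∈ U, ∀ b ∈ U, a * b = b * a) → U ≤ A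

namespace FieldData

variable {A : Subgroup X} (D : FieldData (p := p) (E := E) A V)

theorem θ_eq (x : centralizer (A : Set X)) : D.θ x = 1 := (D.θ_eq_one x).2 x.2

/-- The linear action of the centraliser. -/
def σ : centralizer (A : Set X) →* Module.End E V where
  toFun c :=
    { toFun := fun v => D.act (c : X) v
      map_add' := map_add _
      map_smul' := fun e v => by
        rw [D.act_smul, D.θ_eq]
        rfl }
  map_one' := LinearMap.ext fun v => DFunLike.congr_fun (map_one D.act) v
  map_mul' a b := LinearMap.ext fun v => DFunLike.congr_fun (map_mul D.act (a : X) b) v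

theorem σ_injective : Function.Injective D.σ := fun a b h =>
  Subtype.ext (D.act_inj (AddMonoidHom.ext fun v => LinearMap.congr_fun h v))

variable [Nontrivial V]

include D in
theorem A_le_centralizer (hab : ∀ a ∈ A, ∀ b ∈ A, a * b = b * a) : A ≤ centralizer (A : Set X) :=
  fun a ha => mem_centralizer_iff.2 fun b hb => hab b hb a ha

/-- The elements acting as scalars. -/
def scalars : Subgroup X where
  carrier := {x | x ∈ centralizer (A : Set X) ∧ ∃ l : E, ∀ v, D.act x v = l • v}
  one_mem' := ⟨one_mem _, 1, fun v => by rw [map_one, one_smul]; rfl⟩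
  mul_mem' := by
    rintro x y ⟨hx, l, hl⟩ ⟨hy, m, hm⟩
    refine ⟨mul_mem hx hy, l * m, fun v => ?_⟩
    rw [map_mul]
    show D.act x (D.act y v) = _
    rw [hm, hl, smul_smul]
  inv_mem' := by
    rintro x ⟨hx, l, hl⟩
    refine ⟨inv_mem hx, l⁻¹, fun v => ?_⟩
    have h1 : D.act x⁻¹ (D.act x v) = v := by
      show (D.act x⁻¹ * D.act x) v = v
      rw [← map_mul, inv_mul_cancel, map_one]
      rfl
    rw [hl, D.act_smul, (D.θ_eq_one _).2 (inv_mem hx)] at h1
    have hl0 : l ≠ 0 := fun h0 => by
      obtain ⟨w, hw⟩ := exists_ne (0 : V)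
      have h2 : D.act x⁻¹ (D.act x w) = w := by
        show (D.act x⁻¹ * D.act x) w = w
        rw [← map_mul, inv_mul_cancel, map_one]
        rfl
      rw [hl, h0, zero_smul, map_zero] at h2
      exact hw h2.symm
    rw [AlgEquiv.one_apply] at h1
    conv_rhs => rw [← h1]
    rw [inv_smul_smul₀ hl0]

instance scalars_normal [A.Normal] : D.scalars.Normal where
  conj_mem x hx g := by
    obtain ⟨hxC, l, hl⟩ := hx
    refine ⟨(inferInstance : (centralizer (A : Set X)).Normal).conj_mem x hxC g, D.θ g l,
      fun v => ?_⟩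
    rw [map_mul, map_mul]
    show D.act g (D.act x (D.act g⁻¹ v)) = _
    rw [hl, D.act_smul]
    refine congrArg (_ • ·) ?_
    show (D.act g * D.act g⁻¹) v = v
    rw [← map_mul, mul_inv_cancel, map_one]
    rfl

theorem scalars_le [A.Normal] : D.scalars ≤ A := by
  refine D.maximal _ (fun _ h => h.1) inferInstance ?_
  rintro a ⟨-, l, hl⟩ b ⟨-, m, hm⟩
  refine D.act_inj (AddMonoidHom.ext fun v => ?_)
  rw [map_mul, map_mul]
  show D.act a (D.act b v) = D.act b (D.act a v)
  rw [hm, hl, hl, hm, smul_smul, smul_smul, mul_comm]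

/-- The core. -/
def core [A.Normal] (hab : ∀ a ∈ A, ∀ b ∈ A, a * b = b * a) : Core E V X where
  C := centralizer (A : Set X)
  A := A
  C_normal := inferInstance
  A_normal := inferInstance
  A_le := D.A_le_centralizer hab
  solv := inferInstance
  σ := D.σ
  inj := D.σ_injective
  scalar c := by
    constructor
    · intro hc
      refine ⟨D.ι ⟨c, hc⟩, LinearMap.ext fun v => ?_⟩
      rw [Module.algebraMap_end_apply]
      exact D.act_A ⟨c, hc⟩ v
    · rintro ⟨l, hl⟩
      refine D.scalars_le ⟨c.2, l, fun v => ?_⟩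
      have := LinearMap.congr_fun hl v
      rw [Module.algebraMap_end_apply] at this
      exact this
  abelian_le := D.maximal

include D in
theorem card_A_dvd : Nat.card A ∣ p ^ finrank (ZMod p) E - 1 := by
  have h := Subgroup.card_dvd_of_injective D.ι.toHomUnits fun a b h =>
    D.ι_inj (congrArg Units.val h)
  rwa [Nat.card_units, Module.natCard_eq_pow_finrank (K := ZMod p) (V := E), Nat.card_zmod] at h

include D in
theorem card_A_le : Nat.card A ≤ p ^ finrank (ZMod p) E - 1 :=
  Nat.le_of_dvd (Nat.sub_pos_of_lt (Nat.one_lt_pow Module.finrank_pos.ne'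
    (Fact.out : p.Prime).one_lt)) D.card_A_dvd

theorem card_aut_le : Nat.card (E ≃ₐ[ZMod p] E) ≤ finrank (ZMod p) E := by
  rw [Nat.card_eq_fintype_card]
  exact AlgEquiv.card_le

include D in
theorem kb_of_centralizer {b : ℕ} (hC : KB (centralizer (A : Set X)) b) :
    KB X (b * finrank (ZMod p) E) :=
  KB.ext D.θ (KB.of_subgroup_le (fun x hx => (D.θ_eq_one x).1 hx) hC) (KB.of_card card_aut_le)

include D in
/-- A semilinear group in dimension one, characteristic two. -/
theorem kb_semilinear (hp : p = 2) (hC : centralizer (A : Set X) ≤ A)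
    (ha : 2 ≤ finrank (ZMod p) E) : KB X (3 ^ (finrank (ZMod p) E - 1)) := by
  subst hp
  set a := finrank (ZMod 2) E with hadef
  have hA := D.card_A_le
  rcases lt_or_ge a 8 with ha8 | ha8
  swap
  · refine (D.kb_of_centralizer (KB.of_card ((Subgroup.card_le_of_le hC).trans hA))).mono ?_
    refine le_trans ?_ (field_num_semilinear_large ha8)
    rw [mul_comm]
    exact Nat.mul_le_mul_left a (Nat.sub_le _ _)
  intro K
  let θK : K →* (E ≃ₐ[ZMod 2] E) := D.θ.comp K.subtype
  have hker : ∀ k : θK.ker, ((k : K) : X) ∈ A := fun k => hC ((D.θ_eq_one _).1 k.2)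
  have hm : Nat.card θK.ker ≤ 2 ^ a - 1 := by
    refine le_trans (Nat.card_le_card_of_injective (fun k => (⟨_, hker k⟩ : A)) ?_) hA
    intro k l h
    exact Subtype.ext (Subtype.ext (congrArg (fun t : A => (t : X)) h))
  have hc1 : 1 ≤ θK.ker.index := Nat.one_le_iff_ne_zero.2 θK.ker.index_ne_zero_of_finite
  have hca : θK.ker.index ≤ a := by
    rw [Subgroup.index_ker]
    exact (Subgroup.card_le_card_group _).trans card_aut_le
  have h := card_classes_fixed_bound θK.ker (φ := 2 ^ (a / 2) - 1) fun g hg => by
    let H : Subgroup (E ≃ₐ[ZMod 2] E) := Subgroup.zpowers (θK g)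
    let L : IntermediateField (ZMod 2) E := IntermediateField.fixedField H
    have hH : 2 ≤ finrank L E := by
      rw [IntermediateField.finrank_fixedField_eq_card]
      by_contra hlt
      have hbot : H = ⊥ := Subgroup.eq_bot_of_card_le _ (by omega)
      exact hg (MonoidHom.mem_ker.2 (Subgroup.zpowers_eq_bot.1 hbot))
    have hL : finrank (ZMod 2) L ≤ a / 2 := by
      rw [Nat.le_div_iff_mul_le two_pos]
      refine (Nat.mul_le_mul_left _ hH).trans (le_of_eq ?_)
      exact Module.finrank_mul_finrank (ZMod 2) L E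
    have hmem : ∀ y : (θK.ker ⊓ centralizer ({g} : Set K) : Subgroup K),
        D.ι ⟨((y : K) : X), hker ⟨y, y.2.1⟩⟩ ∈ L := fun y => by
      show _ ∈ IntermediateField.fixedField H
      rw [IntermediateField.mem_fixedField_iff]
      intro f hf
      obtain ⟨n, rfl⟩ := Subgroup.mem_zpowers_iff.1 hf
      have hfix : θK g (D.ι ⟨((y : K) : X), hker ⟨y, y.2.1⟩⟩) =
          D.ι ⟨((y : K) : X), hker ⟨y, y.2.1⟩⟩ := by
        obtain ⟨w, hw⟩ := exists_ne (0 : V)
        have hgw : D.act (g : X) w ≠ 0 := fun h0 => hw <| by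
          have h2 : D.act (g : X)⁻¹ (D.act (g : X) w) = w := by
            show (D.act (g : X)⁻¹ * D.act (g : X)) w = w
            rw [← map_mul, inv_mul_cancel, map_one]
            rfl
          rw [h0, map_zero] at h2
          exact h2.symm
        refine smul_left_injective E hgw ?_
        show D.θ (g : X) _ • D.act (g : X) w = _ • D.act (g : X) w
        rw [← D.act_smul, ← D.act_A, ← D.act_A]
        show (D.act (g : X) * D.act ((y : K) : X)) w = (D.act ((y : K) : X) * D.act (g : X)) w
        rw [← map_mul, ← map_mul]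
        exact congrArg (fun z : K => D.act (z : X) w)
          (mem_centralizer_singleton_iff.1 y.2.2).symm
      have : θK g ∈ MulAction.stabilizer (E ≃ₐ[ZMod 2] E) (D.ι ⟨((y : K) : X), hker ⟨y, y.2.1⟩⟩) :=
        hfix
      exact Subgroup.zpow_mem _ this n
    haveI : Finite L := inferInstance
    let toL : (θK.ker ⊓ centralizer ({g} : Set K) : Subgroup K) →* L :=
      { toFun := fun y => ⟨_, hmem y⟩
        map_one' := Subtype.ext (map_one D.ι)
        map_mul' := fun y z => Subtype.ext (map_mul D.ι ⟨_, hker ⟨y, y.2.1⟩⟩ ⟨_, hker ⟨z, z.2.1⟩⟩) }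
    have htoL : Function.Injective toL.toHomUnits := fun y z h => by
      have h2 := D.ι_inj (congrArg (fun l : Lˣ => ((l : L) : E)) h)
      exact Subtype.ext (Subtype.ext (congrArg (fun t : A => (t : X)) h2))
    refine (Nat.card_le_card_of_injective _ htoL).trans ?_
    rw [Nat.card_units, Module.natCard_eq_pow_finrank (K := ZMod 2) (V := L), Nat.card_zmod]
    exact Nat.sub_le_sub_right (Nat.pow_le_pow_right two_pos hL) 1
  refine Nat.le_of_mul_le_mul_right (h.trans ?_) (lt_of_lt_of_le zero_lt_one hc1)
  rw [mul_comm (3 ^ (a - 1))]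
  exact le_trans (Nat.add_le_add_right hm _) (field_num_semilinear ha ha8 hc1 hca)

end FieldData

/-- The field case of the bound. -/
theorem kb_of_fieldData {N : ℕ} (hN : 1 ≤ N) (hV : Nat.card V = p ^ N) {A : Subgroup X} [A.Normal]
    (hab : ∀ a ∈ A, ∀ b ∈ A, a * b = b * a) (D : FieldData (p := p) (E := E) A V)
    (hP : ∀ q n t : ℕ, q.Prime → 1 ≤ n → 0 < t → q ^ n ∣ t → t ≤ N → (p = 2 → Odd t) →
      IrrBoundB q (2 * n) (3 ^ (q ^ n - 1))) :
    KB X (irrB p N) := by
  have hp : p.Prime := Fact.out
  haveI : Nontrivial V := by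
    rw [← Finite.one_lt_card_iff_nontrivial, hV]
    exact Nat.one_lt_pow (by omega) hp.one_lt
  haveI : Module.Finite E V := Module.Finite.of_finite
  set a := finrank (ZMod p) E with hadef
  set d := finrank E V with hddef
  have ha : 1 ≤ a := Module.finrank_pos
  have hd : 1 ≤ d := Module.finrank_pos
  have hN' : N = a * d := by
    refine Nat.pow_right_injective hp.two_le ?_
    show p ^ N = p ^ (a * d)
    rw [← hV, Module.natCard_eq_pow_finrank (K := E),
      Module.natCard_eq_pow_finrank (K := ZMod p) (V := E), Nat.card_zmod, pow_mul]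
  let S := D.core hab
  by_cases hsemi : p = 2 ∧ d = 1
  · obtain ⟨hp2, hd1⟩ := hsemi
    have hC : centralizer (A : Set X) ≤ A := fun c hc => by
      obtain ⟨l, hl⟩ := LinearMap.exists_eq_smul_id_of_forall_notLinearIndependent
        (f := D.σ ⟨c, hc⟩) (fun v hv => by
          have := hv.fintype_card_le_finrank
          rw [Fintype.card_fin] at this
          omega)
      exact D.scalars_le ⟨hc, l, fun v => LinearMap.congr_fun hl v⟩
    rcases eq_or_lt_of_le ha with ha1 | ha2
    · refine (D.kb_of_centralizer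
        (KB.of_card ((Subgroup.card_le_of_le hC).trans D.card_A_le))).mono ?_
      rw [irrB, if_pos hp2, ← hadef, ← ha1, hp2]
      simpa using Nat.one_le_pow _ 3 (by norm_num)
    · refine (D.kb_semilinear hp2 hC ha2).mono (le_of_eq ?_)
      rw [irrB, if_pos hp2, one_pow, mul_one, hN', hd1, mul_one]
  obtain ⟨t, ht⟩ := S.exists_sqrt S.A_le_F le_rfl
  have htd : t ≤ d := Nat.mul_self_le_mul_self_iff.1 (ht ▸ S.relIndex_F_le)
  have htodd : p = 2 → Odd t := by
    intro h2
    subst h2
    have h20 : (2 : E) = 0 := by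
      have := map_ofNat (algebraMap (ZMod 2) E) 2
      rw [show (2 : ZMod 2) = 0 from rfl, map_zero] at this
      exact this.symm
    exact (Nat.odd_mul.1 (ht ▸ S.odd_relIndex_F h20)).1
  have htN : t ≤ N := htd.trans (hN' ▸ Nat.le_mul_of_pos_left d ha)
  have htpos : 0 < t := Nat.pos_of_ne_zero fun h0 => by
    have := relIndex_pos' S.A S.F
    rw [ht, h0] at this
    exact lt_irrefl 0 this
  have hsymp : KB (S.C ⧸ Cfsg.fittingSubgroup S.C) (3 ^ (t - 1)) := by
    have h := S.kb_symp t (fun q n hq hn hdvd => hP q n t hq hn htpos hdvd htN htodd) S.F S.A_le_F le_rfl ht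
    exact KB.of_injective (f := (QuotientGroup.quotientMulEquivOfEq S.Kf_F_eq.symm).toMonoidHom)
      (MulEquiv.injective _) h
  have hFcard : Nat.card S.F = Nat.card A * (t * t) := by
    rw [← (S.A.subgroupOf S.F).card_mul_index, show (S.A.subgroupOf S.F).index = t * t from ht,
      Nat.card_congr (Subgroup.subgroupOfEquivOfLe S.A_le_F).toEquiv]
    rfl
  have hC : ∀ b, KB S.F b → KB S.C (b * 3 ^ (t - 1)) := fun b hb => by
    refine KB.ext (QuotientGroup.mk' (Cfsg.fittingSubgroup S.C)) ?_ hsymp
    have hmem : ∀ c : (QuotientGroup.mk' (Cfsg.fittingSubgroup S.C)).ker, ((c : S.C) : X) ∈ S.F :=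
      fun c => S.mem_F.2 ((QuotientGroup.eq_one_iff _).1 c.2)
    refine hb.of_injective (f := { toFun := fun c => (⟨_, hmem c⟩ : S.F)
                                   map_one' := rfl
                                   map_mul' := fun _ _ => rfl }) ?_
    intro c c' h
    exact Subtype.ext (Subtype.ext (congrArg (fun t : S.F => (t : X)) h))
  have hm := D.card_A_le
  by_cases hp2 : p = 2
  swap
  · refine (D.kb_of_centralizer (hC _ (KB.of_card le_rfl))).mono ?_
    rw [hFcard, irrB, if_neg hp2, hN']
    exact field_num_odd (by have := hp.two_le; omega) ha hd htd hm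
  subst hp2
  have hd2 : 2 ≤ d := by
    by_contra hlt
    exact hsemi ⟨rfl, by omega⟩
  rw [irrB, if_pos rfl, one_pow, mul_one, hN']
  by_cases ht1 : t = 1
  · refine (D.kb_of_centralizer (hC _ (KB.of_card le_rfl))).mono ?_
    rw [hFcard, ht1]
    exact field_num_two_one hd2 (hm.trans (Nat.sub_le _ _))
  have ht3 : 3 ≤ t := by
    obtain ⟨k, hk⟩ := htodd rfl
    omega
  have hAne : Nat.card A ≠ 1 := by
    intro h1
    have hbot : A = ⊥ := Subgroup.eq_bot_of_card_eq A h1
    have hFA : S.F ≤ A := D.maximal _ S.F_le inferInstance fun x hx y hy => by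
      have := S.commutator_mem hx hy
      rw [show S.A = A from rfl, hbot, Subgroup.mem_bot, commutatorElement_eq_one_iff_commute] at this
      exact this
    have : t * t = 1 := ht ▸ Subgroup.relIndex_eq_one.2 hFA
    exact ht1 (mul_eq_one.1 this).1
  have ha2 : 2 ≤ a := by
    by_contra hlt
    have ha1 : a = 1 := by omega
    rw [← hadef, ha1] at hm
    have := Nat.card_pos (α := A)
    exact hAne (by omega)
  by_cases hexc : a = 2 ∧ d = 3
  · obtain ⟨ha2', hd3⟩ := hexc
    have ht3' : t = 3 := by omega
    have hdvd := D.card_A_dvd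
    rw [← hadef, ha2'] at hdvd
    have hA3 : Nat.card A = 3 := ((Nat.dvd_prime Nat.prime_three).1 hdvd).resolve_left hAne
    have hF11 : KB S.F 11 := by
      refine classes_le_eleven (by rw [hFcard, hA3, ht3']) ?_
      refine le_trans ?_ (le_of_eq hA3)
      refine Nat.card_le_card_of_injective (fun z : center S.F =>
        (⟨((z : S.F) : X), S.inf_centralizer_le S.F_le ⟨(z : S.F).2, mem_centralizer_iff.2
          fun y hy => congrArg Subtype.val (mem_center_iff.1 z.2 ⟨y, hy⟩)⟩⟩ : A)) ?_
      intro z z' h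
      exact Subtype.ext (Subtype.ext (congrArg (fun t : A => (t : X)) h))
    refine (D.kb_of_centralizer (hC _ hF11)).mono ?_
    rw [← hadef, ha2', hd3, ht3']
    norm_num
  · refine (D.kb_of_centralizer (hC _ (KB.of_card le_rfl))).mono ?_
    rw [hFcard]
    refine field_num_two ha2 ht3 ?_ htd hexc hm
    intro h4
    obtain ⟨k, hk⟩ := htodd rfl
    omega

end

end Cfsg.Agent.SolvLin
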