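import Cfsg.Agent.Lib.Perm.Basic
import Cfsg.Agent.Lib.Perm.MinimalNormal
import Cfsg.Agent.Lib.Perm.PrimeTwin
import Cfsg.Agent.Lib.OddBaseTwo.SmallBounds

/-!
# A solvable permutation group of degree `n` has order at most `3 ^ (n - 1)`
-/

set_option autoImplicit false
set_option linter.style.haveILetI false

namespace Cfsg.Agent.SolvLin

open MulAction

universe u v

theorem two_sq_le : ∀ k, 4 ≤ k → 2 * (k * k + k) ≤ 3 * (2 ^ k - 1) := by
  intro k hk
  induction k, hk using Nat.le_induction with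
  | base => norm_num
  | succ m hm ih =>
    have h1 : m < 2 ^ m := Nat.lt_two_pow_self
    rw [pow_succ]
    nlinarith [Nat.sub_add_cancel (Nat.one_le_two_pow (n := m)),
      Nat.sub_add_cancel (show 1 ≤ 2 ^ m * 2 by omega)]

theorem sq_le_three_pow : ∀ p, 3 ≤ p → p * p ≤ 3 ^ (p - 1) := by
  intro p hp
  induction p, hp using Nat.le_induction with
  | base => norm_num
  | succ m hm ih =>
    rw [show m + 1 - 1 = m - 1 + 1 by omega, pow_succ]
    nlinarith

/-- The order of `AGL_k(p)` against `3 ^ (p ^ k - 1)`, outside degree at most 4 and 8. -/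
theorem affine_num (p k : ℕ) (hp : 2 ≤ p) (h5 : 5 ≤ p ^ k) (h8 : ¬ (p = 2 ∧ k = 3)) :
    p ^ (k * k + k) ≤ 3 ^ (p ^ k - 1) := by
  rcases Nat.eq_or_lt_of_le hp with rfl | hp3
  · have hk : 4 ≤ k := by
      rcases lt_or_ge k 4 with h | h
      · interval_cases k <;> simp_all
      · exact h
    have h := two_sq_le k hk
    calc 2 ^ (k * k + k) ≤ 2 ^ (3 * (2 ^ k - 1) / 2) := Nat.pow_le_pow_right (by norm_num) (by omega)
      _ ≤ 3 ^ (2 ^ k - 1) := by
        generalize 2 ^ k - 1 = M
        have h8 : (2 : ℕ) ^ (3 * M) ≤ 3 ^ (2 * M) := by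
          rw [pow_mul, pow_mul]; exact Nat.pow_le_pow_left (by norm_num) M
        have h2 : (2 ^ (3 * M / 2)) ^ 2 ≤ (3 ^ M) ^ 2 := by
          rw [← pow_mul, ← pow_mul, mul_comm M 2]
          exact (Nat.pow_le_pow_right (by norm_num) (by omega)).trans h8
        exact (Nat.pow_le_pow_iff_left (by norm_num)).1 h2
  · set T := ∑ i ∈ Finset.range k, (i + 1) with hT
    have hT2 : T * 2 = k * k + k := by
      rw [hT]
      clear hT T h5 h8
      induction k with
      | zero => simp
      | succ m ih => rw [Finset.sum_range_succ, add_mul, ih]; ring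
    have hTle : T ≤ ∑ i ∈ Finset.range k, p ^ i :=
      Finset.sum_le_sum fun i _ => Nat.succ_le_of_lt (Nat.lt_pow_self (by omega))
    have hg : (p - 1) * ∑ i ∈ Finset.range k, p ^ i = p ^ k - 1 := by
      rw [mul_comm, geom_sum_mul_of_one_le (by omega)]
    calc p ^ (k * k + k) = (p * p) ^ T := by rw [← hT2, mul_comm T 2, pow_mul, sq]
      _ ≤ (3 ^ (p - 1)) ^ T := Nat.pow_le_pow_left (sq_le_three_pow p (by omega)) T
      _ = 3 ^ ((p - 1) * T) := (pow_mul _ _ _).symm
      _ ≤ _ := Nat.pow_le_pow_right (by norm_num) (hg ▸ Nat.mul_le_mul_left _ hTle)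

/-- The product formula for the order of `GL_k(p)`, crudely. -/
theorem prod_GL_le (p k : ℕ) : ∏ i : Fin k, (p ^ k - p ^ (i : ℕ)) ≤ p ^ (k * k) := by
  calc ∏ i : Fin k, (p ^ k - p ^ (i : ℕ)) ≤ ∏ _i : Fin k, p ^ k :=
        Finset.prod_le_prod' fun i _ => Nat.sub_le _ _
    _ = p ^ (k * k) := by simp [← pow_mul]

theorem factorial_le_small : ∀ n ≤ 4, n.factorial ≤ 3 ^ (n - 1) := by decide

theorem exp_sum {ι : Type*} (s : Finset ι) (f : ι → ℕ) (hf : ∀ i ∈ s, 1 ≤ f i) :
    ∑ i ∈ s, (f i - 1) + s.card = ∑ i ∈ s, f i := by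
  rw [Finset.card_eq_sum_ones, ← Finset.sum_add_distrib]
  exact Finset.sum_congr rfl fun i hi => Nat.sub_add_cancel (hf i hi)

/-- Solvable permutation groups are small. -/
theorem card_perm_le : ∀ (n : ℕ) {α : Type u} [Finite α] (G : Subgroup (Equiv.Perm α))
    [Group.IsSolvable G], Nat.card α = n → Nat.card G ≤ 3 ^ (n - 1) := by
  classical
  intro n
  induction n using Nat.strong_induction_on with
  | _ n ih =>
  intro α _ G _ hn
  haveI := Fintype.ofFinite α
  have hinj : Function.Injective (toPermHom G α) := MulAction.toPerm_injective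
  -- small degree
  by_cases h4 : n ≤ 4
  · refine le_trans ?_ (factorial_le_small n h4)
    refine (Nat.card_le_card_of_injective _ hinj).trans ?_
    rw [Nat.card_perm, hn]
  -- a non-trivial invariant equivalence relation
  have step : ∀ r : α → α → Prop, Equivalence r → (∀ (g : G) a b, r a b → r (g • a) (g • b)) →
      (∃ a b, r a b ∧ a ≠ b) → (∃ a b, ¬ r a b) → Nat.card G ≤ 3 ^ (n - 1) := by
    intro r hr hinv ⟨a₀, b₀, hab, hne⟩ ⟨a₁, b₁, hab₁⟩
    let s : Setoid α := ⟨r, hr⟩
    let Q := Quotient s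
    letI : MulAction G Q :=
      { smul := fun g => Quotient.map (fun x : α => g • x) fun a b h => hinv g a b h
        one_smul := fun q => Quotient.inductionOn q fun x => congrArg (Quotient.mk s) (one_smul G x)
        mul_smul := fun g h q => Quotient.inductionOn q fun x =>
          congrArg (Quotient.mk s) (mul_smul g h x) }
    haveI : Finite Q := Quotient.finite _
    haveI := Fintype.ofFinite Q
    let π : G →* Equiv.Perm Q := toPermHom G Q
    have hker : ∀ k ∈ π.ker, ∀ x : α, Quotient.mk s (k • x) = Quotient.mk s x := fun k hk x => by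
      have := congrArg (fun σ : Equiv.Perm Q => σ (Quotient.mk s x)) (MonoidHom.mem_ker.1 hk)
      exact this
    -- the action of the kernel on one class
    let φ : ∀ q : Q, π.ker →* Equiv.Perm {x : α // Quotient.mk s x = q} := fun q =>
      { toFun := fun k => (toPerm (k : G) : Equiv.Perm α).subtypePerm fun x => by
          show Quotient.mk s ((k : G) • x) = q ↔ _
          rw [hker k k.2 x]
        map_one' := Equiv.ext fun x => Subtype.ext (one_smul G (x : α))
        map_mul' := fun k l => Equiv.ext fun x => Subtype.ext (mul_smul (k : G) (l : G) (x : α)) }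
    have hcl : ∀ q : Q, Nonempty {x : α // Quotient.mk s x = q} := fun q =>
      Quotient.inductionOn q fun x => ⟨⟨x, rfl⟩⟩
    have hfib : ∑ q : Q, Nat.card {x : α // Quotient.mk s x = q} = n := by
      rw [← Nat.card_sigma, Nat.card_congr (Equiv.sigmaFiberEquiv (Quotient.mk s)), hn]
    have hQlt : Nat.card Q < n := by
      rw [← hn, Nat.card_eq_fintype_card, Nat.card_eq_fintype_card]
      refine Fintype.card_lt_of_surjective_not_injective _ Quotient.mk_surjective fun h => hne ?_
      exact h (Quotient.sound hab)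
    have hQ2 : 2 ≤ Fintype.card Q :=
      Fintype.one_lt_card_iff.2 ⟨Quotient.mk s a₁, Quotient.mk s b₁, fun h => hab₁ (Quotient.exact h)⟩
    have hlt : ∀ q : Q, Nat.card {x : α // Quotient.mk s x = q} < n := by
      intro q
      obtain ⟨q', hq'⟩ := Fintype.exists_ne_of_one_lt_card hQ2 q
      obtain ⟨x, hx⟩ := hcl q'
      rw [← hn, Nat.card_eq_fintype_card, Nat.card_eq_fintype_card]
      exact Fintype.card_subtype_lt (x := x) fun e => hq' (hx ▸ e)
    have hK : Nat.card π.ker ≤ 3 ^ ∑ q : Q, (Nat.card {x : α // Quotient.mk s x = q} - 1) := by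
      rw [← Finset.prod_pow_eq_pow_sum]
      have hi : Function.Injective fun (k : π.ker) (q : Q) => (φ q).rangeRestrict k := by
        intro k l hkl
        refine Subtype.ext (hinj (Equiv.ext fun x => ?_))
        have h := congrArg Subtype.val (congrFun hkl (Quotient.mk s x))
        exact congrArg Subtype.val (Equiv.congr_fun h ⟨x, rfl⟩)
      refine (Nat.card_le_card_of_injective _ hi).trans ?_
      rw [Nat.card_pi]
      refine Finset.prod_le_prod' fun q _ => ?_
      haveI : Group.IsSolvable (φ q).range :=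
        Group.isSolvable_of_surjective (φ q).rangeRestrict_surjective
      exact ih _ (hlt q) (φ q).range rfl
    haveI : Group.IsSolvable π.range := Group.isSolvable_of_surjective π.rangeRestrict_surjective
    have hI : Nat.card π.range ≤ 3 ^ (Nat.card Q - 1) := ih _ hQlt π.range rfl
    have hcard : Nat.card G = Nat.card π.range * Nat.card π.ker := by
      rw [← Subgroup.index_ker, Subgroup.index_mul_card]
    rw [hcard]
    refine (Nat.mul_le_mul hI hK).trans ?_
    rw [← pow_add]
    refine Nat.pow_le_pow_right (by norm_num) ?_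
    have hs := exp_sum (Finset.univ : Finset Q) (fun q => Nat.card {x : α // Quotient.mk s x = q})
      fun q _ => by haveI := hcl q; exact Nat.card_pos
    rw [hfib, Finset.card_univ, ← Nat.card_eq_fintype_card] at hs
    rw [← Nat.card_eq_fintype_card] at hQ2
    omega
  by_cases htr : IsPretransitive G α
  swap
  · by_cases htriv : ∀ (g : G) (x : α), g • x = x
    · haveI : Subsingleton G := ⟨fun g h => eq_of_smul_eq_smul fun x : α => by rw [htriv, htriv]⟩
      rw [Nat.card_of_subsingleton (1 : G)]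
      exact Nat.one_le_pow _ _ (by norm_num)
    simp only [not_forall] at htriv
    obtain ⟨g, x, hgx⟩ := htriv
    refine step (fun a b => ∃ g : G, g • a = b) ?_ ?_ ⟨x, g • x, ⟨g, rfl⟩, Ne.symm hgx⟩ ?_
    · exact ⟨fun a => ⟨1, one_smul G a⟩, fun ⟨g, hg⟩ => ⟨g⁻¹, inv_smul_eq_iff.2 hg.symm⟩,
        fun ⟨g, hg⟩ ⟨h, hh⟩ => ⟨h * g, by rw [mul_smul, hg, hh]⟩⟩
    · rintro k a b ⟨g, rfl⟩
      exact ⟨k * g * k⁻¹, by rw [mul_smul, mul_smul, inv_smul_smul]⟩
    · by_contra hall
      refine htr ⟨fun a b => ?_⟩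
      by_contra h
      exact hall ⟨a, b, h⟩
  by_cases hprim : IsPreprimitive G α
  swap
  · by_contra hbig
    refine hprim (Perm.isPreprimitive_of_equivalence fun r hr hinv => ?_)
    by_contra hno
    simp only [not_or, not_forall] at hno
    obtain ⟨⟨a, b, hab, hne⟩, ⟨c, d, hcd⟩⟩ := hno
    exact hbig (step r hr hinv ⟨a, b, hab, hne⟩ ⟨c, d, hcd⟩)
  -- primitive
  haveI : Nontrivial G := by
    by_contra h
    rw [not_nontrivial_iff_subsingleton] at h
    have : 1 < Nat.card α := by omega
    rw [Nat.card_eq_fintype_card] at this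
    obtain ⟨a, b, hab⟩ := Fintype.one_lt_card_iff.1 this
    obtain ⟨g, hg⟩ := exists_smul_eq G a b
    exact hab (by rw [← hg, Subsingleton.elim g 1, one_smul])
  obtain ⟨A, hAn, hA1, hAc⟩ := SelfNormNonabelian.exists_abelian_normal G
  obtain ⟨N, ⟨hNn, hN1, hNA⟩, hNmin⟩ := Set.Finite.exists_minimal
    (s := {N : Subgroup G | N.Normal ∧ N ≠ ⊥ ∧ N ≤ A}) (Set.toFinite _) ⟨A, hAn, hA1, le_rfl⟩
  haveI := hNn
  haveI : IsMulCommutative N := ⟨⟨fun a b => Subtype.ext <|
    (congrArg Subtype.val (mul_comm' (⟨(a : G), hNA a.2⟩ : A) ⟨(b : G), hNA b.2⟩) :)⟩⟩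
  obtain ⟨p, hp, hexp⟩ := Perm.exists_prime_exponent_of_abelian_minimal N hN1 fun M hM hle => by
    by_cases hMb : M = ⊥
    · exact Or.inl hMb
    · exact Or.inr (le_antisymm hle (hNmin ⟨hM, hMb, hle.trans hNA⟩ hle))
  haveI := Fact.mk hp
  haveI : Nonempty α := (Nat.card_pos_iff.1 (by omega : 0 < Nat.card α)).1
  obtain ⟨a⟩ := ‹Nonempty α›
  obtain ⟨hNt, hreg, hcent⟩ := Perm.regular_of_abelian_normal (α := α) (N := N) hN1
  have hNcard : Nat.card N = n := by rw [Perm.card_eq_of_regular (hreg a), hn]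
  obtain ⟨k, hk⟩ := IsPGroup.iff_card.1
    (fun x => ⟨1, Subtype.ext (by simpa using hexp x x.2)⟩ : IsPGroup p N)
  rw [hNcard] at hk
  let ψ : stabilizer G a →* MulAut N :=
    (MulAut.conjNormal (H := N)).comp (stabilizer G a).subtype
  have hψ : Function.Injective ψ := by
    rw [← MonoidHom.ker_eq_bot_iff, Subgroup.eq_bot_iff_forall]
    intro g hg
    have hgc : (g : G) ∈ Subgroup.centralizer (N : Set G) := by
      intro x hx
      have h := congrArg Subtype.val (DFunLike.congr_fun (MonoidHom.mem_ker.1 hg) ⟨x, hx⟩)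
      have h' : (g : G) * x * (g : G)⁻¹ = x := h
      exact (mul_inv_eq_iff_eq_mul.1 h').symm
    rw [hcent] at hgc
    exact Subtype.ext (Perm.stabilizer_subgroup_eq_bot_iff.1 (hreg a) _ hgc g.2)
  letI : CommGroup N := { (inferInstance : Group N) with mul_comm := mul_comm' }
  have hS : Nat.card (stabilizer G a) ≤ ∏ i : Fin k, (p ^ k - p ^ (i : ℕ)) := by
    refine (Nat.card_le_card_of_injective _ hψ).trans (Nat.le_of_dvd ?_ ?_)
    · refine Finset.prod_pos fun i _ => Nat.sub_pos_of_lt ?_
      exact Nat.pow_lt_pow_right hp.one_lt i.2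
    · exact OddBaseTwo.card_mulAut_dvd p k (hNcard.trans hk) fun x =>
        Subtype.ext (by simpa using hexp x x.2)
  rw [← Perm.card_mul_card_stabilizer a, hn]
  refine (Nat.mul_le_mul_left n hS).trans ?_
  rw [hk]
  by_cases h8 : p = 2 ∧ k = 3
  · obtain ⟨rfl, rfl⟩ := h8
    decide
  refine (Nat.mul_le_mul_left _ (prod_GL_le p k)).trans ?_
  rw [← pow_add, add_comm]
  exact affine_num p k hp.two_le (by omega) h8

/-- A solvable group acting faithfully on `n` points has order at most `3 ^ (n - 1)`. -/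
theorem card_le_three_pow {α : Type u} [Finite α] {G : Type v} [Group G] [Group.IsSolvable G]
    [MulAction G α] [FaithfulSMul G α] : Nat.card G ≤ 3 ^ (Nat.card α - 1) := by
  rw [Nat.card_congr (MonoidHom.ofInjective (f := toPermHom G α) MulAction.toPerm_injective).toEquiv]
  haveI : Group.IsSolvable (toPermHom G α).range :=
    Group.isSolvable_of_surjective (toPermHom G α).rangeRestrict_surjective
  exact card_perm_le _ (toPermHom G α).range rfl

end Cfsg.Agent.SolvLin
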