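import Cfsg.Agent.Lib.SolvLin.Blocks
import Cfsg.Agent.Lib.SolvLin.PermBound
import Cfsg.Agent.Lib.SolvLin.FieldCase

/-!
# Irreducible solvable linear groups over prime fields
-/

set_option autoImplicit false
set_option linter.style.haveILetI false
set_option linter.unusedSectionVars false

namespace Cfsg.Agent.SolvLin

open Module Subgroup

section

variable {p : ℕ} [Fact p.Prime] {V : Type} [AddCommGroup V] [Module (ZMod p) V] [Finite V]
variable {X : Type} [Group X] [Finite X] (ρ : X →* Module.End (ZMod p) V)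

/-- An abelian normal subgroup of an irreducible group has order prime to `p`. -/
theorem card_ne_zero_of_irreducible (hρ : Function.Injective ρ) [Nontrivial V]
    (hirr : ∀ W : Submodule (ZMod p) V, (∀ x : X, ∀ w ∈ W, ρ x w ∈ W) → W = ⊥ ∨ W = ⊤)
    (A : Subgroup X) [A.Normal] (hab : ∀ a ∈ A, ∀ b ∈ A, a * b = b * a) :
    (Nat.card A : ZMod p) ≠ 0 := by
  have hp : p.Prime := Fact.out
  rw [Ne, ZMod.natCast_eq_zero_iff]
  intro hdvd
  obtain ⟨a, ha⟩ := exists_prime_orderOf_dvd_card' p hdvd
  let P : Subgroup X :=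
    { carrier := {x | x ∈ A ∧ x ^ p = 1}
      one_mem' := ⟨one_mem A, one_pow p⟩
      mul_mem' := fun {x y} hx hy => ⟨mul_mem hx.1 hy.1, by
        rw [(show Commute x y from hab x hx.1 y hy.1).mul_pow, hx.2, hy.2, one_mul]⟩
      inv_mem' := fun {x} hx => ⟨inv_mem hx.1, by rw [inv_pow, hx.2, inv_one]⟩ }
  have hPn : P.Normal := ⟨fun x hx g => ⟨(inferInstance : A.Normal).conj_mem x hx.1 g, by
    rw [conj_pow, hx.2, mul_one, mul_inv_cancel]⟩⟩
  have hPp : IsPGroup p P := fun x => ⟨1, by rw [pow_one]; exact Subtype.ext x.2.2⟩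
  letI : MulAction P V :=
    { smul := fun x v => ρ (x : X) v
      one_smul := fun v => by
        show ρ ((1 : P) : X) v = v
        rw [Subgroup.coe_one, map_one, Module.End.one_apply]
      mul_smul := fun x y v => by
        show ρ ((x * y : P) : X) v = ρ (x : X) (ρ (y : X) v)
        rw [Subgroup.coe_mul, map_mul, Module.End.mul_apply] }
  let W : Submodule (ZMod p) V :=
    { carrier := MulAction.fixedPoints P V
      add_mem' := fun {v w} hv hw x => by
        show ρ (x : X) (v + w) = v + w
        rw [map_add]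
        exact congrArg₂ (· + ·) (hv x) (hw x)
      zero_mem' := fun x => map_zero (ρ (x : X))
      smul_mem' := fun c v hv x => by
        show ρ (x : X) (c • v) = c • v
        rw [map_smul]
        exact congrArg (c • ·) (hv x) }
  have hWinv : ∀ x : X, ∀ w ∈ W, ρ x w ∈ W := fun x w hw y => by
    show ρ (y : X) (ρ x w) = ρ x w
    have h := hw ⟨x⁻¹ * (y : X) * x, by simpa using hPn.conj_mem _ y.2 x⁻¹⟩
    have h' : ρ (x⁻¹ * (y : X) * x) w = w := h
    conv_rhs => rw [← h', ← Module.End.mul_apply, ← map_mul]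
    rw [← Module.End.mul_apply, ← map_mul]
    congr 2
    group
  have hcard : p ∣ Nat.card V := by
    rw [Module.natCard_eq_pow_finrank (K := ZMod p), Nat.card_zmod]
    exact dvd_pow_self p Module.finrank_pos.ne'
  have hfix : p ∣ Nat.card (MulAction.fixedPoints P V) :=
    Nat.modEq_zero_iff_dvd.1 ((hPp.card_modEq_card_fixedPoints V).symm.trans
      (Nat.modEq_zero_iff_dvd.2 hcard))
  rcases hirr W hWinv with h | h
  · have h1 : Nat.card (MulAction.fixedPoints P V) = 1 := by
      have h2 : Nat.card W = 1 := by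
        rw [h]
        exact Nat.card_unique
      exact h2
    rw [h1, Nat.dvd_one] at hfix
    exact hp.ne_one hfix
  · have ha1 : (a : X) = 1 := by
      refine hρ (LinearMap.ext fun v => ?_)
      rw [map_one, Module.End.one_apply]
      exact (show v ∈ W from h ▸ Submodule.mem_top) ⟨(a : X), a.2, by
        rw [← Subgroup.coe_pow, ← ha, pow_orderOf_eq_one, Subgroup.coe_one]⟩
    rw [show a = 1 from Subtype.ext ha1, orderOf_one] at ha
    exact hp.ne_one ha.symm

variable {ρ}

/-- The stabiliser of a block is irreducible on it. -/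
theorem Blocks.irreducible_block (B : Blocks ρ)
    (hirr : ∀ W : Submodule (ZMod p) V, (∀ x : X, ∀ w ∈ W, ρ x w ∈ W) → W = ⊥ ∨ W = ⊤) (e : B.S)
    (W : Submodule (ZMod p) (B.space e)) (hW : ∀ g : B.stab e, ∀ w ∈ W, B.onBlock e g w ∈ W) :
    W = ⊥ ∨ W = ⊤ := by
  let W' : Submodule (ZMod p) V := W.map (B.space e).subtype
  let W'' : Submodule (ZMod p) V := ⨅ x : X, W'.comap ((e : Module.End (ZMod p) V) * ρ x)
  have hinv : ∀ x : X, ∀ v ∈ W'', ρ x v ∈ W'' := fun x v hv => by
    simp only [W'', Submodule.mem_iInf, Submodule.mem_comap, Module.End.mul_apply] at hv ⊢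
    intro y
    rw [← Module.End.mul_apply, ← Module.End.mul_apply, mul_assoc, ← map_mul, Module.End.mul_apply]
    exact hv (y * x)
  have hle : ∀ w ∈ W, (w : V) ∈ W'' := fun w hw => by
    simp only [W'', Submodule.mem_iInf, Submodule.mem_comap, Module.End.mul_apply]
    intro x
    by_cases hx : x ∈ B.stab e
    · rw [B.apply_of_mem (B.maps_space hx w.2)]
      exact ⟨_, hW ⟨x, hx⟩ w hw, rfl⟩
    · have h := B.rho_apply_block x e w
      rw [B.apply_of_mem w.2] at h
      rw [h, ← Module.End.mul_apply, B.orth e e.2 _ (B.perm x e).2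
        (fun heq => hx (B.mem_stab.2 (Subtype.ext heq.symm))), LinearMap.zero_apply]
      exact W'.zero_mem
  rcases hirr W'' hinv with h | h
  · left
    rw [Submodule.eq_bot_iff]
    intro w hw
    exact Subtype.ext ((Submodule.mem_bot _).1 (h ▸ hle w hw))
  · right
    rw [Submodule.eq_top_iff']
    intro w
    have h1 : (w : V) ∈ W'' := h ▸ Submodule.mem_top
    simp only [W'', Submodule.mem_iInf, Submodule.mem_comap, Module.End.mul_apply] at h1
    have h2 := h1 1
    rw [map_one, Module.End.one_apply, B.apply_of_mem w.2] at h2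
    obtain ⟨w', hw', he⟩ := h2
    rwa [← show w' = w from Subtype.ext he]

/-- The case of a system of blocks. -/
theorem kb_of_blocks [Group.IsSolvable X] (hρ : Function.Injective ρ) {N : ℕ}
    (hd : finrank (ZMod p) V = N)
    (hirr : ∀ W : Submodule (ZMod p) V, (∀ x : X, ∀ w ∈ W, ρ x w ∈ W) → W = ⊥ ∨ W = ⊤)
    (hlow : ∀ N' < N, 1 ≤ N' → IrrBound p N') (B : Blocks ρ) : KB X (irrB p N) := by
  classical
  set b : B.S → ℕ := fun e => finrank (ZMod p) (B.space e) with hb
  have hsum : ∑ e, b e = N := hd ▸ B.sum_finrank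
  have hpos : ∀ e, 1 ≤ b e := fun e => by
    haveI := B.nontrivial_space e
    exact Module.finrank_pos
  have hlt : ∀ e, b e < N := fun e => by
    obtain ⟨f, hf⟩ : ∃ f : B.S, f ≠ e := by
      haveI : Nontrivial B.S := by
        rw [← Fintype.one_lt_card_iff_nontrivial, Fintype.card_coe]
        exact B.one_lt
      exact exists_ne e
    rw [← hsum]
    exact Finset.single_lt_sum hf (Finset.mem_univ _) (Finset.mem_univ _)
      (lt_of_lt_of_le zero_lt_one (hpos f)) fun _ _ _ => Nat.zero_le _
  have hblock : ∀ e, KB (B.stab e ⧸ (B.onBlock e).ker) (irrB p (b e)) := fun e => by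
    haveI : Group.IsSolvable (B.stab e ⧸ (B.onBlock e).ker) :=
      Group.isSolvable_of_surjective (QuotientGroup.mk'_surjective (B.onBlock e).ker)
    refine hlow (b e) (hlt e) (hpos e) (B.space e) _
      (QuotientGroup.lift (B.onBlock e).ker (B.onBlock e) fun _ h => h) ?_ rfl ?_
    · intro x y hxy
      obtain ⟨x, rfl⟩ := QuotientGroup.mk_surjective x
      obtain ⟨y, rfl⟩ := QuotientGroup.mk_surjective y
      refine QuotientGroup.eq.2 (MonoidHom.mem_ker.2 ?_)
      have hxy' : B.onBlock e x = B.onBlock e y := hxy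
      rw [map_mul, ← hxy', ← map_mul, inv_mul_cancel, map_one]
    · intro W hW
      exact B.irreducible_block hirr e W fun g w hw => hW (g : B.stab e ⧸ _) w hw
  have hker : KB B.perm.ker (∏ e, irrB p (b e)) := by
    refine KB.pi (fun e => irrB p (b e)) Finset.univ
      (fun e => (QuotientGroup.mk' (B.onBlock e).ker).comp (Subgroup.inclusion (B.ker_le_stab e)))
      (fun e _ => hblock e) fun g hg => Subtype.ext (B.eq_one_of_onBlock hρ g.2 fun e => ?_)
    exact MonoidHom.mem_ker.1 ((QuotientGroup.eq_one_iff _).1 (hg e (Finset.mem_univ e)))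
  have hrange : KB B.perm.range (3 ^ (Fintype.card B.S - 1)) := by
    haveI : Group.IsSolvable B.perm.range :=
      Group.isSolvable_of_surjective B.perm.rangeRestrict_surjective
    refine KB.of_card (le_trans (card_le_three_pow (α := B.S)) ?_)
    rw [Nat.card_eq_fintype_card]
  refine (KB.ext B.perm.rangeRestrict
    (KB.of_subgroup_le (MonoidHom.ker_rangeRestrict _).le hker) hrange).mono ?_
  simp only [irrB]
  rw [Finset.prod_mul_distrib, Finset.prod_pow_eq_pow_sum, Finset.prod_pow_eq_pow_sum, hsum,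
    mul_right_comm, ← pow_add]
  refine Nat.mul_le_mul_right _ (Nat.pow_le_pow_right (by norm_num) ?_)
  have h1 : ∑ e, (b e - 1) + Fintype.card B.S = N := by
    rw [← hsum, Fintype.card_eq_sum_ones, ← Finset.sum_add_distrib]
    exact Finset.sum_congr rfl fun e _ => Nat.sub_add_cancel (hpos e)
  have h2 : 1 ≤ Fintype.card B.S := by rw [Fintype.card_coe]; exact B.one_lt.le
  omega

end

/-- An irreducible group has a system of blocks or data of the field case. -/
theorem irreducible_dichotomy {p : ℕ} [Fact p.Prime] {V : Type} [AddCommGroup V] [Module (ZMod p) V]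
    [Finite V] [Nontrivial V] {X : Type} [Group X] [Finite X] (ρ : X →* Module.End (ZMod p) V)
    (hρ : Function.Injective ρ)
    (hirr : ∀ W : Submodule (ZMod p) V, (∀ x : X, ∀ w ∈ W, ρ x w ∈ W) → W = ⊥ ∨ W = ⊤) {P : Prop}
    (hblocks : Blocks ρ → P)
    (hfield : ∀ (E : Type) [Field E] [Algebra (ZMod p) E] [Finite E] [Module E V] (A : Subgroup X)
      [A.Normal], (∀ a ∈ A, ∀ b ∈ A, a * b = b * a) → ∀ D : FieldData (p := p) (E := E) A V,
      (∀ x v, D.act x v = ρ x v) → P) : P := by
  classical
  obtain ⟨A, ⟨hAn, hab⟩, hmax⟩ := Set.Finite.exists_maximal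
    (s := {A : Subgroup X | A.Normal ∧ ∀ a ∈ A, ∀ b ∈ A, a * b = b * a}) (Set.toFinite _)
    ⟨⊥, inferInstance, fun a ha b hb => by
      rw [Subgroup.mem_bot.1 ha, Subgroup.mem_bot.1 hb]⟩
  haveI : A.Normal := hAn
  haveI : NeZero (Nat.card A : ZMod p) := ⟨card_ne_zero_of_irreducible ρ hρ hirr A hab⟩
  rcases field_or_blocks ρ A hab with hf | ⟨⟨B⟩⟩
  swap
  · exact hblocks B
  letI : Field (algOf ρ A) := hf.toField
  haveI : Finite (Module.End (ZMod p) V) :=
    Finite.of_injective _ DFunLike.coe_injective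
  let act : X →* AddMonoid.End V :=
    { toFun := fun x => (ρ x).toAddMonoidHom
      map_one' := by rw [map_one]; rfl
      map_mul' := fun x y => by rw [map_mul]; rfl }
  let θf : X → (algOf ρ A) ≃ₐ[ZMod p] (algOf ρ A) := fun x =>
    { toFun := fun e => ⟨conjEnd ρ x e, conjEnd_mem ρ A x e.2⟩
      invFun := fun e => ⟨conjEnd ρ x⁻¹ e, conjEnd_mem ρ A x⁻¹ e.2⟩
      left_inv := fun e => Subtype.ext (by
        show conjEnd ρ x⁻¹ (conjEnd ρ x e) = e
        rw [conjEnd_mul, inv_mul_cancel]; simp [conjEnd])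
      right_inv := fun e => Subtype.ext (by
        show conjEnd ρ x (conjEnd ρ x⁻¹ e) = e
        rw [conjEnd_mul, mul_inv_cancel]; simp [conjEnd])
      map_mul' := fun a b => Subtype.ext (map_mul (conjEnd ρ x) _ _)
      map_add' := fun a b => Subtype.ext (map_add (conjEnd ρ x) _ _)
      commutes' := fun r => Subtype.ext (AlgHom.commutes (conjEnd ρ x) r) }
  let θ : X →* (algOf ρ A) ≃ₐ[ZMod p] (algOf ρ A) :=
    { toFun := θf
      map_one' := AlgEquiv.ext fun e => Subtype.ext (by
        show conjEnd ρ 1 e = e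
        simp [conjEnd])
      map_mul' := fun x y => AlgEquiv.ext fun e => Subtype.ext (conjEnd_mul ρ x y _).symm }
  have hθ : ∀ x : X, θ x = 1 ↔ x ∈ centralizer (A : Set X) := by
    intro x
    constructor
    · intro h
      refine mem_centralizer_iff.2 fun a ha => hρ ?_
      have h1 : ρ x * ρ a * ρ x⁻¹ = ρ a :=
        congrArg Subtype.val (AlgEquiv.congr_fun h ⟨ρ a, rho_mem_algOf ρ A ha⟩)
      rw [map_mul, map_mul]
      conv_lhs => rw [← h1]
      rw [mul_assoc, rho_inv_mul, mul_one]
    · intro hx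
      have hle : algOf ρ A ≤ AlgHom.equalizer (conjEnd ρ x) (AlgHom.id _ _) :=
        Algebra.adjoin_le <| by
          rintro _ ⟨a, ha, rfl⟩
          show ρ x * ρ a * ρ x⁻¹ = ρ a
          rw [← map_mul, ← map_mul, ← mem_centralizer_iff.1 hx a ha, mul_inv_cancel_right]
      exact AlgEquiv.ext fun e => Subtype.ext (hle e.2)
  let D : FieldData (p := p) (E := algOf ρ A) A V :=
    { ι :=
        { toFun := fun a => ⟨ρ a, rho_mem_algOf ρ A a.2⟩
          map_one' := Subtype.ext (map_one ρ)
          map_mul' := fun a b => Subtype.ext (map_mul ρ _ _) }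
      ι_inj := fun a b h => Subtype.ext (hρ (congrArg Subtype.val h))
      act := act
      act_inj := fun x y h => hρ (LinearMap.ext fun v => DFunLike.congr_fun h v)
      act_A := fun a v => rfl
      θ := θ
      act_smul := fun x e v => by
        show ρ x ((e : Module.End (ZMod p) V) v) = (ρ x * (e : Module.End (ZMod p) V) * ρ x⁻¹) (ρ x v)
        rw [mul_assoc, Module.End.mul_apply, Module.End.mul_apply, ← Module.End.mul_apply (ρ x⁻¹),
          rho_inv_mul, Module.End.one_apply]
      θ_eq_one := hθ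
      maximal := fun U hU hUn hUab => by
        haveI := hUn
        refine le_trans le_sup_left (hmax (y := U ⊔ A) ⟨inferInstance, ?_⟩ le_sup_right)
        intro x hx y hy
        rw [Subgroup.mem_sup_of_normal_left] at hx hy
        obtain ⟨u, hu, a, ha, rfl⟩ := hx
        obtain ⟨v, hv, b, hb, rfl⟩ := hy
        have c1 : Commute u b := (mem_centralizer_iff.1 (hU hu) b hb).symm
        have c2 : Commute v a := (mem_centralizer_iff.1 (hU hv) a ha).symm
        have c3 : Commute u v := hUab u hu v hv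
        have c4 : Commute a b := hab a ha b hb
        exact ((c3.mul_right c1).mul_left (c2.symm.mul_right c4)).eq }
  exact hfield (algOf ρ A) A hab D fun _ _ => rfl

/-- The inductive step. -/
theorem irrBound_step {p N : ℕ} (hp : p.Prime) (hN : 1 ≤ N)
    (hlow : ∀ N' < N, 1 ≤ N' → ∀ q : ℕ, q.Prime → IrrBound q N')
    (h2 : p ≠ 2 → IrrBound 2 N) : IrrBound p N := by
  classical
  haveI : Fact p.Prime := ⟨hp⟩
  intro V _ _ _ X _ _ _ ρ hρ hd hirr
  haveI : Nontrivial V := Module.nontrivial_of_finrank_pos (R := ZMod p) (by omega)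
  refine irreducible_dichotomy ρ hρ hirr
    (kb_of_blocks hρ hd hirr fun N' h1 h2' => hlow N' h1 h2' p hp) ?_
  intro E _ _ _ _ A _ hab D _
  refine kb_of_fieldData hN ?_ hab D ?_
  · rw [Module.natCard_eq_pow_finrank (K := ZMod p), Nat.card_zmod, hd]
  · intro q n t hq hn htpos hdvd htN hodd
    have hqt : q ^ n ≤ t := Nat.le_of_dvd htpos hdvd
    refine IrrBound.symp hq hn ?_
    rcases hq.eq_two_or_odd with rfl | hqodd
    · have hp2 : p ≠ 2 := fun h => by
        obtain ⟨k, hk⟩ := hodd h
        have : 2 ∣ t := (dvd_pow_self 2 (by omega)).trans hdvd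
        omega
      have h2n : 2 * n ≤ 2 ^ n := by
        obtain ⟨m, rfl⟩ := Nat.exists_eq_add_of_le hn
        have := Nat.lt_two_pow_self (n := m)
        rw [Nat.pow_add]
        omega
      rcases lt_or_eq_of_le (show 2 * n ≤ N by omega) with h | h
      · exact hlow _ h (by omega) 2 hq
      · rw [h]
        exact h2 hp2
    · have h3 : 3 ≤ q := by
        have := hq.two_le
        omega
      have h2n : 2 * n < 3 ^ n := by
        have : n - 1 < 2 ^ (n - 1) := Nat.lt_two_pow_self
        have h23 : 2 * 2 ^ (n - 1) = 2 ^ n := by rw [← pow_succ', Nat.sub_add_cancel hn]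
        have hle : n ≤ 2 ^ (n - 1) := by omega
        have hlt : 2 ^ n < 3 ^ n := Nat.pow_lt_pow_left (by norm_num) (by omega)
        omega
      have : 3 ^ n ≤ q ^ n := Nat.pow_le_pow_left h3 n
      exact hlow _ (by omega) (by omega) q hq

/-- Every irreducible solvable group over a prime field satisfies the bound. -/
theorem irrBound_all : ∀ N p : ℕ, 1 ≤ N → p.Prime → IrrBound p N := by
  intro N
  induction N using Nat.strong_induction_on with
  | _ N ih =>
    intro p hN hp
    have hlow : ∀ N' < N, 1 ≤ N' → ∀ q : ℕ, q.Prime → IrrBound q N' :=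
      fun N' h1 h2 q hq => ih N' h1 q h2 hq
    exact irrBound_step hp hN hlow fun _ =>
      irrBound_step Nat.prime_two hN hlow fun h => absurd rfl h

/-- The bound for the symplectic sections, with no hypotheses. -/
theorem irrBoundB_symp (p n : ℕ) (hp : p.Prime) (hn : 1 ≤ n) :
    IrrBoundB p (2 * n) (3 ^ (p ^ n - 1)) :=
  (irrBound_all (2 * n) p (by omega) hp).symp hp hn

end Cfsg.Agent.SolvLin
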