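import Cfsg.Agent.Lib.SolvLin.KBound

/-!
# Class numbers of semidirect products with a module

The quantity `wgt p X = (3p) ^ d`, `p ^ d` the `p`-part of `|X|`, is the bound to be proved for
`3 k(X)` when `O_{p'}(X) = 1`.
-/

set_option autoImplicit false
set_option linter.style.haveILetI false
set_option linter.unusedSectionVars false

namespace Cfsg.Agent.SolvLin

open Subgroup

universe u

/-- `(3 p) ^ d`, with `p ^ d` the `p`-part of the order. -/
noncomputable def wgt (p : ℕ) (X : Type u) : ℕ := (3 * p) ^ (Nat.card X).factorization p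

/-- No nontrivial normal subgroup has order prime to `p`. -/
def NoPPrimeNormal (p : ℕ) (X : Type u) [Group X] : Prop :=
  ∀ N : Subgroup X, N.Normal → ¬ p ∣ Nat.card N → N = ⊥

/-- The bound on the class number. -/
def ClsBnd (p : ℕ) (X : Type u) [Group X] : Prop := 3 * Nat.card (ConjClasses X) ≤ wgt p X

theorem one_le_wgt {p : ℕ} (hp : p.Prime) (X : Type u) : 1 ≤ wgt p X :=
  Nat.one_le_pow _ _ (Nat.mul_pos (by norm_num) hp.pos)

theorem wgt_congr {p : ℕ} {X Y : Type u} (h : Nat.card X = Nat.card Y) : wgt p X = wgt p Y := by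
  rw [wgt, wgt, h]

theorem wgt_mul {p : ℕ} {X Y Z : Type u} [Finite Y] [Nonempty Y] [Finite Z] [Nonempty Z]
    (h : Nat.card X = Nat.card Y * Nat.card Z) : wgt p X = wgt p Y * wgt p Z := by
  rw [wgt, wgt, wgt, h, Nat.factorization_mul Nat.card_pos.ne' Nat.card_pos.ne', Finsupp.add_apply,
    pow_add]

theorem wgt_mono {p : ℕ} (hp : p.Prime) {X Y : Type u} [Finite X] [Nonempty X] [Finite Y] [Nonempty Y]
    (h : Nat.card X ∣ Nat.card Y) : wgt p X ≤ wgt p Y :=
  Nat.pow_le_pow_right (Nat.mul_pos (by norm_num) hp.pos)
    ((Nat.factorization_le_iff_dvd Nat.card_pos.ne' Nat.card_pos.ne').2 h p)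

variable {G : Type} [Group G] [Finite G]

/-- Submultiplicativity along a homomorphism. -/
theorem card_classes_le_ker_mul_range {H : Type} [Group H] (f : G →* H) :
    Nat.card (ConjClasses G) ≤ Nat.card (ConjClasses f.ker) * Nat.card (ConjClasses f.range) :=
  haveI : Finite f.range := Finite.of_surjective _ f.rangeRestrict_surjective
  (card_classes_le_mul f.ker).trans (Nat.mul_le_mul_left _ (card_classes_le_of_surjective
    (f := (QuotientGroup.quotientKerEquivRange f).symm.toMonoidHom)
    (QuotientGroup.quotientKerEquivRange f).symm.surjective))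

omit [Finite G] in
theorem card_eq_ker_mul_range {H : Type} [Group H] (f : G →* H) :
    Nat.card G = Nat.card f.ker * Nat.card f.range := by
  rw [← Subgroup.index_ker]
  exact f.ker.card_mul_index.symm

/-- Subdirect products multiply the bounds. -/
theorem pow_mul_classes_le_wgt {p : ℕ} (hp : p.Prime) {I : Type} {H : I → Type} [∀ i, Group (H i)]
    [∀ i, Finite (H i)] (K : ∀ i, Subgroup (H i))
    (hb : ∀ i, ∀ S : Subgroup (H i), K i ≤ S → ClsBnd p S) :
    ∀ (s : Finset I) {G : Type} [Group G] [Finite G] (f : ∀ i, G →* H i),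
      (∀ g, (∀ i ∈ s, f i g = 1) → g = 1) →
      (∀ i ∈ s, ∀ k ∈ K i, ∃ g, f i g = k ∧ ∀ j ∈ s, j ≠ i → f j g = 1) →
      3 ^ s.card * Nat.card (ConjClasses G) ≤ wgt p G := by
  classical
  intro s
  induction s using Finset.induction_on with
  | empty =>
    intro G _ _ f hinj _
    haveI : Subsingleton G := ⟨fun g h => by rw [hinj g (by simp), hinj h (by simp)]⟩
    rw [Finset.card_empty, pow_zero, one_mul]
    exact (card_classes_le_card.trans (Finite.card_le_one_iff_subsingleton.2 inferInstance)).trans
      (one_le_wgt hp G)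
  | insert a s has ih =>
    intro G _ _ f hinj hL
    have hsub : K a ≤ (f a).range := fun k hk => by
      obtain ⟨g, hg, -⟩ := hL a (Finset.mem_insert_self a s) k hk
      exact ⟨g, hg⟩
    have h1 : 3 * Nat.card (ConjClasses (f a).range) ≤ wgt p (f a).range := hb a _ hsub
    have h2 := ih (fun i => (f i).comp (f a).ker.subtype) (fun g hg => Subtype.ext (hinj _ fun i hi => by
      rcases Finset.mem_insert.1 hi with rfl | hi
      · exact g.2
      · exact hg i hi)) fun i hi k hk => by
      obtain ⟨g, hg, hg'⟩ := hL i (Finset.mem_insert_of_mem hi) k hk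
      exact ⟨⟨g, hg' a (Finset.mem_insert_self a s) (fun h => has (h ▸ hi))⟩, hg,
        fun j hj hji => hg' j (Finset.mem_insert_of_mem hj) hji⟩
    rw [Finset.card_insert_of_notMem has, pow_succ, wgt_mul (card_eq_ker_mul_range (f a))]
    refine le_trans ?_ (Nat.mul_le_mul h2 h1)
    refine (Nat.mul_le_mul_left _ (card_classes_le_ker_mul_range (f a))).trans (le_of_eq ?_)
    ring

section Semidirect

variable {M : Type} [AddCommGroup M] {H : Type} [Group H]

/-- An action by additive endomorphisms as an action by automorphisms. -/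
def toAut (act : H →* AddMonoid.End M) : H →* MulAut (Multiplicative M) where
  toFun h :=
    { toFun := fun v => Multiplicative.ofAdd (act h (Multiplicative.toAdd v))
      invFun := fun v => Multiplicative.ofAdd (act h⁻¹ (Multiplicative.toAdd v))
      left_inv := fun v => by
        show Multiplicative.ofAdd ((act h⁻¹ * act h) (Multiplicative.toAdd v)) = v
        rw [← map_mul, inv_mul_cancel, map_one]
        rfl
      right_inv := fun v => by
        show Multiplicative.ofAdd ((act h * act h⁻¹) (Multiplicative.toAdd v)) = v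
        rw [← map_mul, mul_inv_cancel, map_one]
        rfl
      map_mul' := fun v w => congrArg Multiplicative.ofAdd (map_add (act h) _ _) }
  map_one' := MulEquiv.ext fun v => congrArg Multiplicative.ofAdd (DFunLike.congr_fun (map_one act) _)
  map_mul' a b := MulEquiv.ext fun v =>
    congrArg Multiplicative.ofAdd (DFunLike.congr_fun (map_mul act a b) _)

theorem toAut_apply (act : H →* AddMonoid.End M) (h : H) (v : M) :
    toAut act h (Multiplicative.ofAdd v) = Multiplicative.ofAdd (act h v) := rfl

/-- The semidirect product with a module. -/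
abbrev Sd (act : H →* AddMonoid.End M) : Type := Multiplicative M ⋊[toAut act] H

theorem card_sd (act : H →* AddMonoid.End M) : Nat.card (Sd act) = Nat.card M * Nat.card H := by
  rw [SemidirectProduct.card]
  rfl

instance finite_sd [Finite M] [Finite H] (act : H →* AddMonoid.End M) : Finite (Sd act) :=
  Finite.of_equiv _ SemidirectProduct.equivProd.symm

/-- An overgroup of the module in a faithful semidirect product has no normal `p'`-subgroup. -/
theorem noPPrimeNormal_of_inl_le [Finite M] [Finite H] {p : ℕ} [Fact p.Prime]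
    {act : H →* AddMonoid.End M} (hact : Function.Injective act) (hM : ∀ v : M, p • v = 0)
    (S : Subgroup (Sd act)) (hS : ∀ v, (SemidirectProduct.inl v : Sd act) ∈ S) :
    NoPPrimeNormal p S := by
  intro N hN hNp
  rw [Subgroup.eq_bot_iff_forall]
  intro n hn
  set L : Subgroup S := (SemidirectProduct.rightHom : Sd act →* H).ker.subgroupOf S with hL
  haveI : L.Normal := inferInstanceAs (((SemidirectProduct.rightHom : Sd act →* H).ker).subgroupOf S).Normal
  have hexp : ∀ v : Multiplicative M, v ^ p = 1 := fun v =>
    congrArg Multiplicative.ofAdd (hM (Multiplicative.toAdd v))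
  have hLp : IsPGroup p L := fun l => ⟨1, by
    rw [pow_one]
    refine Subtype.ext (Subtype.ext ?_)
    have hl : ((l : S) : Sd act).right = 1 := l.2
    have he : ((l : S) : Sd act) = SemidirectProduct.inl ((l : S) : Sd act).left :=
      SemidirectProduct.ext (by simp) (by simp [hl])
    show ((l : S) : Sd act) ^ p = 1
    rw [he, ← map_pow, hexp, map_one]⟩
  have hdisj : Disjoint N L := by
    rw [disjoint_iff, Subgroup.eq_bot_iff_forall]
    intro x hx
    obtain ⟨k, hk⟩ := hLp ⟨x, hx.2⟩
    have h1 : orderOf x ∣ p ^ k := orderOf_dvd_of_pow_eq_one (congrArg Subtype.val hk)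
    have h2 : orderOf x ∣ Nat.card N := Subgroup.orderOf_dvd_natCard N hx.1
    have hco : Nat.Coprime (p ^ k) (Nat.card N) :=
      Nat.Coprime.pow_left k ((Fact.out : p.Prime).coprime_iff_not_dvd.2 hNp)
    exact orderOf_eq_one_iff.1 (Nat.eq_one_of_dvd_coprimes hco h1 h2)
  have hn1 : ((n : S) : Sd act).right = 1 := by
    refine hact (AddMonoidHom.ext fun v => ?_)
    have hv : (⟨SemidirectProduct.inl (Multiplicative.ofAdd v), hS _⟩ : S) ∈ L :=
      SemidirectProduct.rightHom_inl _
    have hc := Subgroup.commute_of_normal_of_disjoint N L hN inferInstance hdisj _ _ hn hv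
    have h2 := congrArg (fun x : S => (x : Sd act).left) hc.eq
    simp only [Subgroup.coe_mul, SemidirectProduct.mul_left, SemidirectProduct.left_inl,
      SemidirectProduct.right_inl, map_one, MulAut.one_apply, toAut_apply] at h2
    rw [mul_comm _ ((n : S) : Sd act).left] at h2
    rw [map_one]
    exact congrArg Multiplicative.toAdd (mul_left_cancel h2)
  exact (Subgroup.disjoint_def.1 hdisj) hn (show n ∈ L from hn1)

/-- Restricting the acting group to a kernel. -/
theorem card_classes_sd_le [Finite M] [Finite H] (act : H →* AddMonoid.End M) {Q : Type} [Group Q]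
    [Finite Q] (f : H →* Q) (hf : Function.Surjective f) :
    Nat.card (ConjClasses (Sd act)) ≤
      Nat.card (ConjClasses (Sd (act.comp f.ker.subtype))) * Nat.card (ConjClasses Q) := by
  set g : Sd act →* Q := f.comp SemidirectProduct.rightHom with hg
  refine (card_classes_le_ker_mul_range g).trans (Nat.mul_le_mul ?_ ?_)
  · let φ : Sd (act.comp f.ker.subtype) →* Sd act :=
      SemidirectProduct.map (MonoidHom.id _) f.ker.subtype fun _ => rfl
    refine card_classes_le_of_surjective (f := φ.codRestrict g.ker fun x => ?_) ?_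
    · exact x.right.2
    · rintro ⟨x, hx⟩
      exact ⟨⟨x.left, ⟨x.right, hx⟩⟩, Subtype.ext (SemidirectProduct.ext rfl rfl)⟩
  · have hr : Function.Surjective g := hf.comp SemidirectProduct.rightHom_surjective
    exact card_classes_le_of_surjective
      (f := ((MulEquiv.subgroupCongr (MonoidHom.range_eq_top.2 hr)).trans topEquiv).symm.toMonoidHom)
      (MulEquiv.surjective _)

/-- The coprime orbit count. -/
theorem card_classes_sd_mul_le [Finite M] [Finite H] (act : H →* AddMonoid.End M)
    (hco : Nat.Coprime (Nat.card M) (Nat.card H)) {t : ℕ}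
    (ht : ∀ v : M, v ≠ 0 → Nat.card {h : H // act h v = v} ≤ t) :
    Nat.card (ConjClasses (Sd act)) * Nat.card H ≤
      Nat.card (ConjClasses H) * Nat.card H + (Nat.card M - 1) * (t * t) := by
  classical
  haveI := Fintype.ofFinite M
  haveI := Fintype.ofFinite H
  let E := AddMonoid.End M
  -- the linear map whose kernel gives the commuting lifts of a pair
  let φ : H → H → (M × M →+ M) := fun g h =>
    AddMonoidHom.mk' (fun z => z.1 + act g z.2 - (z.2 + act h z.1)) fun a b => by
      simp only [Prod.fst_add, Prod.snd_add, map_add]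
      abel
  let Z := {x : (H × H) × M // Commute x.1.1 x.1.2 ∧ act x.1.1 x.2 = x.2 ∧ act x.1.2 x.2 = x.2}
  have hker : ∀ g h : H, Commute g h → Nat.card (φ g h).ker ≤
      Nat.card M * Nat.card {v : M // act g v = v ∧ act h v = v} := by
    intro g h hgh
    have hrange : Nat.card M ≤ Nat.card (φ g h).range * Nat.card {v : M // act g v = v ∧ act h v = v} := by
      let T : Submonoid H :=
        { carrier := {k | ∀ v : M, act k v - v ∈ (φ g h).range}
          one_mem' := fun v => by
            rw [map_one, AddMonoid.End.coe_one, id_eq, sub_self]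
            exact zero_mem _
          mul_mem' := fun {a b} ha hb v => by
            have : act (a * b) v - v = (act a (act b v) - act b v) + (act b v - v) := by
              rw [map_mul, AddMonoid.End.coe_mul, Function.comp_apply]
              abel
            rw [this]
            exact add_mem (ha _) (hb v) }
      have hgT : g ∈ T := fun v => ⟨(0, v), by
        show 0 + act g v - (v + act h 0) = _
        rw [map_zero, zero_add, add_zero]⟩
      have hhT : h ∈ T := fun v => ⟨(-v, 0), by
        show -v + act g 0 - (0 + act h (-v)) = _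
        rw [map_zero, map_neg, add_zero, zero_add, neg_sub_neg]⟩
      -- the group generated by the pair
      let A : Subgroup H := Subgroup.closure {g, h}
      have hA : ∀ a : A, (a : H) ∈ T := fun a => by
        have hle : (A.toSubmonoid : Submonoid H) ≤ T := by
          rw [Subgroup.closure_toSubmonoid_of_finite]
          exact Submonoid.closure_le.2 (by rintro x (rfl | rfl) <;> assumption)
        exact hle a.2
      have hcoA : Nat.Coprime (Nat.card A) (Fintype.card M) := by
        rw [← Nat.card_eq_fintype_card]
        exact Nat.Coprime.coprime_dvd_left A.card_subgroup_dvd_card hco.symm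
      haveI := Fintype.ofFinite A
      let e : M → M := fun v => ∑ a : A, act a v
      have hfix : ∀ v, ∀ b : A, act b (e v) = e v := fun v b => by
        simp only [e, map_sum]
        refine Fintype.sum_equiv (Equiv.mulLeft b) _ _ fun a => ?_
        show act b (act a v) = act ((b * a : A) : H) v
        rw [Subgroup.coe_mul, map_mul, AddMonoid.End.coe_mul, Function.comp_apply]
      -- every element is a fixed one plus an element of the range
      obtain ⟨n, hnsmul⟩ : ∃ n : ℕ, ∀ v : M, (n * Nat.card A) • v = v := by
        rcases subsingleton_or_nontrivial M with hM | hM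
        · exact ⟨0, fun v => Subsingleton.elim _ _⟩
        obtain ⟨m, -, hm⟩ := Nat.exists_mul_mod_eq_one_of_coprime hcoA Fintype.one_lt_card
        refine ⟨m, fun v => ?_⟩
        rw [mul_comm, ← Nat.mod_add_div (Nat.card A * m) (Fintype.card M), hm, add_nsmul, one_nsmul,
          mul_comm (Fintype.card M), mul_nsmul', card_nsmul_eq_zero, smul_zero, add_zero]
      let F : (φ g h).range × {v : M // act g v = v ∧ act h v = v} → M := fun z => z.1 + z.2
      have hF : Function.Surjective F := by
        intro v
        have hdiff : v - n • e v ∈ (φ g h).range := by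
          have : v - n • e v = -(n • ∑ a : A, (act a v - v)) := by
            rw [Finset.sum_sub_distrib, Finset.sum_const, Finset.card_univ, ← Nat.card_eq_fintype_card,
              smul_sub, ← mul_nsmul', hnsmul, neg_sub]
          rw [this]
          exact neg_mem (nsmul_mem (sum_mem fun a _ => hA a v) n)
        refine ⟨(⟨_, hdiff⟩, ⟨n • e v, ?_, ?_⟩), sub_add_cancel v (n • e v)⟩
        · rw [map_nsmul, hfix v ⟨g, Subgroup.subset_closure (Set.mem_insert _ _)⟩]
        · rw [map_nsmul, hfix v ⟨h, Subgroup.subset_closure (Set.mem_insert_of_mem _ rfl)⟩]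
      exact (Nat.card_le_card_of_surjective F hF).trans (le_of_eq (Nat.card_prod _ _))
    have hmul := AddSubgroup.card_mul_index (φ g h).ker
    rw [AddSubgroup.index_ker, Nat.card_prod] at hmul
    refine Nat.le_of_mul_le_mul_right (c := Nat.card (φ g h).range) ?_ Nat.card_pos
    rw [hmul, mul_assoc]
    exact Nat.mul_le_mul_left _ (hrange.trans (le_of_eq (mul_comm _ _)))
  -- commuting pairs of the semidirect product
  have hP : pairCount (Sd act) ≤ Nat.card M * Nat.card Z := by
    let P := {x : H × H // Commute x.1 x.2}
    let toS : {x : Sd act × Sd act // Commute x.1 x.2} → (Σ x : P, (φ x.1.1 x.1.2).ker) := fun x =>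
      ⟨⟨(x.1.1.right, x.1.2.right), x.2.map SemidirectProduct.rightHom⟩,
        ⟨(Multiplicative.toAdd x.1.1.left, Multiplicative.toAdd x.1.2.left), by
          have h := congrArg (fun y : Sd act => Multiplicative.toAdd y.left) x.2.eq
          simp only [SemidirectProduct.mul_left, toAdd_mul] at h
          exact sub_eq_zero.2 h⟩⟩
    have hinj : Function.Injective toS := by
      rintro ⟨⟨a, b⟩, hab⟩ ⟨⟨a', b'⟩, hab'⟩ h
      have hr := congrArg (fun z : Σ x : P, (φ x.1.1 x.1.2).ker => z.1.1) h
      have hl := congrArg (fun z : Σ x : P, (φ x.1.1 x.1.2).ker => (z.2 : M × M)) h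
      simp only [toS, Prod.mk.injEq] at hr hl
      exact Subtype.ext (Prod.ext (SemidirectProduct.ext hl.1 hr.1) (SemidirectProduct.ext hl.2 hr.2))
    refine (Nat.card_le_card_of_injective toS hinj).trans ?_
    rw [Nat.card_sigma]
    refine (Finset.sum_le_sum fun x _ => hker x.1.1 x.1.2 x.2).trans (le_of_eq ?_)
    rw [← Finset.mul_sum, ← Nat.card_sigma]
    congr 1
    exact Nat.card_congr
      { toFun := fun z => ⟨(z.1.1, z.2.1), z.1.2, z.2.2⟩
        invFun := fun z => ⟨⟨z.1.1, z.2.1⟩, ⟨z.1.2, z.2.2⟩⟩
        left_inv := fun _ => rfl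
        right_inv := fun _ => rfl }
  have hZ : Nat.card Z ≤ Nat.card (ConjClasses H) * Nat.card H + (Nat.card M - 1) * (t * t) := by
    let e : Z ≃ Σ v : M, {x : H × H // Commute x.1 x.2 ∧ act x.1 v = v ∧ act x.2 v = v} :=
      { toFun := fun z => ⟨z.1.2, z.1.1, z.2⟩
        invFun := fun z => ⟨(z.2.1, z.1), z.2.2⟩
        left_inv := fun _ => rfl
        right_inv := fun _ => rfl }
    rw [Nat.card_congr e, Nat.card_sigma, ← Finset.add_sum_erase _ _ (Finset.mem_univ (0 : M))]
    refine Nat.add_le_add ?_ ((Finset.sum_le_card_nsmul _ _ (t * t) fun v hv => ?_).trans (le_of_eq ?_))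
    · rw [← pairCount_eq]
      exact Nat.card_le_card_of_injective (fun x => ⟨x.1, x.2.1⟩) fun x y h =>
        Subtype.ext (congrArg Subtype.val h :)
    · refine le_trans ?_ (Nat.mul_le_mul (ht v (Finset.ne_of_mem_erase hv)) (ht v (Finset.ne_of_mem_erase hv)))
      rw [← Nat.card_prod]
      refine Nat.card_le_card_of_injective (fun x => (⟨x.1.1, x.2.2.1⟩, ⟨x.1.2, x.2.2.2⟩)) fun x y h => ?_
      exact Subtype.ext (congrArg (fun z : {h : H // act h v = v} × {h : H // act h v = v} =>
        ((z.1 : H), (z.2 : H))) h)
    · rw [Finset.card_erase_of_mem (Finset.mem_univ _), Finset.card_univ, ← Nat.card_eq_fintype_card,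
        smul_eq_mul]
  rw [pairCount_eq, card_sd] at hP
  refine Nat.le_of_mul_le_mul_left (?_ : Nat.card M * _ ≤ Nat.card M * _) Nat.card_pos
  calc Nat.card M * (Nat.card (ConjClasses (Sd act)) * Nat.card H)
      = Nat.card (ConjClasses (Sd act)) * (Nat.card M * Nat.card H) := by ring
    _ ≤ Nat.card M * Nat.card Z := hP
    _ ≤ _ := Nat.mul_le_mul_left _ hZ

end Semidirect

end Cfsg.Agent.SolvLin
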