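import Cfsg.Agent.Lib.SolvLin.GVBasic
import Cfsg.Agent.Lib.SolvLin.FiniteField

/-!
# The class number of the semidirect product in the primitive case
-/

set_option autoImplicit false
set_option linter.style.haveILetI false
set_option linter.unusedSectionVars false

namespace Cfsg.Agent.SolvLin

open Module Subgroup
open scoped commutatorElement

theorem three_le_mul_sq {q d : ℕ} (hq : 3 ≤ q) (hd : 3 ≤ d) : (q - 1) * (1 + d * d) ≤ q ^ d := by
  induction d, hd using Nat.le_induction with
  | base =>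
    obtain ⟨r, rfl⟩ := Nat.exists_eq_add_of_le hq
    rw [show 3 + r - 1 = 2 + r by omega]
    nlinarith [Nat.zero_le (r * r * r), Nat.zero_le (r * r)]
  | succ n hn ih =>
    rw [pow_succ]
    have h1 : 1 + (n + 1) * (n + 1) ≤ 3 * (1 + n * n) := by nlinarith
    calc (q - 1) * (1 + (n + 1) * (n + 1)) ≤ (q - 1) * (3 * (1 + n * n)) := Nat.mul_le_mul_left _ h1
      _ = (q - 1) * (1 + n * n) * 3 := by ring
      _ ≤ q ^ n * q := Nat.mul_le_mul ih hq

/-- The arithmetic of the orbit count. -/
theorem orbit_num {q d t m k kF : ℕ} (hq : 2 ≤ q) (hd : 1 ≤ d) (ht : 1 ≤ t) (htd : t ≤ d) (hm : 1 ≤ m)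
    (hmq : m ≤ q - 1) (h : k * m ≤ kF * m + (q ^ d - 1)) (hkF : kF ≤ m * (t * t))
    (hk2 : 2 ≤ t → 2 ≤ m ∧ 2 * kF ≤ m + m * (t * t)) : k ≤ q ^ d := by
  have hQ : q ≤ q ^ d := Nat.le_self_pow (by omega) q
  obtain ⟨Q, hQ'⟩ : ∃ Q, q ^ d = Q + 1 := ⟨q ^ d - 1, by omega⟩
  rw [hQ', Nat.add_sub_cancel] at h
  refine Nat.le_of_mul_le_mul_right (h.trans ?_) (show 0 < m by omega)
  rw [hQ']
  rcases eq_or_lt_of_le ht with h1 | h2
  · subst h1
    obtain ⟨r, hr⟩ := Nat.exists_eq_add_of_le (show m ≤ Q by omega)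
    subst hr
    obtain ⟨m', rfl⟩ := Nat.exists_eq_add_of_le hm
    have : kF ≤ 1 + m' := by simpa using hkF
    nlinarith
  obtain ⟨hm2, hk⟩ := hk2 h2
  obtain ⟨r, rfl⟩ := Nat.exists_eq_add_of_le (show 3 ≤ q by omega)
  by_cases hsmall : r = 0 ∧ d = 2
  · obtain ⟨rfl, rfl⟩ := hsmall
    have hm' : m = 2 := by omega
    have ht' : t = 2 := by omega
    subst hm' ht'
    norm_num at hQ' hk ⊢
    omega
  have hbound : m * (1 + t * t) ≤ Q + 1 := by
    rw [← hQ']
    refine (Nat.mul_le_mul hmq (Nat.add_le_add_left (Nat.mul_le_mul htd htd) 1)).trans ?_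
    rcases lt_or_ge d 3 with hd3 | hd3
    · have hd2 : d = 2 := by omega
      subst hd2
      obtain ⟨r', rfl⟩ := Nat.exists_eq_add_of_le (show 1 ≤ r by omega)
      rw [show 3 + (1 + r') - 1 = 3 + r' by omega]
      nlinarith
    · exact three_le_mul_sq (by omega) hd3
  obtain ⟨m', rfl⟩ := Nat.exists_eq_add_of_le hm2
  have h3 : 2 * (kF * (2 + m')) ≤ (2 + m') * (Q + 1) := by
    calc 2 * (kF * (2 + m')) = (2 + m') * (2 * kF) := by ring
      _ ≤ (2 + m') * ((2 + m') + (2 + m') * (t * t)) := Nat.mul_le_mul_left _ hk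
      _ = (2 + m') * ((2 + m') * (1 + t * t)) := by ring
      _ ≤ (2 + m') * (Q + 1) := Nat.mul_le_mul_left _ hbound
  nlinarith

variable {p : ℕ} [Fact p.Prime]
variable {E : Type} [Field E] [Algebra (ZMod p) E] [Finite E]
variable {V : Type} [AddCommGroup V] [Module E V] [Finite V]
variable {X : Type} [Group X] [Finite X] [Group.IsSolvable X]

/-- The field case. -/
theorem classes_sd_of_fieldData {N : ℕ} (hN : 1 ≤ N) (hV : Nat.card V = p ^ N) {A : Subgroup X}
    [A.Normal] (hab : ∀ a ∈ A, ∀ b ∈ A, a * b = b * a) (D : FieldData (p := p) (E := E) A V) :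
    3 * Nat.card (ConjClasses (Sd D.act)) ≤ (3 * p) ^ N := by
  classical
  have hp : p.Prime := Fact.out
  haveI : Nontrivial V := by
    rw [← Finite.one_lt_card_iff_nontrivial, hV]
    exact Nat.one_lt_pow (by omega) hp.one_lt
  haveI : Module.Finite E V := Module.Finite.of_finite
  set a := finrank (ZMod p) E with hadef
  set d := finrank E V with hddef
  have ha : 1 ≤ a := Module.finrank_pos
  have hd : 1 ≤ d := Module.finrank_pos
  have hN' : N = a * d := by
    refine Nat.pow_right_injective hp.two_le ?_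
    show p ^ N = p ^ (a * d)
    rw [← hV, Module.natCard_eq_pow_finrank (K := E),
      Module.natCard_eq_pow_finrank (K := ZMod p) (V := E), Nat.card_zmod, pow_mul]
  let S := D.core hab
  haveI : S.F.Normal := S.F_normal
  obtain ⟨t, ht⟩ := S.exists_sqrt S.A_le_F le_rfl
  have htd : t ≤ d := Nat.mul_self_le_mul_self_iff.1 (ht ▸ S.relIndex_F_le)
  have ht1 : 1 ≤ t := Nat.one_le_iff_ne_zero.2 fun h0 => by
    have := relIndex_pos' S.A S.F
    rw [ht, h0] at this
    exact lt_irrefl 0 this
  have hm := D.card_A_le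
  rw [← hadef] at hm
  -- `C / F` and `X / C`
  haveI : (S.Kf S.F).Normal := MonoidHom.normal_ker _
  have hsymp := S.kb_symp t (fun q n hq hn _ => irrBoundB_symp q n hq hn) S.F S.A_le_F le_rfl ht
  let Fc : Subgroup S.C := Cfsg.fittingSubgroup S.C
  let actF : Fc →* AddMonoid.End V := (D.act.comp S.C.subtype).comp Fc.subtype
  have hstep1 : Nat.card (ConjClasses (Sd D.act)) ≤ Nat.card (ConjClasses (Sd (D.act.comp S.C.subtype))) * a := by
    refine (card_classes_sd_le D.act D.θ.rangeRestrict D.θ.rangeRestrict_surjective).trans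
      (Nat.mul_le_mul ?_ ((card_classes_le_card.trans (Subgroup.card_le_card_group _)).trans
        FieldData.card_aut_le))
    have hker : ∀ x : X, x ∈ D.θ.rangeRestrict.ker ↔ x ∈ S.C := fun x => by
      rw [MonoidHom.ker_rangeRestrict, MonoidHom.mem_ker]
      exact D.θ_eq_one x
    refine card_classes_le_of_surjective (f := SemidirectProduct.map (MonoidHom.id _)
      ({ toFun := fun c => ⟨(c : X), (hker _).2 c.2⟩
         map_one' := rfl
         map_mul' := fun _ _ => rfl } : S.C →* D.θ.rangeRestrict.ker) fun _ => rfl) ?_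
    intro y
    exact ⟨⟨y.left, ⟨(y.right : X), (hker _).1 y.right.2⟩⟩, SemidirectProduct.ext rfl rfl⟩
  have hstep2 : Nat.card (ConjClasses (Sd (D.act.comp S.C.subtype))) ≤
      Nat.card (ConjClasses (Sd actF)) * 3 ^ (t - 1) := by
    refine (card_classes_sd_le (D.act.comp S.C.subtype) (QuotientGroup.mk' Fc)
      (QuotientGroup.mk'_surjective Fc)).trans (Nat.mul_le_mul ?_ ?_)
    · refine card_classes_le_of_surjective (f := SemidirectProduct.map (MonoidHom.id _)
        ({ toFun := fun c => ⟨(c : S.C), (QuotientGroup.eq_one_iff _).2 c.2⟩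
           map_one' := rfl
           map_mul' := fun _ _ => rfl } : Fc →* (QuotientGroup.mk' Fc).ker) fun _ => rfl) ?_
      intro y
      exact ⟨⟨y.left, ⟨(y.right : S.C), (QuotientGroup.eq_one_iff _).1 y.right.2⟩⟩,
        SemidirectProduct.ext rfl rfl⟩
    · have h := (hsymp.of_injective (f := (QuotientGroup.quotientMulEquivOfEq S.Kf_F_eq.symm).toMonoidHom)
        (MulEquiv.injective _)) ⊤
      exact (card_classes_le_of_surjective (f := (topEquiv (G := S.C ⧸ Fc)).toMonoidHom)
        topEquiv.surjective).trans h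
  -- facts about `F`
  have hmemF : ∀ c : Fc, ((c : S.C) : X) ∈ S.F := fun c => S.mem_F.2 c.2
  let e : Fc ≃ S.F :=
    { toFun := fun c => ⟨_, hmemF c⟩
      invFun := fun x => ⟨⟨(x : X), S.F_le x.2⟩, S.mem_F.1 x.2⟩
      left_inv := fun _ => rfl
      right_inv := fun _ => rfl }
  have hFc : Nat.card Fc = Nat.card A * (t * t) := by
    rw [Nat.card_congr e, ← (S.A.subgroupOf S.F).card_mul_index,
      show (S.A.subgroupOf S.F).index = t * t from ht,
      Nat.card_congr (Subgroup.subgroupOfEquivOfLe S.A_le_F).toEquiv]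
    rfl
  have hcenA : ∀ z : center Fc, (((z : Fc) : S.C) : X) ∈ A := fun z =>
    S.inf_centralizer_le S.F_le ⟨hmemF z, mem_centralizer_iff.2 fun y hy =>
      congrArg (fun c : Fc => ((c : S.C) : X))
        (mem_center_iff.1 z.2 ⟨⟨y, S.F_le hy⟩, S.mem_F.1 hy⟩)⟩
  let toA : center Fc →* A :=
    { toFun := fun z => ⟨_, hcenA z⟩
      map_one' := rfl
      map_mul' := fun _ _ => rfl }
  have htoA : Function.Injective toA := fun z z' h =>
    Subtype.ext (Subtype.ext (Subtype.ext (congrArg (fun w : A => (w : X)) h)))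
  -- the order of `F` is prime to `p`
  haveI : Group.IsNilpotent Fc := Components.fittingSubgroup_isNilpotent S.C
  have hpA : ¬ p ∣ Nat.card A := fun h => by
    have h2 := h.trans D.card_A_dvd
    have h3 : p ∣ p ^ finrank (ZMod p) E := dvd_pow_self p (Module.finrank_pos.ne')
    have hpos : 1 ≤ p ^ finrank (ZMod p) E := Nat.one_le_pow _ _ hp.pos
    have := Nat.dvd_sub h3 h2
    rw [Nat.sub_sub_self hpos, Nat.dvd_one] at this
    exact hp.ne_one this
  have hpF : ¬ p ∣ Nat.card Fc := by
    intro h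
    obtain ⟨P⟩ := (inferInstance : Nonempty (Sylow p Fc))
    have hP : (P : Subgroup Fc) ≠ ⊥ := P.ne_bot_of_dvd_card h
    haveI : (P : Subgroup Fc).Normal :=
      Sylow.normal_of_normalizerCondition normalizerCondition_of_isNilpotent P
    have hne := Solvable.inf_center_ne_bot (G := Fc) hP
    obtain ⟨⟨z, hzP, hzc⟩, hz1⟩ : ∃ w : ↥((P : Subgroup Fc) ⊓ center Fc), w ≠ 1 := by
      haveI := (Subgroup.nontrivial_iff_ne_bot _).2 hne
      exact exists_ne 1
    obtain ⟨k, hk⟩ := P.isPGroup' ⟨z, hzP⟩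
    have hk' : z ^ p ^ k = 1 := congrArg Subtype.val hk
    refine hpA ?_
    obtain ⟨i, -, hi⟩ := (Nat.dvd_prime_pow hp).1 (orderOf_dvd_of_pow_eq_one hk')
    have hi0 : i ≠ 0 := by
      rintro rfl
      rw [pow_zero, orderOf_eq_one_iff] at hi
      exact hz1 (Subtype.ext hi)
    have h1 : orderOf z ∣ Nat.card A := by
      rw [← Subgroup.orderOf_mk z hzc, ← orderOf_injective toA htoA]
      exact orderOf_dvd_natCard _
    exact (dvd_pow_self p hi0).trans (hi ▸ h1)
  have hco : Nat.Coprime (Nat.card V) (Nat.card Fc) := by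
    rw [hV]
    exact Nat.Coprime.pow_left N (hp.coprime_iff_not_dvd.2 hpF)
  -- stabilisers of vectors
  have hstab : ∀ v : V, v ≠ 0 → Nat.card {c : Fc // actF c v = v} ≤ t := by
    intro v hv
    have hAfix : ∀ x : X, x ∈ A → D.act x v = v → x = 1 := fun x hx hfix => by
      have h1 : D.ι ⟨x, hx⟩ • v = (1 : E) • v := by
        rw [one_smul, ← D.act_A ⟨x, hx⟩ v]
        exact hfix
      have h2 : (⟨x, hx⟩ : A) = 1 := D.ι_inj ((smul_left_injective E hv h1).trans (map_one D.ι).symm)
      exact congrArg Subtype.val h2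
    let U0 : Subgroup X :=
      { carrier := {x | x ∈ S.F ∧ D.act x v = v}
        one_mem' := ⟨one_mem _, by rw [map_one]; rfl⟩
        mul_mem' := fun {x y} hx hy => ⟨mul_mem hx.1 hy.1, by
          rw [map_mul]
          show D.act x (D.act y v) = v
          rw [hy.2, hx.2]⟩
        inv_mem' := fun {x} hx => ⟨inv_mem hx.1, by
          conv_lhs => rw [← hx.2]
          show (D.act x⁻¹ * D.act x) v = v
          rw [← map_mul, inv_mul_cancel, map_one]
          rfl⟩ }
    have hU0F : U0 ≤ S.F := fun x hx => hx.1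
    have hUab : ∀ x ∈ U0, ∀ y ∈ U0, Commute x y := fun x hx y hy => by
      rw [← commutatorElement_eq_one_iff_commute]
      exact hAfix _ (S.commutator_mem hx.1 hy.1)
        (U0.mul_mem (U0.mul_mem (U0.mul_mem hx hy) (U0.inv_mem hx)) (U0.inv_mem hy)).2
    set Mx := U0 ⊔ S.A with hMdef
    have hMF : Mx ≤ S.F := sup_le hU0F S.A_le_F
    haveI : S.A.Normal := S.A_normal
    have hMab : ∀ x ∈ Mx, ∀ y ∈ Mx, Commute x y := by
      intro x hx y hy
      rw [hMdef, Subgroup.mem_sup_of_normal_right] at hx hy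
      obtain ⟨u, hu, b, hb, rfl⟩ := hx
      obtain ⟨w, hw, c, hc, rfl⟩ := hy
      have c1 : Commute u c := (S.central hc (S.F_le (hU0F hu))).symm
      have c2 : Commute b w := S.central hb (S.F_le (hU0F hw))
      have c3 : Commute b c := S.central hb (S.A_le hc)
      exact ((hUab u hu w hw).mul_right c1).mul_left (c2.mul_right c3)
    have e1 : S.A.relIndex Mx ≤ Mx.relIndex S.F := by
      have h2 : Mx ⊓ centralizer (S.F : Set X) = S.A :=
        le_antisymm (le_trans (inf_le_inf_right _ hMF) (S.inf_centralizer_le S.F_le))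
          (le_inf le_sup_right fun x hx => mem_centralizer_iff.2 fun y hy =>
            (S.central hx (S.F_le hy)).eq.symm)
      have h3 := S.relIndex_centralizer_le hMF le_sup_right hMF le_rfl fun u hu b hb => hMab u hu b hb
      rwa [← Subgroup.inf_relIndex_right, inf_comm, h2] at h3
    have e2 : S.A.relIndex Mx ≤ t := by
      refine Nat.mul_self_le_mul_self_iff.1 ?_
      rw [← ht, ← Subgroup.relIndex_mul_relIndex S.A Mx S.F le_sup_right hMF]
      exact Nat.mul_le_mul_left _ e1
    have e3 : Nat.card {c : Fc // actF c v = v} ≤ Nat.card U0 :=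
      Nat.card_le_card_of_injective (fun c => ⟨((c.1 : S.C) : X), hmemF c.1, c.2⟩) fun c c' h =>
        Subtype.ext (Subtype.ext (Subtype.ext (congrArg (fun w : U0 => (w : X)) h)))
    refine e3.trans (le_trans ?_ e2)
    have h4 : U0 ⊓ S.A = ⊥ := (Subgroup.eq_bot_iff_forall _).2 fun x hx => hAfix x hx.2 hx.1.2
    rw [hMdef, Subgroup.relIndex_sup_right, ← Subgroup.inf_relIndex_right, inf_comm, h4,
      Subgroup.relIndex_bot_left]
  -- the count
  have horb := card_classes_sd_mul_le actF hco hstab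
  have hk : Nat.card (ConjClasses (Sd actF)) ≤ p ^ N := by
    have hQ : (p ^ a) ^ d = p ^ N := by rw [hN', pow_mul]
    rw [← hQ]
    have hA1 : 1 ≤ Nat.card A := Nat.card_pos
    refine orbit_num (q := p ^ a) (m := Nat.card A) (kF := Nat.card (ConjClasses Fc))
      (hp.two_le.trans (Nat.le_self_pow (by omega) p)) hd ht1 htd hA1 hm ?_
      (card_classes_le_card.trans hFc.le) ?_
    · rw [hQ, ← hV]
      refine Nat.le_of_mul_le_mul_right (c := t * t) ?_ (Nat.mul_pos ht1 ht1)
      calc Nat.card (ConjClasses (Sd actF)) * Nat.card A * (t * t)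
          = Nat.card (ConjClasses (Sd actF)) * Nat.card Fc := by rw [hFc]; ring
        _ ≤ Nat.card (ConjClasses Fc) * Nat.card Fc + (Nat.card V - 1) * (t * t) := horb
        _ = (Nat.card (ConjClasses Fc) * Nat.card A + (Nat.card V - 1)) * (t * t) := by
          rw [hFc]; ring
    · intro h2
      constructor
      · by_contra hlt
        have h1 : Nat.card A = 1 := by omega
        have hbot : A = ⊥ := Subgroup.eq_bot_of_card_eq A h1
        have hFA : S.F ≤ A := D.maximal _ S.F_le inferInstance fun x hx y hy => by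
          have := S.commutator_mem hx hy
          rw [show S.A = A from rfl, hbot, Subgroup.mem_bot, commutatorElement_eq_one_iff_commute] at this
          exact this
        have : t * t = 1 := ht ▸ Subgroup.relIndex_eq_one.2 hFA
        have := (mul_eq_one.1 this).1
        omega
      · have h := card_classes_central_bound (G := Fc) (s := 2) fun g hg => by
          have hne : centralizer ({g} : Set Fc) ≠ ⊤ := fun htop => hg <| mem_center_iff.2 fun y =>
            mem_centralizer_singleton_iff.1 (htop ▸ Subgroup.mem_top y)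
          rw [← (centralizer ({g} : Set Fc)).card_mul_index, mul_comm 2]
          exact Nat.mul_le_mul_left _ (Subgroup.one_lt_index_of_ne_top hne)
        have hc : Nat.card (center Fc) ≤ Nat.card A := Nat.card_le_card_of_injective toA htoA
        rw [hFc] at h
        omega
  calc 3 * Nat.card (ConjClasses (Sd D.act))
      ≤ 3 * (Nat.card (ConjClasses (Sd actF)) * 3 ^ (t - 1) * a) :=
        Nat.mul_le_mul_left _ (hstep1.trans (Nat.mul_le_mul_right _ hstep2))
    _ ≤ 3 * (p ^ N * (a * 3 ^ (t - 1))) := by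
        rw [mul_assoc (Nat.card (ConjClasses (Sd actF))), mul_comm (3 ^ (t - 1)) a]
        exact Nat.mul_le_mul_left _ (Nat.mul_le_mul_right _ hk)
    _ ≤ 3 * (p ^ N * 3 ^ (a * d - 1)) :=
        Nat.mul_le_mul_left _ (Nat.mul_le_mul_left _ (mul_three_pow_le ha hd htd))
    _ = (3 * p) ^ N := by
        rw [hN', mul_pow, mul_left_comm, ← pow_succ',
          Nat.sub_add_cancel (Nat.mul_pos ha hd), mul_comm]

end Cfsg.Agent.SolvLin
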