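import Cfsg.Agent.Lib.SolvLin.GVField
import Cfsg.Agent.Lib.PCore.Basic

/-!
# The class number of a solvable group without normal `p'`-subgroups

`three_mul_classes_le`: if `X` is solvable, nontrivial and `O_{p'}(X) = 1`, then
`3 k(X) ≤ (3 p) ^ d`, `p ^ d` the `p`-part of `|X|`.
-/

set_option autoImplicit false
set_option linter.style.haveILetI false
set_option linter.unusedSectionVars false

namespace Cfsg.Agent.SolvLin

open Module Subgroup
open scoped commutatorElement

variable {p : ℕ}

/-- The inductive hypothesis. -/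
def BndBelow (p c : ℕ) : Prop :=
  ∀ (Y : Type) [Group Y] [Finite Y], Nat.card Y < c → Group.IsSolvable Y → Nontrivial Y →
    NoPPrimeNormal p Y → ClsBnd p Y

/-- The additive action given by a linear one. -/
def addAct {k : Type} [Semiring k] {M : Type} [AddCommGroup M] [Module k M] {H : Type} [Group H]
    (ρ : H →* Module.End k M) : H →* AddMonoid.End M where
  toFun h := (ρ h).toAddMonoidHom
  map_one' := by rw [map_one]; rfl
  map_mul' a b := by rw [map_mul]; rfl

instance isSolvable_sd {M : Type} [AddCommGroup M] {H : Type} [Group H] [Group.IsSolvable H]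
    (act : H →* AddMonoid.End M) : Group.IsSolvable (Sd act) := by
  haveI : Group.IsSolvable (Multiplicative M) :=
    Group.isSolvable_of_comm fun a b => mul_comm a b
  exact Group.isSolvable_of_ker_le_range (SemidirectProduct.inl : Multiplicative M →* Sd act)
    SemidirectProduct.rightHom (le_of_eq SemidirectProduct.range_inl_eq_ker_rightHom.symm)

section Linear

variable [Fact p.Prime] {M : Type} [AddCommGroup M] [Module (ZMod p) M] [Finite M]
variable {H : Type} [Group H] [Finite H] [Group.IsSolvable H]

theorem smul_eq_zero_zmod (v : M) : p • v = 0 := by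
  rw [← Nat.cast_smul_eq_nsmul (ZMod p), ZMod.natCast_self, zero_smul]

/-- The bound for a faithful semidirect product with a system of blocks. -/
theorem clsBnd_of_blocks (ρ : H →* Module.End (ZMod p) M) (hρ : Function.Injective ρ)
    (hIH : BndBelow p (Nat.card M * Nat.card H)) (B : Blocks ρ) : ClsBnd p (Sd (addAct ρ)) := by
  classical
  have hp : p.Prime := Fact.out
  set P := B.perm.ker with hP
  let actP : P →* AddMonoid.End M := (addAct ρ).comp P.subtype
  let Y : B.S → Type := fun e => B.stab e ⧸ (B.onBlock e).ker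
  let actY : ∀ e, (B.stab e ⧸ (B.onBlock e).ker) →* AddMonoid.End (B.space e) := fun e =>
    addAct (QuotientGroup.lift (B.onBlock e).ker (B.onBlock e) fun _ h => h)
  have hactY : ∀ e, Function.Injective (actY e) := fun e => by
    intro x y hxy
    obtain ⟨x, rfl⟩ := QuotientGroup.mk_surjective x
    obtain ⟨y, rfl⟩ := QuotientGroup.mk_surjective y
    refine QuotientGroup.eq.2 (MonoidHom.mem_ker.2 ?_)
    have hxy' : B.onBlock e x = B.onBlock e y :=
      LinearMap.ext fun v => DFunLike.congr_fun hxy v
    rw [map_mul, ← hxy', ← map_mul, inv_mul_cancel, map_one]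
  have hsmall : ∀ e, Nat.card (Sd (actY e)) < Nat.card M * Nat.card H := fun e => by
    rw [card_sd]
    refine lt_of_le_of_lt (Nat.mul_le_mul_left _ ((Nat.card_le_card_of_surjective _
      (QuotientGroup.mk'_surjective (B.onBlock e).ker)).trans (Subgroup.card_le_card_group _))) ?_
    refine Nat.mul_lt_mul_of_pos_right ?_ Nat.card_pos
    obtain ⟨f, hf⟩ : ∃ f : B.S, f ≠ e := by
      haveI : Nontrivial B.S := by
        rw [← Fintype.one_lt_card_iff_nontrivial, Fintype.card_coe]
        exact B.one_lt
      exact exists_ne e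
    rw [Module.natCard_eq_pow_finrank (K := ZMod p), Module.natCard_eq_pow_finrank (K := ZMod p) (V := M),
      Nat.card_zmod, ← B.sum_finrank]
    refine Nat.pow_lt_pow_right hp.one_lt ?_
    refine Finset.single_lt_sum (f := fun e : B.S => finrank (ZMod p) (B.space e)) hf
      (Finset.mem_univ _) (Finset.mem_univ _) ?_ fun _ _ _ => Nat.zero_le _
    haveI := B.nontrivial_space f
    exact Module.finrank_pos
  let g : ∀ e, P →* B.stab e ⧸ (B.onBlock e).ker := fun e =>
    (QuotientGroup.mk' (B.onBlock e).ker).comp (Subgroup.inclusion (B.ker_le_stab e))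
  let proj : ∀ e : B.S, Multiplicative M →* Multiplicative (B.space e) := fun e =>
    AddMonoidHom.toMultiplicative (((e : Module.End (ZMod p) M).rangeRestrict).toAddMonoidHom)
  let f : ∀ e, Sd actP →* Sd (actY e) := fun e =>
    SemidirectProduct.map (proj e) (g e) fun x => MonoidHom.ext fun v => by
      refine congrArg Multiplicative.ofAdd (Subtype.ext ?_)
      show (e : Module.End (ZMod p) M) (ρ (x : H) (Multiplicative.toAdd v)) =
        ρ (x : H) ((e : Module.End (ZMod p) M) (Multiplicative.toAdd v))
      rw [B.rho_apply_block, MonoidHom.mem_ker.1 x.2, Equiv.Perm.one_apply]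
  have h1 : 3 ^ Fintype.card B.S * Nat.card (ConjClasses (Sd actP)) ≤ wgt p (Sd actP) := by
    rw [← Finset.card_univ]
    refine pow_mul_classes_le_wgt hp (fun e => (SemidirectProduct.inl :
      Multiplicative (B.space e) →* Sd (actY e)).range) (fun e S hS => ?_) Finset.univ f ?_ ?_
    · haveI : Group.IsSolvable (B.stab e ⧸ (B.onBlock e).ker) :=
        Group.isSolvable_of_surjective (QuotientGroup.mk'_surjective (B.onBlock e).ker)
      have hinl : ∀ v, (SemidirectProduct.inl v : Sd (actY e)) ∈ S := fun v => hS ⟨v, rfl⟩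
      refine hIH S (lt_of_le_of_lt (Subgroup.card_le_card_group S) (hsmall e)) inferInstance ?_
        (noPPrimeNormal_of_inl_le (hactY e) (fun v => smul_eq_zero_zmod v) S hinl)
      haveI := B.nontrivial_space e
      obtain ⟨v, hv⟩ := exists_ne (1 : Multiplicative (B.space e))
      refine ⟨⟨⟨_, hinl v⟩, 1, fun h => hv ?_⟩⟩
      exact SemidirectProduct.inl_injective ((congrArg Subtype.val h).trans (map_one _).symm)
    · intro z hz
      have hl : ∀ e : B.S, (e : Module.End (ZMod p) M) (Multiplicative.toAdd z.left) = 0 := fun e =>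
        congrArg (fun w : Sd (actY e) => (Multiplicative.toAdd w.left : B.space e).1) (hz e (Finset.mem_univ e))
      refine SemidirectProduct.ext ?_ ?_
      · refine Multiplicative.toAdd.injective ?_
        rw [← B.decomp (Multiplicative.toAdd z.left)]
        simp [hl]
      · refine Subtype.ext (B.eq_one_of_onBlock hρ z.right.2 fun e => ?_)
        have hr : g e z.right = 1 := congrArg (fun w : Sd (actY e) => w.right) (hz e (Finset.mem_univ e))
        exact MonoidHom.mem_ker.1 ((QuotientGroup.eq_one_iff _).1 hr)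
    · rintro e - k ⟨v, rfl⟩
      refine ⟨SemidirectProduct.inl (Multiplicative.ofAdd ((Multiplicative.toAdd v : B.space e) : M)),
        ?_, fun j _ hj => ?_⟩
      · rw [SemidirectProduct.map_inl]
        refine congrArg _ ?_
        exact congrArg Multiplicative.ofAdd (Subtype.ext (B.apply_of_mem (Multiplicative.toAdd v).2))
      · rw [SemidirectProduct.map_inl, ← map_one (SemidirectProduct.inl : Multiplicative (B.space j) →* _)]
        refine congrArg _ (congrArg Multiplicative.ofAdd (Subtype.ext ?_))
        obtain ⟨w, hw⟩ := (Multiplicative.toAdd v : B.space e).2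
        show (j : Module.End (ZMod p) M) ((Multiplicative.toAdd v : B.space e) : M) = 0
        rw [← hw, ← Module.End.mul_apply, B.orth j j.2 e e.2 fun h => hj (Subtype.ext h),
          LinearMap.zero_apply]
  have h2 : Nat.card (ConjClasses (Sd (addAct ρ))) ≤
      Nat.card (ConjClasses (Sd actP)) * 3 ^ (Fintype.card B.S - 1) := by
    refine (card_classes_sd_le (addAct ρ) B.perm.rangeRestrict B.perm.rangeRestrict_surjective).trans
      (Nat.mul_le_mul ?_ ?_)
    · have hker : ∀ x : H, x ∈ B.perm.rangeRestrict.ker ↔ x ∈ P := fun x => by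
        rw [MonoidHom.ker_rangeRestrict]
      refine card_classes_le_of_surjective (f := SemidirectProduct.map (MonoidHom.id _)
        ({ toFun := fun c => ⟨(c : H), (hker _).2 c.2⟩
           map_one' := rfl
           map_mul' := fun _ _ => rfl } : P →* B.perm.rangeRestrict.ker) fun _ => rfl) ?_
      intro y
      exact ⟨⟨y.left, ⟨(y.right : H), (hker _).1 y.right.2⟩⟩, SemidirectProduct.ext rfl rfl⟩
    · haveI : Group.IsSolvable B.perm.range :=
        Group.isSolvable_of_surjective B.perm.rangeRestrict_surjective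
      refine card_classes_le_card.trans (le_trans (card_le_three_pow (α := B.S)) ?_)
      rw [Nat.card_eq_fintype_card]
  have h3 : wgt p (Sd actP) ≤ wgt p (Sd (addAct ρ)) := by
    refine wgt_mono hp ?_
    rw [card_sd, card_sd]
    exact Nat.mul_dvd_mul_left _ P.card_subgroup_dvd_card
  have hm : 1 ≤ Fintype.card B.S := by rw [Fintype.card_coe]; exact B.one_lt.le
  refine le_trans ?_ h3
  refine le_trans ?_ h1
  calc 3 * Nat.card (ConjClasses (Sd (addAct ρ)))
      ≤ 3 * (Nat.card (ConjClasses (Sd actP)) * 3 ^ (Fintype.card B.S - 1)) := Nat.mul_le_mul_left _ h2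
    _ = 3 ^ Fintype.card B.S * Nat.card (ConjClasses (Sd actP)) := by
        rw [← Nat.sub_add_cancel hm, pow_succ, Nat.add_sub_cancel]
        ring

/-- The bound for an irreducible semidirect product. -/
theorem clsBnd_of_irreducible (ρ : H →* Module.End (ZMod p) M) (hρ : Function.Injective ρ) [Nontrivial M]
    (hirr : ∀ W : Submodule (ZMod p) M, (∀ x : H, ∀ w ∈ W, ρ x w ∈ W) → W = ⊥ ∨ W = ⊤)
    (hIH : BndBelow p (Nat.card M * Nat.card H)) : ClsBnd p (Sd (addAct ρ)) := by
  have hp : p.Prime := Fact.out
  refine irreducible_dichotomy ρ hρ hirr (clsBnd_of_blocks ρ hρ hIH) ?_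
  intro E _ _ _ _ A _ hab D hD
  have hV : Nat.card M = p ^ finrank (ZMod p) M := by
    rw [Module.natCard_eq_pow_finrank (K := ZMod p), Nat.card_zmod]
  have h := classes_sd_of_fieldData (Module.finrank_pos (R := ZMod p) (M := M)) hV hab D
  rw [show D.act = addAct ρ from MonoidHom.ext fun x => AddMonoidHom.ext fun v => hD x v] at h
  refine h.trans (Nat.pow_le_pow_right (Nat.mul_pos (by norm_num) hp.pos) ?_)
  rw [card_sd, hV, Nat.factorization_mul (pow_ne_zero _ hp.ne_zero) Nat.card_pos.ne', Finsupp.add_apply,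
    hp.factorization_pow, Finsupp.single_eq_same]
  exact Nat.le_add_right _ _

/-- The same, for an action by additive automorphisms. -/
theorem clsBnd_of_addAct (act : H →* AddMonoid.End M) (hact : Function.Injective act) [Nontrivial M]
    (hirr : ∀ W : AddSubgroup M, (∀ x : H, ∀ w ∈ W, act x w ∈ W) → W = ⊥ ∨ W = ⊤)
    (hIH : BndBelow p (Nat.card M * Nat.card H)) : ClsBnd p (Sd act) := by
  let ρ : H →* Module.End (ZMod p) M :=
    { toFun := fun y =>
        { toFun := fun v => act y v
          map_add' := map_add _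
          map_smul' := fun c v => ZMod.map_smul (act y) c v }
      map_one' := LinearMap.ext fun v => by
        show act 1 v = v
        rw [map_one]
        rfl
      map_mul' := fun g h => LinearMap.ext fun v => by
        show act (g * h) v = act g (act h v)
        rw [map_mul]
        rfl }
  have hρ : Function.Injective ρ := fun g h hgh =>
    hact (AddMonoidHom.ext fun v => LinearMap.congr_fun hgh v)
  have h := clsBnd_of_irreducible ρ hρ (fun W hW => by
    rcases hirr W.toAddSubgroup hW with h | h
    · left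
      rw [Submodule.eq_bot_iff]
      intro v hv
      exact AddSubgroup.mem_bot.1 (h ▸ (show v ∈ W.toAddSubgroup from hv))
    · right
      rw [Submodule.eq_top_iff']
      intro v
      exact (show v ∈ W.toAddSubgroup from h.symm ▸ AddSubgroup.mem_top v)) hIH
  rwa [show addAct ρ = act from MonoidHom.ext fun _ => AddMonoidHom.ext fun _ => rfl] at h

end Linear

/-- The bound for a group acting faithfully and irreducibly on an elementary abelian group. -/
theorem clsBnd_semidirect [Fact p.Prime] {Q : Type} [CommGroup Q] [Finite Q] [Nontrivial Q]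
    (hexp : ∀ q : Q, q ^ p = 1) {H : Type} [Group H] [Finite H] [Group.IsSolvable H]
    (φ : H →* MulAut Q) (hφ : Function.Injective φ)
    (hirr : ∀ R : Subgroup Q, (∀ x : H, ∀ r ∈ R, φ x r ∈ R) → R = ⊥ ∨ R = ⊤)
    (hIH : BndBelow p (Nat.card Q * Nat.card H)) :
    3 * Nat.card (ConjClasses (Q ⋊[φ] H)) ≤ (3 * p) ^ (Nat.card Q * Nat.card H).factorization p := by
  let act : H →* AddMonoid.End (Additive Q) :=
    { toFun := fun g => MonoidHom.toAdditive (φ g).toMonoidHom
      map_one' := by rw [map_one]; rfl
      map_mul' := fun a b => by rw [map_mul]; rfl }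
  have hact : Function.Injective act := fun g h hgh => hφ (MulEquiv.ext fun q =>
    congrArg Additive.toMul (DFunLike.congr_fun hgh (Additive.ofMul q)))
  have hexp' : ∀ v : Additive Q, p • v = 0 := fun v => Additive.toMul.injective (hexp (Additive.toMul v))
  have hcard : Nat.card (Additive Q) = Nat.card Q := Nat.card_congr Additive.toMul
  have h := @clsBnd_of_addAct p _ (Additive Q) _ (AddCommGroup.zmodModule hexp') _ H _ _ _ act hact _
    (fun R hR => by
      rcases hirr (AddSubgroup.toSubgroup' R) fun x r hr => hR x (Additive.ofMul r) hr with h | h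
      · left
        rw [AddSubgroup.eq_bot_iff_forall]
        intro v hv
        have : Additive.toMul v ∈ AddSubgroup.toSubgroup' R := hv
        rw [h, Subgroup.mem_bot] at this
        exact Additive.toMul.injective this
      · right
        rw [AddSubgroup.eq_top_iff']
        intro v
        exact (show Additive.toMul v ∈ AddSubgroup.toSubgroup' R from h.symm ▸ Subgroup.mem_top _))
    (hcard.symm ▸ hIH)
  unfold ClsBnd wgt at h
  rw [card_sd, hcard] at h
  refine le_trans (Nat.mul_le_mul_left 3 ?_) h
  let e : Multiplicative (Additive Q) →* Q := (MulEquiv.multiplicativeAdditive Q).toMonoidHom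
  refine card_classes_le_of_surjective (f := (SemidirectProduct.map e (MonoidHom.id H) fun _ => rfl :
    Sd act →* Q ⋊[φ] H)) ?_
  intro y
  exact ⟨⟨Multiplicative.ofAdd (Additive.ofMul y.left), y.right⟩, rfl⟩

/-- A minimal normal subgroup of a solvable group inside a given one is elementary abelian. -/
theorem exists_elementary_normal {G : Type} [Group G] [Finite G] [Group.IsSolvable G] (N : Subgroup G)
    [N.Normal] (hN : N ≠ ⊥) :
    ∃ V : Subgroup G, V.Normal ∧ V ≤ N ∧ V ≠ ⊥ ∧ (∀ W : Subgroup G, W.Normal → W ≤ V → W = ⊥ ∨ W = V) ∧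
      (∀ a ∈ V, ∀ b ∈ V, a * b = b * a) ∧
      ∃ q i : ℕ, q.Prime ∧ 1 ≤ i ∧ Nat.card V = q ^ i ∧ ∀ v ∈ V, v ^ q = 1 := by
  classical
  obtain ⟨V, ⟨hVn, hVN, hV⟩, hmin⟩ := Set.Finite.exists_minimal
    (s := {V : Subgroup G | V.Normal ∧ V ≤ N ∧ V ≠ ⊥}) (Set.toFinite _) ⟨N, inferInstance, le_rfl, hN⟩
  haveI := hVn
  have hmin' : ∀ W : Subgroup G, W.Normal → W ≤ V → W = ⊥ ∨ W = V := fun W hW hWV => by
    by_cases h : W = ⊥
    · exact Or.inl h
    · exact Or.inr (le_antisymm hWV (hmin ⟨hW, hWV.trans hVN, h⟩ hWV))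
  haveI : Nontrivial V := (Subgroup.nontrivial_iff_ne_bot _).2 hV
  have hcomm : ⁅V, V⁆ = ⊥ := by
    rcases hmin' ⁅V, V⁆ inferInstance (Subgroup.commutator_le_left V V) with h | h
    · exact h
    · exfalso
      have hlt := Group.IsSolvable.commutator_lt_top_of_nontrivial (G := V)
      refine hlt.ne ?_
      refine Subgroup.map_injective V.subtype_injective ?_
      rw [Subgroup.map_subtype_commutator, h, ← MonoidHom.range_eq_map, Subgroup.range_subtype]
  have hab : ∀ a ∈ V, ∀ b ∈ V, a * b = b * a := fun a ha b hb =>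
    ((mem_centralizer_iff.1 (Subgroup.commutator_eq_bot_iff_le_centralizer.1 hcomm hb)) a ha)
  obtain ⟨q, hq, hqd⟩ := Nat.exists_prime_and_dvd (Finite.one_lt_card (α := V)).ne'
  haveI : Fact q.Prime := ⟨hq⟩
  let Ω : Subgroup G :=
    { carrier := {x | x ∈ V ∧ x ^ q = 1}
      one_mem' := ⟨one_mem _, one_pow q⟩
      mul_mem' := fun {x y} hx hy => ⟨mul_mem hx.1 hy.1, by
        rw [(show Commute x y from hab x hx.1 y hy.1).mul_pow, hx.2, hy.2, one_mul]⟩
      inv_mem' := fun {x} hx => ⟨inv_mem hx.1, by rw [inv_pow, hx.2, inv_one]⟩ }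
  have hΩn : Ω.Normal := ⟨fun x hx g => ⟨hVn.conj_mem x hx.1 g, by
    rw [conj_pow, hx.2, mul_one, mul_inv_cancel]⟩⟩
  have hΩ : Ω = V := by
    refine (hmin' Ω hΩn fun x hx => hx.1).resolve_left fun h => ?_
    obtain ⟨a, ha⟩ := exists_prime_orderOf_dvd_card' q hqd
    have hmem : (a : G) ∈ Ω := ⟨a.2, by
      rw [← Subgroup.coe_pow, ← ha, pow_orderOf_eq_one, Subgroup.coe_one]⟩
    rw [h, Subgroup.mem_bot] at hmem
    rw [show a = 1 from Subtype.ext hmem, orderOf_one] at ha
    exact hq.ne_one ha.symm
  have hexp : ∀ v ∈ V, v ^ q = 1 := fun v hv => (show v ∈ Ω from hΩ.symm ▸ hv).2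
  obtain ⟨i, hi⟩ := (IsPGroup.iff_card (p := q) (G := V)).1 fun v => ⟨1, by
    rw [pow_one]; exact Subtype.ext (hexp v v.2)⟩
  refine ⟨V, hVn, hVN, hV, hmin', hab, q, i, hq, ?_, hi, hexp⟩
  refine Nat.one_le_iff_ne_zero.2 fun h0 => ?_
  rw [h0, pow_zero] at hi
  exact (Finite.one_lt_card (α := V)).ne' hi

/-- Normal `p'`-subgroups of a normal subgroup are trivial. -/
theorem NoPPrimeNormal.of_normal {G : Type} [Group G] [Finite G] (hp : p.Prime)
    (hG : NoPPrimeNormal p G) (R : Subgroup G) [R.Normal] : NoPPrimeNormal p R := by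
  haveI : Fact p.Prime := ⟨hp⟩
  intro N hN hNp
  haveI := hN
  have hle : N ≤ Cfsg.pPrimeCore p R :=
    PCore.le_pPrimeCore ((hp.coprime_iff_not_dvd.2 hNp).symm)
  haveI : (Cfsg.pPrimeCore p R).Characteristic := PCore.pPrimeCore_characteristic
  have h := hG ((Cfsg.pPrimeCore p R).map R.subtype) inferInstance fun hd => by
    rw [Subgroup.card_map_of_injective R.subtype_injective] at hd
    exact (hp.coprime_iff_not_dvd.1 (PCore.coprime_card_pPrimeCore (p := p) (G := R)).symm) hd
  rw [Subgroup.map_eq_bot_iff_of_injective _ R.subtype_injective] at h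
  exact eq_bot_iff.2 (h ▸ hle)

/-- The inductive step. -/
theorem clsBnd_step (hp : p.Prime) (X : Type) [Group X] [Finite X] [Group.IsSolvable X] [Nontrivial X]
    (hX : NoPPrimeNormal p X) (hIH : BndBelow p (Nat.card X)) : ClsBnd p X := by
  classical
  haveI : Fact p.Prime := ⟨hp⟩
  obtain ⟨V, hVn, -, hV, hmin, hab, q, r, hq, hr, hcardV, hexp⟩ :=
    exists_elementary_normal (⊤ : Subgroup X) (by
      intro h
      obtain ⟨x, hx⟩ := exists_ne (1 : X)
      exact hx (Subgroup.mem_bot.1 (h ▸ Subgroup.mem_top x)))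
  haveI := hVn
  obtain rfl : q = p := by
    by_contra hne
    refine hV (hX V hVn fun hd => ?_)
    rw [hcardV] at hd
    exact hne ((Nat.prime_dvd_prime_iff_eq hp hq).1 (hp.dvd_of_dvd_pow hd)).symm
  have hwV : wgt q V = (3 * q) ^ r := by
    rw [wgt, hcardV, hq.factorization_pow, Finsupp.single_eq_same]
  have hkV : 3 * Nat.card (ConjClasses V) ≤ wgt q V := by
    rw [hwV, mul_pow]
    refine (Nat.mul_le_mul_left 3 card_classes_le_card).trans ?_
    rw [hcardV]
    exact Nat.mul_le_mul_right _ (Nat.le_self_pow (by omega) 3)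
  have hXV : Nat.card X = Nat.card V * Nat.card (X ⧸ V) := V.card_mul_index.symm
  have hlt : Nat.card (X ⧸ V) < Nat.card X := by
    rw [hXV]
    refine lt_mul_left Nat.card_pos ?_
    rw [hcardV]
    exact Nat.one_lt_pow (by omega) hq.one_lt
  rcases subsingleton_or_nontrivial (X ⧸ V) with hsub | hnt
  · have hone : Nat.card (X ⧸ V) = 1 :=
      le_antisymm (Finite.card_le_one_iff_subsingleton.2 hsub) Nat.card_pos
    have hw : wgt q X = wgt q V := wgt_congr (by rw [hXV, hone, mul_one])
    show _ ≤ wgt q X
    rw [hw]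
    refine le_trans (Nat.mul_le_mul_left 3 ?_) hkV
    refine (card_classes_le_mul V).trans ?_
    refine (Nat.mul_le_mul_left _ (card_classes_le_card.trans hone.le)).trans ?_
    rw [mul_one]
  by_cases hQ : NoPPrimeNormal q (X ⧸ V)
  · have h2 : 3 * Nat.card (ConjClasses (X ⧸ V)) ≤ wgt q (X ⧸ V) := hIH (X ⧸ V) hlt inferInstance hnt hQ
    show _ ≤ wgt q X
    rw [wgt_mul hXV]
    refine le_trans ?_ (Nat.mul_le_mul hkV h2)
    refine (Nat.mul_le_mul_left 3 (card_classes_le_mul V)).trans ?_
    nlinarith [Nat.zero_le (Nat.card (ConjClasses V) * Nat.card (ConjClasses (X ⧸ V)))]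
  -- a normal subgroup of order prime to `q` in the quotient
  unfold NoPPrimeNormal at hQ
  push Not at hQ
  obtain ⟨N, hNn, hNp, hN⟩ := hQ
  haveI := hNn
  obtain ⟨Lb, hLn, hLN, hLb, -, -, s, i, hs, hi, hcardL, -⟩ := exists_elementary_normal N hN
  haveI := hLn
  have hsq : s ≠ q := by
    rintro rfl
    exact hNp (((dvd_pow_self s (by omega)).trans (dvd_of_eq hcardL.symm)).trans (Subgroup.card_dvd_of_le hLN))
  haveI : Fact s.Prime := ⟨hs⟩
  set L := Lb.comap (QuotientGroup.mk' V) with hL
  haveI : L.Normal := Subgroup.Normal.comap hLn _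
  have hVL : V ≤ L := fun v hv => by
    show QuotientGroup.mk' V v ∈ Lb
    rw [show QuotientGroup.mk' V v = 1 from (QuotientGroup.eq_one_iff v).2 hv]
    exact one_mem _
  have hcardL' : Nat.card L = q ^ r * s ^ i := by
    rw [← (V.subgroupOf L).card_mul_index, Nat.card_congr (Subgroup.subgroupOfEquivOfLe hVL).toEquiv,
      hcardV, ← hcardL]
    congr 1
    show V.relIndex L = _
    conv_lhs => rw [show V = (⊥ : Subgroup (X ⧸ V)).comap (QuotientGroup.mk' V) by
      rw [MonoidHom.comap_bot, QuotientGroup.ker_mk']]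
    rw [hL, Subgroup.relIndex_comap, Subgroup.map_comap_eq_self_of_surjective
      (QuotientGroup.mk'_surjective V), Subgroup.relIndex_bot_left]
  obtain ⟨P⟩ := (inferInstance : Nonempty (Sylow s L))
  have hcardP : Nat.card P = s ^ i := by
    rw [Sylow.card_eq_multiplicity, hcardL', Nat.factorization_mul (pow_ne_zero _ hq.ne_zero)
      (pow_ne_zero _ hs.ne_zero), Finsupp.add_apply, hq.factorization_pow, hs.factorization_pow,
      Finsupp.single_eq_of_ne hsq, Finsupp.single_eq_same, zero_add]
  set P' := (P : Subgroup L).map L.subtype with hP'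
  have hcop : Nat.Coprime (q ^ r) (s ^ i) :=
    Nat.Coprime.pow _ _ ((Nat.coprime_primes hq hs).2 (Ne.symm hsq))
  have hcompl : Subgroup.IsComplement' (V.subgroupOf L) (P : Subgroup L) := by
    refine Subgroup.isComplement'_of_coprime ?_ ?_
    · rw [Nat.card_congr (Subgroup.subgroupOfEquivOfLe hVL).toEquiv, hcardV, hcardP, hcardL']
    · rw [Nat.card_congr (Subgroup.subgroupOfEquivOfLe hVL).toEquiv, hcardV, hcardP]
      exact hcop
  have hLVP : L ≤ V ⊔ P' := fun x hx => by
    obtain ⟨⟨a, b⟩, hab'⟩ := hcompl.2 ⟨x, hx⟩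
    rw [show x = ((a : L) : X) * ((b : L) : X) from (congrArg Subtype.val hab').symm]
    exact Subgroup.mul_mem_sup a.2 ⟨b, b.2, rfl⟩
  set H := normalizer (P' : Set X) with hH
  have hP'H : P' ≤ H := Subgroup.le_normalizer
  have hHV : H ⊔ V = ⊤ := by
    refine eq_top_iff.2 ?_
    rw [← Sylow.normalizer_sup_eq_top P]
    exact sup_le le_sup_left (hLVP.trans (sup_le le_sup_right (hP'H.trans le_sup_left)))
  have hHVn : (H ⊓ V).Normal := by
    rw [← Subgroup.normalizer_eq_top_iff, eq_top_iff, ← hHV]
    refine sup_le (fun h hh => ?_) fun v hv => ?_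
    · rw [Subgroup.mem_normalizer_iff]
      intro x
      simp only [Subgroup.mem_inf]
      constructor
      · exact fun hx => ⟨H.mul_mem (H.mul_mem hh hx.1) (H.inv_mem hh), hVn.conj_mem x hx.2 h⟩
      · intro hx
        have e : x = h⁻¹ * (h * x * h⁻¹) * h⁻¹⁻¹ := by group
        refine ⟨?_, ?_⟩
        · rw [e]; exact H.mul_mem (H.mul_mem (H.inv_mem hh) hx.1) (H.inv_mem (H.inv_mem hh))
        · rw [e]; exact hVn.conj_mem _ hx.2 h⁻¹
    · rw [Subgroup.mem_normalizer_iff]
      intro x
      simp only [Subgroup.mem_inf]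
      constructor
      · intro hx
        rw [hab v hv x hx.2, mul_inv_cancel_right]
        exact hx
      · intro hx
        have hxV : x ∈ V := by
          have := hVn.conj_mem _ hx.2 v⁻¹
          simpa [mul_assoc] using this
        rwa [hab v hv x hxV, mul_inv_cancel_right] at hx
  have hdisj : H ⊓ V = ⊥ := by
    refine (hmin _ hHVn inf_le_right).resolve_right fun h => ?_
    have hVH : V ≤ H := h ▸ inf_le_left
    have htop : H = ⊤ := by rw [← hHV, sup_eq_left.2 hVH]
    have hP'n : P'.Normal := Subgroup.normalizer_eq_top_iff.1 htop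
    have hbot := hX P' hP'n fun hd => by
      rw [hP', Subgroup.card_map_of_injective L.subtype_injective, hcardP] at hd
      exact hsq ((Nat.prime_dvd_prime_iff_eq hq hs).1 (hq.dvd_of_dvd_pow hd)).symm
    rw [hP', Subgroup.map_eq_bot_iff_of_injective _ L.subtype_injective] at hbot
    rw [hbot, Subgroup.card_bot] at hcardP
    exact (Nat.one_lt_pow (by omega) hs.one_lt).ne hcardP
  set R := H ⊓ centralizer (V : Set X) with hR
  haveI hRn : R.Normal := by
    rw [← Subgroup.normalizer_eq_top_iff, eq_top_iff, ← hHV]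
    have hCn : (centralizer (V : Set X)).Normal := inferInstance
    refine sup_le (fun h hh => ?_) fun v hv => ?_
    · rw [Subgroup.mem_normalizer_iff]
      intro x
      simp only [R, Subgroup.mem_inf]
      constructor
      · exact fun hx => ⟨H.mul_mem (H.mul_mem hh hx.1) (H.inv_mem hh), hCn.conj_mem x hx.2 h⟩
      · intro hx
        have e : x = h⁻¹ * (h * x * h⁻¹) * h⁻¹⁻¹ := by group
        refine ⟨?_, ?_⟩
        · rw [e]; exact H.mul_mem (H.mul_mem (H.inv_mem hh) hx.1) (H.inv_mem (H.inv_mem hh))
        · rw [e]; exact hCn.conj_mem _ hx.2 h⁻¹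
    · rw [Subgroup.mem_normalizer_iff]
      intro x
      simp only [R, Subgroup.mem_inf]
      constructor
      · intro hx
        rw [mem_centralizer_iff.1 hx.2 v hv, mul_inv_cancel_right]
        exact hx
      · intro hx
        have hxC : x ∈ centralizer (V : Set X) := by
          have := hCn.conj_mem _ hx.2 v⁻¹
          simpa [mul_assoc] using this
        rwa [mem_centralizer_iff.1 hxC v hv, mul_inv_cancel_right] at hx
  by_cases hR1 : R = ⊥
  · -- the split irreducible case
    letI : CommGroup V := { (inferInstance : Group V) with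
      mul_comm := fun a b => Subtype.ext (hab a a.2 b b.2) }
    haveI : Nontrivial V := (Subgroup.nontrivial_iff_ne_bot _).2 hV
    let φ : H →* MulAut V := (MulAut.conjNormal (H := V)).comp H.subtype
    have hφ : Function.Injective φ := by
      rw [injective_iff_map_eq_one]
      intro h hh
      refine Subtype.ext ?_
      refine Subgroup.mem_bot.1 (hR1 ▸ (⟨h.2, mem_centralizer_iff.2 fun v hv => ?_⟩ : (h : X) ∈ R))
      have e := congrArg Subtype.val (DFunLike.congr_fun hh ⟨v, hv⟩)
      simp only [φ, MonoidHom.comp_apply, Subgroup.coe_subtype, MulAut.conjNormal_apply,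
        MulAut.one_apply] at e
      conv_lhs => rw [← e]
      group
    have hcardX : Nat.card V * Nat.card H = Nat.card X := by
      refine Subgroup.IsComplement'.card_mul (Subgroup.isComplement'_of_disjoint_and_mul_eq_univ ?_ ?_)
      · rw [disjoint_iff, inf_comm]; exact hdisj
      · rw [← Subgroup.normal_mul V H, sup_comm, hHV, Subgroup.coe_top]
    have hb := clsBnd_semidirect (p := q) (Q := V) (fun v => Subtype.ext (hexp v v.2)) φ hφ
      (fun W hW => by
        have hWn : (W.map V.subtype).Normal := by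
          rw [← Subgroup.normalizer_eq_top_iff, eq_top_iff, ← hHV]
          refine sup_le (fun h hh => ?_) fun v hv => ?_
          · rw [Subgroup.mem_normalizer_iff]
            intro x
            constructor
            · rintro ⟨w, hw, rfl⟩
              exact ⟨φ ⟨h, hh⟩ w, hW ⟨h, hh⟩ w hw, rfl⟩
            · rintro ⟨w, hw, hwx⟩
              refine ⟨φ ⟨h, hh⟩⁻¹ w, hW _ w hw, ?_⟩
              show h⁻¹ * (w : X) * h⁻¹⁻¹ = x
              rw [show (w : X) = h * x * h⁻¹ from hwx]
              group
          · rw [Subgroup.mem_normalizer_iff]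
            intro x
            constructor
            · rintro ⟨w, hw, rfl⟩
              refine ⟨w, hw, ?_⟩
              show (w : X) = v * (w : X) * v⁻¹
              rw [hab v hv w w.2, mul_inv_cancel_right]
            · rintro ⟨w, hw, hwx⟩
              refine ⟨w, hw, ?_⟩
              show (w : X) = x
              have hwx' : (w : X) = v * x * v⁻¹ := hwx
              have hx' : x = v⁻¹ * (w : X) * v⁻¹⁻¹ := by rw [hwx']; group
              rw [hx', hab v⁻¹ (V.inv_mem hv) w w.2, mul_inv_cancel_right]
        rcases hmin _ hWn (Subgroup.map_subtype_le _) with h | h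
        · exact Or.inl ((Subgroup.map_eq_bot_iff_of_injective _ V.subtype_injective).1 h)
        · refine Or.inr (Subgroup.map_injective V.subtype_injective ?_)
          rw [h, ← MonoidHom.range_eq_map, Subgroup.range_subtype]) (hcardX.symm ▸ hIH)
    rw [hcardX] at hb
    haveI : Finite (V ⋊[φ] H) := Finite.of_equiv _ SemidirectProduct.equivProd.symm
    refine le_trans (Nat.mul_le_mul_left 3 ?_) hb
    refine card_classes_le_of_surjective (f := SemidirectProduct.lift V.subtype H.subtype fun h =>
      MonoidHom.ext fun v => ?_) ?_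
    · show ((φ h v : V) : X) = (h : X) * (v : X) * (h : X)⁻¹
      rfl
    · intro x
      have hx : x ∈ V ⊔ H := by rw [sup_comm, hHV]; exact Subgroup.mem_top x
      rw [Subgroup.mem_sup_of_normal_left] at hx
      obtain ⟨v, hv, h, hh, rfl⟩ := hx
      exact ⟨⟨⟨v, hv⟩, ⟨h, hh⟩⟩, rfl⟩
  · -- the centraliser of `V` in the complement
    haveI : Nontrivial R := (Subgroup.nontrivial_iff_ne_bot _).2 hR1
    have hVR : V ⊓ R = ⊥ := by
      rw [eq_bot_iff, ← hdisj]
      exact fun x hx => ⟨hx.2.1, hx.1⟩
    have hXR : Nat.card X = Nat.card R * Nat.card (X ⧸ R) := R.card_mul_index.symm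
    have hltR : Nat.card R < Nat.card X := by
      refine lt_of_le_of_ne (Subgroup.card_le_card_group R) fun h => hV ?_
      have := Subgroup.eq_top_of_card_eq R h
      rwa [this, inf_top_eq] at hVR
    have hltQ : Nat.card (X ⧸ R) < Nat.card X := by
      rw [hXR]
      exact lt_mul_left Nat.card_pos Finite.one_lt_card
    haveI hntQ : Nontrivial (X ⧸ R) := by
      refine not_subsingleton_iff_nontrivial.1 fun hs => hV ?_
      rw [← hVR, left_eq_inf]
      intro v _
      exact (QuotientGroup.eq_one_iff v).1 (Subsingleton.elim _ _)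
    have hcenV : ∀ x ∈ centralizer (V : Set X), ∃ v ∈ V, ∃ c ∈ R, v * c = x := by
      intro x hx
      have hx' : x ∈ V ⊔ H := by rw [sup_comm, hHV]; exact Subgroup.mem_top x
      rw [Subgroup.mem_sup_of_normal_left] at hx'
      obtain ⟨v, hv, h, hh, rfl⟩ := hx'
      refine ⟨v, hv, h, ⟨hh, ?_⟩, rfl⟩
      have hvC : v ∈ centralizer (V : Set X) := mem_centralizer_iff.2 fun w hw => hab w hw v hv
      have := mul_mem (inv_mem hvC) hx
      rwa [inv_mul_cancel_left] at this
    have hQR : NoPPrimeNormal q (X ⧸ R) := by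
      intro M hM hMp
      haveI := hM
      haveI : (V.map (QuotientGroup.mk' R)).Normal :=
        Subgroup.Normal.map inferInstance _ (QuotientGroup.mk'_surjective R)
      have hd1 : Disjoint M (V.map (QuotientGroup.mk' R)) := by
        refine disjoint_iff.2 ((Subgroup.eq_bot_iff_forall _).2 fun y hy => ?_)
        obtain ⟨v, hv, rfl⟩ := hy.2
        have h1 : orderOf (QuotientGroup.mk' R v) ∣ q ^ 1 :=
          orderOf_dvd_of_pow_eq_one (by rw [pow_one, ← map_pow, hexp v hv, map_one])
        exact orderOf_eq_one_iff.1 (Nat.eq_one_of_dvd_coprimes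
          (Nat.Coprime.pow_left 1 (hq.coprime_iff_not_dvd.2 hMp)) h1 (Subgroup.orderOf_dvd_natCard M hy.1))
      rw [Subgroup.eq_bot_iff_forall]
      intro y hy
      obtain ⟨x, rfl⟩ := QuotientGroup.mk'_surjective R y
      have hxC : x ∈ centralizer (V : Set X) := by
        refine mem_centralizer_iff.2 fun v hv => ?_
        have hc := Subgroup.commute_of_normal_of_disjoint M _ hM inferInstance hd1 _ _ hy
          (Subgroup.mem_map_of_mem (QuotientGroup.mk' R) hv)
        have hm1 : ⁅x, v⁆ ∈ R := by
          rw [← QuotientGroup.eq_one_iff]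
          show QuotientGroup.mk' R ⁅x, v⁆ = 1
          rw [map_commutatorElement, commutatorElement_eq_one_iff_commute]
          exact hc
        have hm2 : ⁅x, v⁆ ∈ V := V.mul_mem (hVn.conj_mem v hv x) (V.inv_mem hv)
        have h1 : ⁅x, v⁆ ∈ V ⊓ R := ⟨hm2, hm1⟩
        rw [hVR, Subgroup.mem_bot, commutatorElement_eq_one_iff_commute] at h1
        exact h1.eq.symm
      obtain ⟨v, hv, c, hc, rfl⟩ := hcenV x hxC
      rw [map_mul, show QuotientGroup.mk' R c = 1 from (QuotientGroup.eq_one_iff c).2 hc, mul_one]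
      refine Subgroup.disjoint_def.1 hd1 ?_ (Subgroup.mem_map_of_mem _ hv)
      rwa [map_mul, show QuotientGroup.mk' R c = 1 from (QuotientGroup.eq_one_iff c).2 hc, mul_one] at hy
    have h1 : 3 * Nat.card (ConjClasses R) ≤ wgt q R :=
      hIH R hltR inferInstance inferInstance (hX.of_normal hq R)
    have h2 : 3 * Nat.card (ConjClasses (X ⧸ R)) ≤ wgt q (X ⧸ R) :=
      hIH (X ⧸ R) hltQ inferInstance hntQ hQR
    show _ ≤ wgt q X
    rw [wgt_mul hXR]
    refine le_trans ?_ (Nat.mul_le_mul h1 h2)
    refine (Nat.mul_le_mul_left 3 (card_classes_le_mul R)).trans ?_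
    nlinarith [Nat.zero_le (Nat.card (ConjClasses R) * Nat.card (ConjClasses (X ⧸ R)))]

theorem bndBelow_all (hp : p.Prime) : ∀ c, BndBelow p c := by
  intro c
  induction c using Nat.strong_induction_on with
  | _ c ih =>
    intro Y _ _ hc hs hnt hY
    haveI := hs
    haveI := hnt
    exact clsBnd_step hp Y hY fun Z _ _ hZ hsZ hntZ hYZ => ih _ hc Z hZ hsZ hntZ hYZ

/-- A type synonym, to carry a transported group structure. -/
def FinCarrier (n : ℕ) : Type := Fin n

instance finite_finCarrier (n : ℕ) : Finite (FinCarrier n) := inferInstanceAs (Finite (Fin n))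

/-- **The bound**, in any universe. -/
theorem three_mul_classes_le.{u} (hp : p.Prime) {X : Type u} [Group X] [Finite X] [Group.IsSolvable X]
    [Nontrivial X] (hX : NoPPrimeNormal p X) :
    3 * Nat.card (ConjClasses X) ≤ (3 * p) ^ (Nat.card X).factorization p := by
  obtain ⟨n, ⟨e⟩⟩ := Finite.exists_equiv_fin X
  change X ≃ FinCarrier n at e
  letI : Group (FinCarrier n) := e.symm.group
  let φ : X ≃* FinCarrier n := e.symm.mulEquiv.symm
  have hcard : Nat.card (FinCarrier n) = Nat.card X := (Nat.card_congr e).symm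
  haveI : Nontrivial (FinCarrier n) := φ.symm.toEquiv.nontrivial
  haveI : Group.IsSolvable (FinCarrier n) := Group.isSolvable_of_surjective (f := φ.toMonoidHom) φ.surjective
  have h := bndBelow_all hp (Nat.card (FinCarrier n) + 1) (FinCarrier n) (Nat.lt_succ_self _) inferInstance inferInstance
    (fun N hN hNp => by
      have h1 := hX (N.comap φ.toMonoidHom) (hN.comap _) fun hd => hNp (by
        rwa [show Nat.card (N.comap φ.toMonoidHom) = Nat.card N from
          Nat.card_congr (φ.toEquiv.subtypeEquiv fun _ => Iff.rfl)] at hd)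
      refine (Subgroup.eq_bot_iff_forall _).2 fun y hy => ?_
      obtain ⟨x, rfl⟩ := φ.surjective y
      have : x ∈ N.comap φ.toMonoidHom := hy
      rw [h1, Subgroup.mem_bot] at this
      rw [this, map_one])
  unfold ClsBnd wgt at h
  rw [hcard] at h
  refine le_trans (Nat.mul_le_mul_left 3 ?_) h
  exact card_classes_le_of_surjective (f := φ.symm.toMonoidHom) φ.symm.surjective

end Cfsg.Agent.SolvLin
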