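import Cfsg.Agent.Lib.SolvLin.KBound

/-!
# Irreducible solvable linear groups over prime fields: the bound to be proved
-/

set_option autoImplicit false
set_option linter.style.haveILetI false
set_option linter.unusedSectionVars false

namespace Cfsg.Agent.SolvLin

open Module Subgroup

/-- An irreducible solvable group of `N`-dimensional matrices over `ZMod p` has `KB` bound `b`. -/
def IrrBoundB (p N b : ℕ) : Prop :=
  ∀ (V : Type) [AddCommGroup V] [Module (ZMod p) V] [Finite V] (X : Type) [Group X] [Finite X]
    [Group.IsSolvable X] (ρ : X →* Module.End (ZMod p) V), Function.Injective ρ →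
    finrank (ZMod p) V = N →
    (∀ W : Submodule (ZMod p) V, (∀ x : X, ∀ w ∈ W, ρ x w ∈ W) → W = ⊥ ∨ W = ⊤) →
    KB X b

/-- The bound function. -/
def irrB (p N : ℕ) : ℕ := 3 ^ (N - 1) * (if p = 2 then 1 else p) ^ N

/-- An irreducible solvable group of `N`-dimensional matrices over `ZMod p` satisfies the bound. -/
def IrrBound (p N : ℕ) : Prop := IrrBoundB p N (irrB p N)

theorem IrrBoundB.mono {p N b c : ℕ} (h : IrrBoundB p N b) (hbc : b ≤ c) : IrrBoundB p N c :=
  fun V _ _ _ X _ _ _ ρ hρ hd hirr => (h V X ρ hρ hd hirr).mono hbc

/-- A group with small centre and small centralisers has few classes. -/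
theorem card_classes_le_nine {G : Type} [Group G] [Finite G]
    (hz : Nat.card (center G) ≤ 2)
    (hc : ∀ g : G, g ∉ center G → Nat.card (centralizer ({g} : Set G)) ≤ 8) :
    Nat.card (ConjClasses G) ≤ 9 := by
  classical
  haveI := Fintype.ofFinite G
  have hP : pairCount G < 10 * Nat.card G := by
    rw [pairCount_eq_sum]
    refine lt_of_le_of_lt (Finset.sum_le_sum fun x _ => show Nat.card {y : G // Commute x y} ≤
      (if x ∈ center G then Nat.card G else 0) + (if x = 1 then 0 else 8) from ?_) ?_
    · split_ifs with hx h1 h1
      · exact (Nat.card_le_card_of_injective _ Subtype.val_injective).trans (Nat.le_add_right _ _)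
      · exact (Nat.card_le_card_of_injective _ Subtype.val_injective).trans (Nat.le_add_right _ _)
      · exact absurd (h1 ▸ (center G).one_mem) hx
      · rw [zero_add]
        refine le_trans (le_of_eq ?_) (hc x hx)
        exact Nat.card_congr (Equiv.subtypeEquivRight fun y => by
          rw [mem_centralizer_singleton_iff]; exact ⟨fun h => h.eq.symm, fun h => h.symm⟩)
    · rw [Finset.sum_add_distrib, ← Finset.sum_filter, Finset.sum_const, smul_eq_mul]
      have h2 : (Finset.univ.filter fun x : G => x ∈ center G).card ≤ 2 := by
        rw [← Fintype.card_subtype, ← Nat.card_eq_fintype_card]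
        exact hz
      have h8 : ∑ x : G, (if x = 1 then 0 else 8) < ∑ _x : G, 8 :=
        Finset.sum_lt_sum (fun x _ => by split_ifs <;> norm_num)
          ⟨1, Finset.mem_univ _, by norm_num⟩
      rw [Finset.sum_const, smul_eq_mul, Finset.card_univ, ← Nat.card_eq_fintype_card] at h8
      have := Nat.mul_le_mul_right (Nat.card G) h2
      omega
  rw [pairCount_eq] at hP
  exact Nat.le_of_lt_succ (Nat.lt_of_mul_lt_mul_right hP)

end Cfsg.Agent.SolvLin
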