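import Cfsg.Agent.Lib.SolvLin.IrrDef

/-!
# The plane over `ZMod 3`, and the numerical comparison
-/

set_option autoImplicit false
set_option linter.style.haveILetI false
set_option linter.unusedSectionVars false

namespace Cfsg.Agent.SolvLin

open Module Subgroup

instance fact_prime_three' : Fact (Nat.Prime 3) := ⟨Nat.prime_three⟩

section Plane

variable {V : Type} [AddCommGroup V] [Module (ZMod 3) V] [Finite V] {X : Type} [Group X] [Finite X]
  (ρ : X →* Module.End (ZMod 3) V)

theorem plane_centralizer_le (hρ : Function.Injective ρ) (hd : finrank (ZMod 3) V = 2) {g : X}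
    {w : V} (hw : LinearIndependent (ZMod 3) ![w, ρ g w]) :
    Nat.card (centralizer ({g} : Set X)) ≤ 8 := by
  classical
  haveI := Fintype.ofFinite V
  have hV : Nat.card V = 9 := by
    rw [Module.natCard_eq_pow_finrank (K := ZMod 3), Nat.card_zmod, hd]; norm_num
  let b := basisOfLinearIndependentOfCardEqFinrank hw (by rw [Fintype.card_fin, hd])
  have hb : ⇑b = ![w, ρ g w] := coe_basisOfLinearIndependentOfCardEqFinrank _ _
  have hinv : ∀ h : X, ρ h w ≠ 0 := fun h h0 => by
    have h1 : ρ h⁻¹ (ρ h w) = w := by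
      rw [← Module.End.mul_apply, ← map_mul, inv_mul_cancel, map_one, Module.End.one_apply]
    rw [h0, map_zero] at h1
    exact hw.ne_zero 0 h1.symm
  let f : centralizer ({g} : Set X) → {v : V // v ≠ 0} := fun h => ⟨ρ h w, hinv h⟩
  have hf : Function.Injective f := by
    intro h h' he
    refine Subtype.ext (hρ (b.ext fun i => ?_))
    have he' : ρ (h : X) w = ρ (h' : X) w := congrArg Subtype.val he
    rw [hb]
    fin_cases i
    · exact he'
    · show ρ (h : X) (ρ g w) = ρ (h' : X) (ρ g w)
      rw [← Module.End.mul_apply, ← Module.End.mul_apply, ← map_mul, ← map_mul,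
        mem_centralizer_singleton_iff.1 h.2, mem_centralizer_singleton_iff.1 h'.2, map_mul, map_mul,
        Module.End.mul_apply, Module.End.mul_apply, he']
  refine (Nat.card_le_card_of_injective f hf).trans ?_
  rw [Nat.card_eq_fintype_card] at hV
  rw [Nat.card_eq_fintype_card, Fintype.card_subtype_compl, Fintype.card_subtype_eq, hV]

theorem plane_classes_le (hρ : Function.Injective ρ) (hd : finrank (ZMod 3) V = 2) :
    Nat.card (ConjClasses X) ≤ 9 := by
  classical
  haveI : Nontrivial V := Module.nontrivial_of_finrank_eq_succ hd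
  by_cases hz : ∃ z ∈ center X, ∃ w : V, LinearIndependent (ZMod 3) ![w, ρ z w]
  · obtain ⟨z, hz, w, hw⟩ := hz
    have h := plane_centralizer_le ρ hρ hd hw
    rw [show centralizer ({z} : Set X) = ⊤ from
      (Subgroup.eq_top_iff' _).2 fun y => mem_centralizer_singleton_iff.2 (mem_center_iff.1 hz y),
      Subgroup.card_top] at h
    exact card_classes_le_card.trans (h.trans (by norm_num))
  push Not at hz
  have hsc : ∀ z : center X, ∃ a : ZMod 3, a ≠ 0 ∧ ρ z = a • 1 := by
    intro z
    obtain ⟨a, ha⟩ := LinearMap.exists_eq_smul_id_of_forall_notLinearIndependent (f := ρ z)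
      (fun v => hz z z.2 v)
    refine ⟨a, fun h0 => ?_, ha⟩
    have h1 : ρ (z : X) * ρ (z : X)⁻¹ = 1 := by rw [← map_mul, mul_inv_cancel, map_one]
    rw [ha, h0, zero_smul, zero_mul] at h1
    exact zero_ne_one h1
  choose a ha0 ha using hsc
  refine card_classes_le_nine ?_ fun g hg => ?_
  · refine le_trans (Nat.card_le_card_of_injective (fun z => (⟨a z, ha0 z⟩ : {c : ZMod 3 // c ≠ 0}))
      fun z z' he => Subtype.ext (hρ ?_)) ?_
    · rw [ha, ha, show a z = a z' from congrArg Subtype.val he]
    · rw [Nat.card_eq_fintype_card, Fintype.card_subtype_compl, Fintype.card_subtype_eq, ZMod.card]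
  · by_contra hne
    refine hg (mem_center_iff.2 fun y => hρ ?_)
    obtain ⟨c, hc⟩ := LinearMap.exists_eq_smul_id_of_forall_notLinearIndependent (f := ρ g)
      (fun v hv => hne (plane_centralizer_le ρ hρ hd hv))
    rw [map_mul, map_mul, hc, smul_mul_assoc, mul_smul_comm, one_mul, mul_one]

end Plane

theorem irrBoundB_three_two : IrrBoundB 3 2 9 :=
  fun V _ _ _ X _ _ _ ρ hρ hd _ K =>
    plane_classes_le (ρ.comp K.subtype) (hρ.comp K.subtype_injective) hd

theorem pow_four_le_three_pow {Q : ℕ} (h : 9 ≤ Q) : Q ^ 4 ≤ 3 ^ Q := by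
  induction Q, h using Nat.le_induction with
  | base => norm_num
  | succ n hn ih =>
    have h1 : (9 * (n + 1)) ^ 4 ≤ (10 * n) ^ 4 := Nat.pow_le_pow_left (by omega) 4
    rw [mul_pow, mul_pow] at h1
    norm_num at h1
    rw [pow_succ 3 n]
    omega

/-- The bound in the form needed for the symplectic sections. -/
theorem IrrBound.symp {p n : ℕ} (hp : p.Prime) (hn : 1 ≤ n) (h : IrrBound p (2 * n)) :
    IrrBoundB p (2 * n) (3 ^ (p ^ n - 1)) := by
  rcases hp.eq_two_or_odd with h2 | hodd
  · subst h2
    refine h.mono ?_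
    rw [irrB, if_pos rfl, one_pow, mul_one]
    have h1 : 2 * n ≤ 2 ^ n := by
      obtain ⟨m, rfl⟩ := Nat.exists_eq_add_of_le hn
      have := Nat.lt_two_pow_self (n := m)
      rw [Nat.pow_add]
      omega
    exact Nat.pow_le_pow_right (by norm_num) (by omega)
  · have h3 : 3 ≤ p := by
      have := hp.two_le
      omega
    by_cases h31 : p = 3 ∧ n = 1
    · obtain ⟨rfl, rfl⟩ := h31
      exact irrBoundB_three_two.mono (by norm_num)
    refine h.mono ?_
    rw [irrB, if_neg (by omega)]
    have hQ : 5 ≤ p ^ n := by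
      by_cases hn1 : n = 1
      · subst hn1
        rw [pow_one]
        omega
      · have : 3 ^ 2 ≤ p ^ n :=
          (Nat.pow_le_pow_left h3 2).trans (Nat.pow_le_pow_right (by omega) (by omega))
        omega
    have hpow : 3 ^ n ≤ p ^ n := Nat.pow_le_pow_left h3 n
    set Q := p ^ n with hQdef
    have hQ2 : p ^ (2 * n) = Q * Q := by rw [hQdef, ← pow_add, two_mul]
    have h32 : 3 ^ (2 * n) = 3 ^ n * 3 ^ n := by rw [← pow_add, two_mul]
    have key : 3 ^ n * 3 ^ n * (Q * Q) ≤ 3 ^ Q := by
      by_cases h9 : 9 ≤ Q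
      · refine le_trans ?_ (pow_four_le_three_pow h9)
        calc 3 ^ n * 3 ^ n * (Q * Q) ≤ Q * Q * (Q * Q) :=
              Nat.mul_le_mul_right _ (Nat.mul_le_mul hpow hpow)
          _ = Q ^ 4 := by ring
      · have hn1 : n = 1 := by
          by_contra hne
          have : 3 ^ 2 ≤ p ^ n :=
            (Nat.pow_le_pow_left h3 2).trans (Nat.pow_le_pow_right (by omega) (by omega))
          omega
        subst hn1
        rw [pow_one] at hQdef
        interval_cases Q <;> norm_num
    refine Nat.le_of_mul_le_mul_right (c := 3) ?_ (by norm_num)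
    calc 3 ^ (2 * n - 1) * p ^ (2 * n) * 3 = 3 ^ (2 * n - 1 + 1) * p ^ (2 * n) := by
          rw [pow_succ]; ring
      _ = 3 ^ n * 3 ^ n * (Q * Q) := by rw [show 2 * n - 1 + 1 = 2 * n by omega, h32, hQ2]
      _ ≤ 3 ^ Q := key
      _ = 3 ^ (Q - 1) * 3 := by rw [← pow_succ, Nat.sub_add_cancel (by omega)]

end Cfsg.Agent.SolvLin
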