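import Mathlib

/-!
# Bounds for the class numbers of all subgroups
-/

set_option autoImplicit false
set_option linter.style.haveILetI false

namespace Cfsg.Agent.SolvLin

open Subgroup

universe u v w

set_option linter.unusedSectionVars false

/-- Every subgroup of `G` has at most `b` conjugacy classes. -/
def KB (G : Type u) [Group G] (b : ℕ) : Prop :=
  ∀ K : Subgroup G, Nat.card (ConjClasses K) ≤ b

/-- The number of commuting pairs. -/
noncomputable def pairCount (G : Type u) [Group G] : ℕ :=
  Nat.card {p : G × G // Commute p.1 p.2}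

variable {G : Type u} [Group G] [Finite G]

theorem pairCount_eq : pairCount G = Nat.card (ConjClasses G) * Nat.card G :=
  card_comm_eq_card_conjClasses_mul_card G

/-- Counting commuting pairs by the first entry. -/
theorem pairCount_eq_sum [Fintype G] :
    pairCount G = ∑ x : G, Nat.card {y : G // Commute x y} := by
  rw [pairCount, ← Nat.card_sigma]
  exact Nat.card_congr
    { toFun := fun p => ⟨p.1.1, ⟨p.1.2, p.2⟩⟩
      invFun := fun s => ⟨(s.1, s.2.1), s.2.2⟩
      left_inv := fun _ => rfl
      right_inv := fun _ => rfl }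

theorem card_classes_le_card : Nat.card (ConjClasses G) ≤ Nat.card G :=
  Nat.card_le_card_of_surjective ConjClasses.mk ConjClasses.mk_surjective

/-- **Gallagher**: the class number is submultiplicative. -/
theorem pairCount_le_mul (N : Subgroup G) [N.Normal] :
    pairCount G ≤ pairCount N * pairCount (G ⧸ N) := by
  classical
  let π : G → G ⧸ N := fun g => (g : G ⧸ N)
  let Φ : {p : G × G // Commute p.1 p.2} → {p : (G ⧸ N) × (G ⧸ N) // Commute p.1 p.2} :=
    fun p => ⟨(π p.1.1, π p.1.2), p.2.map (QuotientGroup.mk' N)⟩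
  have hfib : ∀ q, Nat.card {p // Φ p = q} ≤ pairCount N := by
    intro q
    -- the pairs (x, n) with x in the first coset and n in N
    let T := {p : G × N // π p.1 = q.1.1 ∧ Commute p.1 (p.2 : G)}
    have h1 : Nat.card {p // Φ p = q} ≤ Nat.card T := by
      have hsel : ∀ x : G, ∃ y0 : G, (∃ y, Commute x y ∧ π y = q.1.2) → Commute x y0 ∧ π y0 = q.1.2 :=
        fun x => by
          by_cases h : ∃ y, Commute x y ∧ π y = q.1.2
          · exact ⟨h.choose, fun _ => h.choose_spec⟩
          · exact ⟨1, fun h' => absurd h' h⟩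
      choose y0 hy0 using hsel
      have hy : ∀ p : {p // Φ p = q}, Commute p.1.1.1 (y0 p.1.1.1) ∧ π (y0 p.1.1.1) = q.1.2 :=
        fun p => hy0 _ ⟨p.1.1.2, p.1.2, congrArg (fun r => r.1.2) p.2⟩
      let F : {p // Φ p = q} → T := fun p =>
        ⟨(p.1.1.1, ⟨(y0 p.1.1.1)⁻¹ * p.1.1.2, QuotientGroup.eq.1
          ((hy p).2.trans (congrArg (fun r => r.1.2) p.2).symm)⟩),
          congrArg (fun r => r.1.1) p.2, ((hy p).1.inv_right).mul_right p.1.2⟩
      refine Nat.card_le_card_of_injective F ?_
      rintro ⟨⟨⟨x, y⟩, hxy⟩, hp⟩ ⟨⟨⟨x', y'⟩, hxy'⟩, hp'⟩ h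
      have h1 : x = x' := congrArg (fun t : T => t.1.1) h
      subst h1
      have h2 : (y0 x)⁻¹ * y = (y0 x)⁻¹ * y' := congrArg (fun t : T => (t.1.2 : G)) h
      have h3 : y = y' := mul_left_cancel h2
      subst h3
      rfl
    refine h1.trans ?_
    have hsel : ∀ n : N, ∃ x0 : G, (∃ x, Commute x (n : G) ∧ π x = q.1.1) →
        Commute x0 (n : G) ∧ π x0 = q.1.1 := fun n => by
      by_cases h : ∃ x, Commute x (n : G) ∧ π x = q.1.1
      · exact ⟨h.choose, fun _ => h.choose_spec⟩
      · exact ⟨1, fun h' => absurd h' h⟩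
    choose x0 hx0 using hsel
    have hx : ∀ t : T, Commute (x0 t.1.2) (t.1.2 : G) ∧ π (x0 t.1.2) = q.1.1 :=
      fun t => hx0 _ ⟨t.1.1, t.2.2, t.2.1⟩
    let F : T → {p : N × N // Commute p.1 p.2} := fun t =>
      ⟨(⟨(x0 t.1.2)⁻¹ * t.1.1, QuotientGroup.eq.1 ((hx t).2.trans t.2.1.symm)⟩, t.1.2),
        Subtype.ext (((hx t).1.inv_left).mul_left t.2.2)⟩
    refine Nat.card_le_card_of_injective F ?_
    rintro ⟨⟨x, n⟩, ht⟩ ⟨⟨x', n'⟩, ht'⟩ h
    have h1 : n = n' := congrArg (fun p : {p : N × N // Commute p.1 p.2} => p.1.2) h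
    subst h1
    have h2 : (x0 n)⁻¹ * x = (x0 n)⁻¹ * x' :=
      congrArg (fun p : {p : N × N // Commute p.1 p.2} => (p.1.1 : G)) h
    have h3 : x = x' := mul_left_cancel h2
    subst h3
    rfl
  haveI := Fintype.ofFinite {p : (G ⧸ N) × (G ⧸ N) // Commute p.1 p.2}
  rw [pairCount, ← Nat.card_congr (Equiv.sigmaFiberEquiv Φ), Nat.card_sigma]
  refine (Finset.sum_le_card_nsmul _ _ _ fun q _ => hfib q).trans ?_
  rw [smul_eq_mul, Finset.card_univ, ← Nat.card_eq_fintype_card, mul_comm]
  rfl

/-- `k(G) ≤ k(N) k(G/N)`. -/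
theorem card_classes_le_mul (N : Subgroup G) [N.Normal] :
    Nat.card (ConjClasses G) ≤ Nat.card (ConjClasses N) * Nat.card (ConjClasses (G ⧸ N)) := by
  have h := pairCount_le_mul N
  rw [pairCount_eq, pairCount_eq, pairCount_eq, ← N.index_mul_card,
    show N.index = Nat.card (G ⧸ N) from rfl] at h
  refine Nat.le_of_mul_le_mul_right (le_of_le_of_eq h ?_) (Nat.mul_pos Nat.card_pos Nat.card_pos :
    0 < Nat.card (G ⧸ N) * Nat.card N)
  ring

omit [Finite G] in
theorem card_classes_le_of_surjective {H : Type v} [Group H] [Finite G] {f : G →* H}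
    (hf : Function.Surjective f) : Nat.card (ConjClasses H) ≤ Nat.card (ConjClasses G) :=
  Nat.card_le_card_of_surjective _ (ConjClasses.map_surjective hf)

theorem KB.mono {b c : ℕ} (h : KB G b) (hbc : b ≤ c) : KB G c := fun K => (h K).trans hbc

theorem KB.of_card {b : ℕ} (h : Nat.card G ≤ b) : KB G b := fun K =>
  card_classes_le_card.trans ((Subgroup.card_le_card_group K).trans h)

theorem KB.pos {b : ℕ} (h : KB G b) : 1 ≤ b :=
  le_trans (Nat.one_le_iff_ne_zero.2 Nat.card_pos.ne') (h ⊥)

theorem KB.of_injective {H : Type v} [Group H] [Finite H] {f : G →* H} (hf : Function.Injective f)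
    {b : ℕ} (h : KB H b) : KB G b := fun K =>
  (card_classes_le_of_surjective
    (f := ((K.equivMapOfInjective f hf).symm : K.map f →* K))
    (K.equivMapOfInjective f hf).symm.surjective).trans (h _)

omit [Finite G] in
theorem KB.of_surjective {H : Type v} [Group H] [Finite G] {f : G →* H} (hf : Function.Surjective f)
    {b : ℕ} (h : KB G b) : KB H b := fun K =>
  (card_classes_le_of_surjective (f := f.subgroupComap K) (fun k => by
    obtain ⟨g, hg⟩ := hf k
    exact ⟨⟨g, show f g ∈ K from hg ▸ k.2⟩, Subtype.ext hg⟩)).trans (h _)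

theorem KB.subgroup {b : ℕ} (h : KB G b) (K : Subgroup G) : KB K b :=
  h.of_injective K.subtype_injective

theorem KB.of_subgroup_le {b : ℕ} {K L : Subgroup G} (hKL : K ≤ L) (h : KB L b) : KB K b :=
  h.of_injective (f := Subgroup.inclusion hKL) (Subgroup.inclusion_injective hKL)

/-- Extensions multiply the bounds. -/
theorem KB.ext {H : Type v} [Group H] [Finite H] (f : G →* H) {a b : ℕ} (hN : KB f.ker a)
    (hQ : KB H b) : KB G (a * b) := fun K => by
  let g : K →* H := f.comp K.subtype
  refine (card_classes_le_mul g.ker).trans (Nat.mul_le_mul ?_ ?_)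
  · have hi : Function.Injective (fun k : g.ker => (⟨((k : K) : G), k.2⟩ : f.ker)) :=
      fun k l hkl => Subtype.ext (Subtype.ext (congrArg (fun t : f.ker => (t : G)) hkl))
    have h2 : KB g.ker a := hN.of_injective
      (f := { toFun := fun k : g.ker => (⟨((k : K) : G), k.2⟩ : f.ker)
              map_one' := rfl
              map_mul' := fun _ _ => rfl }) hi
    exact (card_classes_le_of_surjective (f := (topEquiv (G := g.ker)).toMonoidHom)
      topEquiv.surjective).trans (h2 ⊤)
  · exact (card_classes_le_of_surjective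
      (f := (QuotientGroup.quotientKerEquivRange g).symm.toMonoidHom)
      (QuotientGroup.quotientKerEquivRange g).symm.surjective).trans (hQ _)

/-- Subdirect products multiply the bounds. -/
theorem KB.pi {I : Type w} {H : I → Type v} [∀ i, Group (H i)] [∀ i, Finite (H i)] (b : I → ℕ) :
    ∀ (s : Finset I) {G : Type u} [Group G] [Finite G] (f : ∀ i, G →* H i),
      (∀ i ∈ s, KB (H i) (b i)) → (∀ g, (∀ i ∈ s, f i g = 1) → g = 1) → KB G (∏ i ∈ s, b i) := by
  classical
  intro s
  induction s using Finset.induction_on with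
  | empty =>
    intro G _ _ f _ hinj
    haveI : Subsingleton G := ⟨fun g h => by rw [hinj g (by simp), hinj h (by simp)]⟩
    exact KB.of_card (le_of_eq (by simp))
  | insert a s has ih =>
    intro G _ _ f hb hinj
    rw [Finset.prod_insert has, mul_comm]
    refine KB.ext (f a) (ih (fun i => (f i).comp (f a).ker.subtype)
      (fun i hi => hb i (Finset.mem_insert_of_mem hi)) fun g hg => Subtype.ext (hinj _ ?_))
      (hb a (Finset.mem_insert_self a s))
    intro i hi
    rcases Finset.mem_insert.1 hi with rfl | hi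
    · exact g.2
    · exact hg i hi

/-- A group whose elements outside `N` centralise at most `φ` elements of `N`. -/
theorem card_classes_fixed_bound (N : Subgroup G) [N.Normal] {φ : ℕ}
    (h : ∀ g : G, g ∉ N → Nat.card (N ⊓ centralizer ({g} : Set G) : Subgroup G) ≤ φ) :
    Nat.card (ConjClasses G) * N.index ≤
      Nat.card N + (N.index - 1) * (N.index + 1) * φ := by
  classical
  haveI := Fintype.ofFinite G
  set m := Nat.card N with hm
  set c := N.index with hc
  have hC : ∀ g : G, Nat.card {y : G // Commute g y} = Nat.card (centralizer ({g} : Set G)) :=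
    fun g => Nat.card_congr (Equiv.subtypeEquivRight fun y => by
      rw [mem_centralizer_singleton_iff]; exact ⟨fun h => h.eq.symm, fun h => h.symm⟩)
  have hout : ∀ g : G, g ∉ N → Nat.card (centralizer ({g} : Set G)) ≤ c * φ := fun g hg => by
    rw [← Subgroup.index_mul_card (N.subgroupOf (centralizer ({g} : Set G)))]
    refine Nat.mul_le_mul ?_ ?_
    · exact Nat.le_of_dvd (Nat.pos_of_ne_zero N.index_ne_zero_of_finite)
        (Subgroup.relIndex_dvd_index_of_normal N _)
    · refine le_trans (le_of_eq ?_) (h g hg)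
      exact Nat.card_congr ((Subgroup.subgroupOfEquivOfLe inf_le_right).toEquiv.symm.trans
        (Equiv.cast (by rw [Subgroup.inf_subgroupOf_right]))).symm
  -- pairs with first entry in N, second outside
  have hin : ∑ x ∈ Finset.univ.filter (fun x : G => x ∈ N), Nat.card {y : G // Commute x y} ≤
      m * m + (Nat.card G - m) * φ := by
    have e : ∀ x : G, Nat.card {y : G // Commute x y} = ∑ y : G, if Commute x y then 1 else 0 :=
      fun x => by rw [Finset.sum_boole, Nat.card_eq_fintype_card, Fintype.card_subtype]; rfl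
    simp only [e]
    rw [Finset.sum_comm, ← Finset.sum_filter_add_sum_filter_not (s := Finset.univ)
      (p := fun y : G => y ∈ N)]
    have hmc : (Finset.univ.filter (fun x : G => x ∈ N)).card = m := by
      rw [hm, Nat.card_eq_fintype_card, Fintype.card_subtype]
    refine Nat.add_le_add ?_ ?_
    · refine (Finset.sum_le_card_nsmul _ _ m fun y _ => ?_).trans (le_of_eq (by rw [hmc, smul_eq_mul]))
      rw [Finset.sum_boole, ← hmc]
      exact Finset.card_filter_le _ _
    · refine (Finset.sum_le_card_nsmul _ _ φ fun y hy => ?_).trans (le_of_eq ?_)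
      · simp only [Finset.mem_filter, Finset.mem_univ, true_and] at hy
        refine le_trans (le_of_eq ?_) (h y hy)
        rw [Finset.sum_boole, Finset.filter_filter, Nat.card_eq_fintype_card, Fintype.card_subtype]
        refine congrArg Finset.card (Finset.filter_congr fun x _ => ?_)
        rw [Subgroup.mem_inf, mem_centralizer_singleton_iff]
        exact and_congr_right fun _ => ⟨fun h => h, fun h => h⟩
      · rw [smul_eq_mul, Finset.filter_not, Finset.card_sdiff, Finset.inter_univ, hmc,
          Finset.card_univ, Nat.card_eq_fintype_card]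
  have hP : pairCount G ≤ m * m + (Nat.card G - m) * φ + (Nat.card G - m) * (c * φ) := by
    rw [pairCount_eq_sum, ← Finset.sum_filter_add_sum_filter_not (s := Finset.univ)
      (p := fun x : G => x ∈ N)]
    refine Nat.add_le_add hin ((Finset.sum_le_card_nsmul _ _ (c * φ) fun g hg => ?_).trans
      (le_of_eq ?_))
    · simp only [Finset.mem_filter, Finset.mem_univ, true_and] at hg
      rw [hC]; exact hout g hg
    · rw [smul_eq_mul, Finset.filter_not, Finset.card_sdiff, Finset.inter_univ, Finset.card_univ,
        hm, Nat.card_eq_fintype_card, Nat.card_eq_fintype_card, Fintype.card_subtype]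
  have hG : Nat.card G = c * m := (N.index_mul_card).symm
  rw [pairCount_eq, hG] at hP
  have hm0 : 0 < m := Nat.card_pos
  obtain ⟨d, hd⟩ := Nat.exists_eq_succ_of_ne_zero (show c ≠ 0 from N.index_ne_zero_of_finite)
  rw [hd] at hP ⊢
  rw [Nat.succ_mul, Nat.add_sub_cancel] at hP
  refine Nat.le_of_mul_le_mul_right (le_trans (le_of_eq ?_) (hP.trans (le_of_eq ?_))) hm0
  · rw [Nat.succ_eq_add_one]; ring
  · rw [Nat.succ_eq_add_one, Nat.add_sub_cancel]; ring

/-- A group whose non-central elements have at least `s` conjugates. -/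
theorem card_classes_central_bound {s : ℕ}
    (h : ∀ g : G, g ∉ center G → s * Nat.card (centralizer ({g} : Set G)) ≤ Nat.card G) :
    s * Nat.card (ConjClasses G) ≤ (s - 1) * Nat.card (center G) + Nat.card G := by
  classical
  haveI := Fintype.ofFinite G
  have hP : s * pairCount G ≤ ((s - 1) * Nat.card (center G) + Nat.card G) * Nat.card G := by
    rw [pairCount_eq_sum, Finset.mul_sum]
    have hb : ∀ x : G, s * Nat.card {y : G // Commute x y} ≤
        (if x ∈ center G then (s - 1) * Nat.card G else 0) + Nat.card G := fun x => by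
      split_ifs with hx
      · have hle : Nat.card {y : G // Commute x y} ≤ Nat.card G :=
          Nat.card_le_card_of_injective _ Subtype.val_injective
        refine (Nat.mul_le_mul_left s hle).trans ?_
        rw [← Nat.succ_mul]
        exact Nat.mul_le_mul_right _ (by omega)
      · rw [zero_add]
        refine le_trans (le_of_eq (congrArg (s * ·) ?_)) (h x hx)
        exact Nat.card_congr (Equiv.subtypeEquivRight fun y => by
          rw [mem_centralizer_singleton_iff]; exact ⟨fun h => h.eq.symm, fun h => h.symm⟩)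
    refine (Finset.sum_le_sum fun x _ => hb x).trans (le_of_eq ?_)
    rw [Finset.sum_add_distrib, ← Finset.sum_filter, Finset.sum_const, Finset.sum_const, smul_eq_mul,
      smul_eq_mul, Finset.card_univ, Nat.card_eq_fintype_card (α := center G), Fintype.card_subtype,
      Nat.card_eq_fintype_card (α := G)]
    ring
  rw [pairCount_eq, ← mul_assoc] at hP
  exact Nat.le_of_mul_le_mul_right hP Nat.card_pos

end Cfsg.Agent.SolvLin
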