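import Cfsg.Agent.Lib.SolvLin.FiniteField

/-!
# Class numbers of solvable complex linear groups modulo the Fitting subgroup
-/

set_option autoImplicit false
set_option linter.style.haveILetI false
set_option linter.unusedSectionVars false

namespace Cfsg.Agent.SolvLin

open Module Subgroup

variable {V : Type} [AddCommGroup V] [Module ℂ V] [FiniteDimensional ℂ V]
variable {G : Type} [Group G] [Finite G] [Group.IsSolvable G] {ρ : G →* Module.End ℂ V}

/-- The case of a system of blocks. -/
theorem kb_fitting_of_blocks (hρ : Function.Injective ρ) {r : ℕ} (hd : finrank ℂ V = r)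
    (hlow : ∀ r' < r, 1 ≤ r' → ∀ (W : Type) [AddCommGroup W] [Module ℂ W] [FiniteDimensional ℂ W]
      (H : Type) [Group H] [Finite H] [Group.IsSolvable H] (τ : H →* Module.End ℂ W),
      Function.Injective τ → finrank ℂ W = r' → KB (H ⧸ Cfsg.fittingSubgroup H) (3 ^ (r' - 1)))
    (B : Blocks ρ) : KB (G ⧸ Cfsg.fittingSubgroup G) (3 ^ (r - 1)) := by
  classical
  set b : B.S → ℕ := fun e => finrank ℂ (B.space e) with hb
  have hsum : ∑ e, b e = r := hd ▸ B.sum_finrank
  have hpos : ∀ e, 1 ≤ b e := fun e => by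
    haveI := B.nontrivial_space e
    exact Module.finrank_pos
  have hlt : ∀ e, b e < r := fun e => by
    obtain ⟨f, hf⟩ : ∃ f : B.S, f ≠ e := by
      haveI : Nontrivial B.S := by
        rw [← Fintype.one_lt_card_iff_nontrivial, Fintype.card_coe]
        exact B.one_lt
      exact exists_ne e
    rw [← hsum]
    exact Finset.single_lt_sum hf (Finset.mem_univ _) (Finset.mem_univ _)
      (lt_of_lt_of_le zero_lt_one (hpos f)) fun _ _ _ => Nat.zero_le _
  -- the image of each stabiliser
  let Y : B.S → Type := fun e => B.stab e ⧸ (B.onBlock e).ker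
  have hsolvY : ∀ e, Group.IsSolvable (B.stab e ⧸ (B.onBlock e).ker) := fun e =>
    Group.isSolvable_of_surjective (QuotientGroup.mk'_surjective (B.onBlock e).ker)
  have hY : ∀ e, KB ((B.stab e ⧸ (B.onBlock e).ker) ⧸
      Cfsg.fittingSubgroup (B.stab e ⧸ (B.onBlock e).ker)) (3 ^ (b e - 1)) := fun e => by
    haveI := hsolvY e
    refine hlow (b e) (hlt e) (hpos e) (B.space e) _
      (QuotientGroup.lift (B.onBlock e).ker (B.onBlock e) fun _ h => h) ?_ rfl
    intro x y hxy
    obtain ⟨x, rfl⟩ := QuotientGroup.mk_surjective x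
    obtain ⟨y, rfl⟩ := QuotientGroup.mk_surjective y
    refine QuotientGroup.eq.2 (MonoidHom.mem_ker.2 ?_)
    have hxy' : B.onBlock e x = B.onBlock e y := hxy
    rw [map_mul, ← hxy', ← map_mul, inv_mul_cancel, map_one]
  set P := B.perm.ker with hP
  let π : ∀ e, P →* B.stab e ⧸ (B.onBlock e).ker := fun e =>
    (QuotientGroup.mk' (B.onBlock e).ker).comp (Subgroup.inclusion (B.ker_le_stab e))
  let ψ : ∀ e, P →* (B.stab e ⧸ (B.onBlock e).ker) ⧸
      Cfsg.fittingSubgroup (B.stab e ⧸ (B.onBlock e).ker) := fun e =>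
    (QuotientGroup.mk' _).comp (π e)
  let K : Subgroup P := ⨅ e, (ψ e).ker
  haveI hKn : K.Normal := Subgroup.normal_iInf_normal fun e => (ψ e).normal_ker
  have hπK : ∀ e, ∀ k : K, π e k ∈ Cfsg.fittingSubgroup (B.stab e ⧸ (B.onBlock e).ker) := fun e k =>
    (QuotientGroup.eq_one_iff _).1 (MonoidHom.mem_ker.1 (Subgroup.mem_iInf.1 k.2 e))
  haveI : Group.IsNilpotent K := by
    let ι : K →* ∀ e, Cfsg.fittingSubgroup (B.stab e ⧸ (B.onBlock e).ker) :=
      { toFun := fun k e => ⟨π e k, hπK e k⟩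
        map_one' := funext fun e => Subtype.ext (map_one (π e))
        map_mul' := fun k l => funext fun e => Subtype.ext (map_mul (π e) _ _) }
    have hι : Function.Injective ι := by
      rw [injective_iff_map_eq_one]
      intro k hk
      refine Subtype.ext (Subtype.ext (B.eq_one_of_onBlock hρ (k : P).2 fun e => ?_))
      have h1 : π e k = 1 := congrArg Subtype.val (congrFun hk e)
      exact MonoidHom.mem_ker.1 ((QuotientGroup.eq_one_iff _).1 h1)
    haveI : ∀ e, Group.IsNilpotent (Cfsg.fittingSubgroup (B.stab e ⧸ (B.onBlock e).ker)) := fun e =>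
      Components.fittingSubgroup_isNilpotent _
    haveI : Group.IsNilpotent (∀ e, Cfsg.fittingSubgroup (B.stab e ⧸ (B.onBlock e).ker)) :=
      Group.isNilpotent_pi
    exact (Group.isNilpotent_congr (MonoidHom.ofInjective hι)).2 inferInstance
  have hKF : K ≤ Cfsg.fittingSubgroup P := Components.le_fittingSubgroup hKn
  have hPF : (Cfsg.fittingSubgroup P).map P.subtype ≤ Cfsg.fittingSubgroup G :=
    Components.map_subtype_fittingSubgroup_le_of_isSubnormal (Subgroup.Normal.isSubnormal
      (inferInstanceAs B.perm.ker.Normal))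
  have hPK : KB (P ⧸ K) (∏ e, 3 ^ (b e - 1)) := by
    refine KB.pi (fun e => 3 ^ (b e - 1)) Finset.univ
      (fun e => QuotientGroup.lift K (ψ e) fun k hk => Subgroup.mem_iInf.1 hk e)
      (fun e _ => hY e) fun g hg => ?_
    obtain ⟨g, rfl⟩ := QuotientGroup.mk_surjective g
    exact (QuotientGroup.eq_one_iff g).2 (Subgroup.mem_iInf.2 fun e =>
      MonoidHom.mem_ker.2 (hg e (Finset.mem_univ e)))
  let q : G →* G ⧸ Cfsg.fittingSubgroup G := QuotientGroup.mk' _
  set P' := P.map q with hP'
  haveI : P'.Normal := Subgroup.Normal.map inferInstance _ (QuotientGroup.mk'_surjective _)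
  have hker : KB (QuotientGroup.mk' P').ker (∏ e, 3 ^ (b e - 1)) := by
    rw [QuotientGroup.ker_mk']
    refine KB.of_surjective (f := QuotientGroup.lift K (q.subgroupMap P) fun k hk =>
      MonoidHom.mem_ker.2 (Subtype.ext ?_)) ?_ hPK
    · exact (QuotientGroup.eq_one_iff _).2 (hPF ⟨k, hKF hk, rfl⟩)
    · intro y
      obtain ⟨x, hx⟩ := q.subgroupMap_surjective P y
      exact ⟨(x : P ⧸ K), hx⟩
  have hquot : KB ((G ⧸ Cfsg.fittingSubgroup G) ⧸ P') (3 ^ (Fintype.card B.S - 1)) := by
    haveI : Group.IsSolvable B.perm.range :=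
      Group.isSolvable_of_surjective B.perm.rangeRestrict_surjective
    have hrange : KB B.perm.range (3 ^ (Fintype.card B.S - 1)) := by
      refine KB.of_card (le_trans (card_le_three_pow (α := B.S)) ?_)
      rw [Nat.card_eq_fintype_card]
    have hGP : KB (G ⧸ P) (3 ^ (Fintype.card B.S - 1)) :=
      hrange.of_injective (f := (QuotientGroup.quotientKerEquivRange B.perm).toMonoidHom)
        (MulEquiv.injective _)
    refine hGP.of_surjective (f := QuotientGroup.lift P ((QuotientGroup.mk' P').comp q)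
      fun x hx => MonoidHom.mem_ker.2 ((QuotientGroup.eq_one_iff _).2 ⟨x, hx, rfl⟩)) ?_
    intro y
    obtain ⟨z, rfl⟩ := QuotientGroup.mk_surjective y
    obtain ⟨g, rfl⟩ := QuotientGroup.mk_surjective z
    exact ⟨(g : G ⧸ P), rfl⟩
  refine (KB.ext (QuotientGroup.mk' P') hker hquot).mono ?_
  rw [Finset.prod_pow_eq_pow_sum, ← pow_add]
  refine Nat.pow_le_pow_right (by norm_num) ?_
  have h1 : ∑ e, (b e - 1) + Fintype.card B.S = r := by
    rw [← hsum, Fintype.card_eq_sum_ones, ← Finset.sum_add_distrib]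
    exact Finset.sum_congr rfl fun e _ => Nat.sub_add_cancel (hpos e)
  have h2 : 1 ≤ Fintype.card B.S := by rw [Fintype.card_coe]; exact B.one_lt.le
  omega

omit [FiniteDimensional ℂ V] in
/-- In an algebraically closed setting a field of endomorphisms consists of scalars. -/
theorem exists_scalar_of_isField [FiniteDimensional ℂ V] [Nontrivial V]
    {E : Subalgebra ℂ (Module.End ℂ V)} (hE : IsField E) (x : E) :
    ∃ l : ℂ, (x : Module.End ℂ V) = algebraMap ℂ (Module.End ℂ V) l := by
  obtain ⟨μ, hμ⟩ := Module.End.exists_eigenvalue (x : Module.End ℂ V)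
  refine ⟨μ, ?_⟩
  obtain ⟨v, hv⟩ := hμ.exists_hasEigenvector
  by_contra hne
  obtain ⟨y, hy⟩ := hE.mul_inv_cancel (a := x - algebraMap ℂ E μ) fun h0 =>
    hne (by simpa [sub_eq_zero] using congrArg Subtype.val h0)
  have hy' : (y : Module.End ℂ V) * ((x : Module.End ℂ V) - algebraMap ℂ (Module.End ℂ V) μ) = 1 :=
    congrArg Subtype.val ((hE.mul_comm _ _).trans hy)
  have h := LinearMap.congr_fun hy' v
  rw [Module.End.mul_apply, LinearMap.sub_apply, Module.algebraMap_end_apply, hv.apply_eq_smul,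
    sub_self, map_zero, Module.End.one_apply] at h
  exact hv.2 h.symm

/-- The case where all abelian normal subgroups are scalar. -/
theorem kb_fitting_of_scalar (hρ : Function.Injective ρ) [Nontrivial V] {r : ℕ}
    (hd : finrank ℂ V = r)
    (hsc : ∀ A : Subgroup G, A.Normal → (∀ a ∈ A, ∀ b ∈ A, a * b = b * a) →
      ∀ a ∈ A, ∃ l : ℂ, ρ a = algebraMap ℂ (Module.End ℂ V) l) :
    KB (G ⧸ Cfsg.fittingSubgroup G) (3 ^ (r - 1)) := by
  classical
  let Z : Subgroup G :=
    { carrier := {g | ∃ l : ℂ, ρ g = algebraMap ℂ (Module.End ℂ V) l}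
      one_mem' := ⟨1, by rw [map_one, map_one]⟩
      mul_mem' := by
        rintro x y ⟨l, hl⟩ ⟨m, hm⟩
        exact ⟨l * m, by rw [map_mul, map_mul, hl, hm]⟩
      inv_mem' := by
        rintro x ⟨l, hl⟩
        refine ⟨l⁻¹, ?_⟩
        have h1 : ρ x⁻¹ * algebraMap ℂ (Module.End ℂ V) l = 1 := by
          rw [← hl, ← map_mul, inv_mul_cancel, map_one]
        have hl0 : l ≠ 0 := fun h0 => by
          rw [h0, map_zero, mul_zero] at h1
          exact zero_ne_one h1
        calc ρ x⁻¹ = ρ x⁻¹ * (algebraMap ℂ _ l * algebraMap ℂ _ l⁻¹) := by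
              rw [← map_mul, mul_inv_cancel₀ hl0, map_one, mul_one]
          _ = algebraMap ℂ _ l⁻¹ := by rw [← mul_assoc, h1, one_mul] }
  have hZn : Z.Normal := ⟨fun x hx g => by
    obtain ⟨l, hl⟩ := hx
    refine ⟨l, ?_⟩
    rw [map_mul, map_mul, hl, ← Algebra.commutes l (ρ g), mul_assoc, ← map_mul,
      mul_inv_cancel, map_one, mul_one]⟩
  let S : Core ℂ V G :=
    { C := ⊤
      A := Z
      C_normal := inferInstance
      A_normal := hZn
      A_le := le_top
      solv := inferInstance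
      σ := ρ.comp (⊤ : Subgroup G).subtype
      inj := hρ.comp Subtype.val_injective
      scalar := fun _ => Iff.rfl
      abelian_le := fun U _ hU hab a ha => hsc U hU hab a ha }
  obtain ⟨t, ht⟩ := S.exists_sqrt S.A_le_F le_rfl
  have htd : t ≤ r := hd ▸ Nat.mul_self_le_mul_self_iff.1 (ht ▸ S.relIndex_F_le)
  haveI : (S.Kf S.F).Normal := MonoidHom.normal_ker _
  have h := S.kb_symp t (fun p n hp hn _ => irrBoundB_symp p n hp hn) S.F S.A_le_F le_rfl ht
  have h' : KB (S.C ⧸ Cfsg.fittingSubgroup S.C) (3 ^ (t - 1)) :=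
    h.of_injective (f := (QuotientGroup.quotientMulEquivOfEq S.Kf_F_eq.symm).toMonoidHom)
      (MulEquiv.injective _)
  have hsurj : Function.Surjective S.C.subtype := fun g => ⟨⟨g, Subgroup.mem_top g⟩, rfl⟩
  refine (h'.of_surjective (f := QuotientGroup.map _ _ S.C.subtype
    (Subgroup.map_le_iff_le_comap.1 (Components.map_fittingSubgroup_le hsurj))) ?_).mono
    (Nat.pow_le_pow_right (by norm_num) (by omega))
  intro y
  obtain ⟨g, rfl⟩ := QuotientGroup.mk_surjective y
  exact ⟨((⟨g, Subgroup.mem_top g⟩ : S.C) : S.C ⧸ _), rfl⟩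

/-- **The main bound**. -/
theorem kb_fitting_complex : ∀ r : ℕ, 1 ≤ r → ∀ (W : Type) [AddCommGroup W] [Module ℂ W]
    [FiniteDimensional ℂ W] (H : Type) [Group H] [Finite H] [Group.IsSolvable H]
    (τ : H →* Module.End ℂ W), Function.Injective τ → finrank ℂ W = r →
    KB (H ⧸ Cfsg.fittingSubgroup H) (3 ^ (r - 1)) := by
  intro r
  induction r using Nat.strong_induction_on with
  | _ r ih =>
    intro hr W _ _ _ H _ _ _ τ hτ hd
    haveI : Nontrivial W := Module.nontrivial_of_finrank_pos (R := ℂ) (by omega)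
    by_cases hB : Nonempty (Blocks τ)
    · exact kb_fitting_of_blocks hτ hd (fun r' h1 h2 => ih r' h1 h2) hB.some
    · refine kb_fitting_of_scalar hτ hd fun A hA hab a ha => ?_
      haveI := hA
      haveI : NeZero (Nat.card A : ℂ) := ⟨Nat.cast_ne_zero.2 Nat.card_pos.ne'⟩
      exact exists_scalar_of_isField ((field_or_blocks τ A hab).resolve_right hB)
        ⟨τ a, rho_mem_algOf τ A ha⟩

end Cfsg.Agent.SolvLin
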