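import Cfsg.Agent.Lib.SolvLin.Core
import Cfsg.Agent.Lib.SolvLin.IrrNum

/-!
# The group acting on the symplectic sections
-/

set_option autoImplicit false
set_option linter.style.haveILetI false
set_option linter.unusedSectionVars false

namespace Cfsg.Agent.SolvLin

open Module Subgroup
open scoped commutatorElement

/-- A group of additive automorphisms of a vector space over `ZMod p`, acting irreducibly. -/
theorem kb_of_addEnd {p : ℕ} [Fact p.Prime] {M : Type} [AddCommGroup M] [Finite M]
    [Module (ZMod p) M] {Y : Type} [Group Y] [Finite Y] [Group.IsSolvable Y]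
    (ψ : Y →* AddMonoid.End M) (hψ : Function.Injective ψ)
    (hirr : ∀ R : AddSubgroup M, (∀ y : Y, ∀ r ∈ R, ψ y r ∈ R) → R = ⊥ ∨ R = ⊤) {N b : ℕ}
    (hcard : Nat.card M = p ^ N) (hb : IrrBoundB p N b) : KB Y b := by
  let ρ : Y →* Module.End (ZMod p) M :=
    { toFun := fun y =>
        { toFun := fun v => ψ y v
          map_add' := map_add _
          map_smul' := fun c v => ZMod.map_smul (ψ y) c v }
      map_one' := LinearMap.ext fun v => by
        show ψ 1 v = v
        rw [map_one]
        rfl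
      map_mul' := fun g h => LinearMap.ext fun v => by
        show ψ (g * h) v = ψ g (ψ h v)
        rw [map_mul]
        rfl }
  refine hb M Y ρ (fun g h hgh => hψ (AddMonoidHom.ext fun v => LinearMap.congr_fun hgh v)) ?_ ?_
  · have h := Module.natCard_eq_pow_finrank (K := ZMod p) (V := M)
    rw [Nat.card_zmod, hcard] at h
    exact (Nat.pow_right_injective (Fact.out : p.Prime).two_le h).symm
  · intro W hW
    rcases hirr W.toAddSubgroup hW with h | h
    · left
      rw [Submodule.eq_bot_iff]
      intro v hv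
      exact AddSubgroup.mem_bot.1 (h ▸ (show v ∈ W.toAddSubgroup from hv))
    · right
      rw [Submodule.eq_top_iff']
      intro v
      exact (show v ∈ W.toAddSubgroup from h.symm ▸ AddSubgroup.mem_top v)

/-- A group of automorphisms of an elementary abelian group, acting irreducibly. -/
theorem kb_range_of_act {p : ℕ} [Fact p.Prime] {Q : Type} [CommGroup Q] [Finite Q]
    (hexp : ∀ q : Q, q ^ p = 1) {X : Type} [Group X] [Finite X] [Group.IsSolvable X]
    (φ : X →* MulAut Q)
    (hirr : ∀ R : Subgroup Q, (∀ x : X, ∀ r ∈ R, φ x r ∈ R) → R = ⊥ ∨ R = ⊤) {N b : ℕ}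
    (hcard : Nat.card Q = p ^ N) (hb : IrrBoundB p N b) : KB φ.range b := by
  haveI : Group.IsSolvable φ.range :=
    Group.isSolvable_of_surjective φ.rangeRestrict_surjective
  let ψ : φ.range →* AddMonoid.End (Additive Q) :=
    { toFun := fun g => MonoidHom.toAdditive (g : MulAut Q).toMonoidHom
      map_one' := rfl
      map_mul' := fun _ _ => rfl }
  refine @kb_of_addEnd p _ (Additive Q) _ _
    (AddCommGroup.zmodModule fun v => Additive.toMul.injective (hexp (Additive.toMul v)))
    φ.range _ _ _ ψ ?_ ?_ N b ((Nat.card_congr Additive.toMul).trans hcard) hb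
  · intro g h hgh
    refine Subtype.ext (MulEquiv.ext fun q => ?_)
    exact congrArg Additive.toMul (DFunLike.congr_fun hgh (Additive.ofMul q))
  · intro R hR
    rcases hirr (AddSubgroup.toSubgroup' R) fun x r hr => hR ⟨φ x, x, rfl⟩ (Additive.ofMul r) hr
      with h | h
    · left
      rw [AddSubgroup.eq_bot_iff_forall]
      intro v hv
      have : Additive.toMul v ∈ AddSubgroup.toSubgroup' R := hv
      rw [h, Subgroup.mem_bot] at this
      exact Additive.toMul.injective this
    · right
      rw [AddSubgroup.eq_top_iff']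
      intro v
      exact (show Additive.toMul v ∈ AddSubgroup.toSubgroup' R from h.symm ▸ Subgroup.mem_top _)

theorem relIndex_pos' {G : Type} [Group G] [Finite G] (B D : Subgroup G) : 0 < B.relIndex D :=
  Nat.pos_of_ne_zero (B.subgroupOf D).index_ne_zero_of_finite

namespace Core

variable {L : Type} [Field L] {V : Type} [AddCommGroup V] [Module L V] [FiniteDimensional L V]
  [Nontrivial V]
variable {X : Type} [Group X] [Finite X] (S : Core L V X)

/-- The action of `X` on `U / A`. -/
def wConj (U : Subgroup X) [U.Normal] : X →* MulAut (U ⧸ S.A.subgroupOf U) where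
  toFun x := QuotientGroup.congr _ _ (MulAut.conjNormal (H := U) x) (by
    ext y
    constructor
    · rintro ⟨z, hz, rfl⟩
      show (MulAut.conjNormal (H := U) x z : X) ∈ S.A
      rw [MulAut.conjNormal_apply]
      exact S.A_normal.conj_mem _ hz x
    · intro hy
      refine ⟨(MulAut.conjNormal (H := U) x).symm y, ?_, MulEquiv.apply_symm_apply _ y⟩
      show ((MulAut.conjNormal (H := U) x).symm y : X) ∈ S.A
      rw [MulAut.conjNormal_symm_apply]
      simpa [mul_assoc] using S.A_normal.conj_mem _ hy x⁻¹)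
  map_one' := by
    refine MulEquiv.ext fun w => QuotientGroup.induction_on w fun y => ?_
    show ((MulAut.conjNormal (H := U) (1 : X) y : U) : U ⧸ S.A.subgroupOf U) = _
    rw [map_one]
    rfl
  map_mul' a b := by
    refine MulEquiv.ext fun w => QuotientGroup.induction_on w fun y => ?_
    show ((MulAut.conjNormal (H := U) (a * b) y : U) : U ⧸ S.A.subgroupOf U) = _
    rw [map_mul]
    rfl

theorem wConj_mk {U : Subgroup X} [U.Normal] (x : X) (y : U) :
    S.wConj U x (y : U ⧸ S.A.subgroupOf U) =
      ((MulAut.conjNormal (H := U) x y : U) : U ⧸ S.A.subgroupOf U) := rfl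

/-- The elements of `C` acting trivially on `U / A`. -/
def Kf (U : Subgroup X) [U.Normal] : Subgroup S.C := ((S.wConj U).comp S.C.subtype).ker

instance (U : Subgroup X) [U.Normal] : (S.Kf U).Normal := MonoidHom.normal_ker _

theorem mem_Kf {U : Subgroup X} [U.Normal] {c : S.C} :
    c ∈ S.Kf U ↔ ∀ y ∈ U, ⁅(c : X), y⁆ ∈ S.A := by
  constructor
  · intro h y hy
    have h1 := DFunLike.congr_fun (MonoidHom.mem_ker.1 h)
      ((⟨y⁻¹, U.inv_mem hy⟩ : U) : U ⧸ S.A.subgroupOf U)
    have h2 := QuotientGroup.eq.1 h1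
    simpa [mem_subgroupOf, commutatorElement_def, mul_assoc] using h2
  · intro h
    refine MonoidHom.mem_ker.2 (MulEquiv.ext fun w => QuotientGroup.induction_on w fun y => ?_)
    refine (QuotientGroup.eq.2 ?_ :
      ((MulAut.conjNormal (H := U) (c : X) y : U) : U ⧸ S.A.subgroupOf U) = (y : U ⧸ _))
    have := h (y : X)⁻¹ (U.inv_mem y.2)
    simpa [mem_subgroupOf, commutatorElement_def, mul_assoc] using this

theorem Kf_anti {M U : Subgroup X} [M.Normal] [U.Normal] (h : M ≤ U) : S.Kf U ≤ S.Kf M :=
  fun _ hc => S.mem_Kf.2 fun y hy => S.mem_Kf.1 hc y (h hy)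

theorem inf_Kf_le {M N U : Subgroup X} [M.Normal] [N.Normal] [U.Normal] (h : M ⊔ N = U) :
    S.Kf M ⊓ S.Kf N ≤ S.Kf U := by
  rintro c ⟨h1, h2⟩
  refine S.mem_Kf.2 fun y hy => ?_
  rw [← h, Subgroup.mem_sup_of_normal_left] at hy
  obtain ⟨m, hm, n, hn, rfl⟩ := hy
  rw [show ⁅(c : X), m * n⁆ = ⁅(c : X), m⁆ * (m * ⁅(c : X), n⁆ * m⁻¹) by
    simp only [commutatorElement_def]; group]
  exact S.A.mul_mem (S.mem_Kf.1 h1 m hm) (S.A_normal.conj_mem _ (S.mem_Kf.1 h2 n hn) m)

/-- Either there is a splitting, or `U / A` is irreducible. -/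
theorem split_or_irreducible {U : Subgroup X} [U.Normal] (hAU : S.A ≤ U) (hUF : U ≤ S.F)
    {M : Subgroup X} [M.Normal] (hAM : S.A ≤ M) (hMU : M ≤ U) :
    M ⊔ (U ⊓ centralizer (M : Set X)) = U ∧
      S.A.relIndex U = S.A.relIndex M * S.A.relIndex (U ⊓ centralizer (M : Set X)) := by
  set U1 := U ⊓ centralizer (M : Set X) with hU1
  have hA1 : S.A ≤ U1 := le_inf hAU fun a ha => mem_centralizer_iff.2 fun y hy =>
    (S.central ha (S.F_le (hUF (hMU hy)))).eq.symm
  have hinf : M ⊓ U1 = S.A := le_antisymm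
    (le_trans (inf_le_inf_left M inf_le_right) (S.inf_centralizer_le ((hMU.trans hUF).trans S.F_le)))
    (le_inf hAM hA1)
  haveI : U1.Normal := inferInstanceAs (U ⊓ centralizer (M : Set X)).Normal
  have hsup : M ⊔ U1 ≤ U := sup_le hMU inf_le_left
  have e1 : M.relIndex (M ⊔ U1) = S.A.relIndex U1 := by
    rw [Subgroup.relIndex_sup_left]
    rw [← Subgroup.inf_relIndex_right, hinf]
  have e2 : S.A.relIndex M * M.relIndex U = S.A.relIndex U := relIndex_mul_relIndex _ _ _ hAM hMU
  have e3 : S.A.relIndex U1 * U1.relIndex U = S.A.relIndex U :=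
    relIndex_mul_relIndex _ _ _ hA1 inf_le_left
  have e4 : U1.relIndex U ≤ S.A.relIndex M := by
    rw [hU1, Subgroup.inf_relIndex_left]
    exact S.relIndex_centralizer_le hUF le_rfl hAM (hMU.trans hUF)
      fun u hu a ha => (S.central ha (S.F_le (hUF hu))).symm
  have e5 : M.relIndex (M ⊔ U1) * (M ⊔ U1).relIndex U = M.relIndex U :=
    relIndex_mul_relIndex _ _ _ le_sup_left hsup
  have hpos : ∀ (B D : Subgroup X), 0 < B.relIndex D := fun B D =>
    relIndex_pos' B D
  have e6 : (M ⊔ U1).relIndex U = 1 := by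
    refine le_antisymm ?_ (hpos _ _)
    refine Nat.le_of_mul_le_mul_left (?_ : S.A.relIndex M * S.A.relIndex U1 * (M ⊔ U1).relIndex U ≤
      S.A.relIndex M * S.A.relIndex U1 * 1) (Nat.mul_pos (hpos _ _) (hpos _ _))
    calc S.A.relIndex M * S.A.relIndex U1 * (M ⊔ U1).relIndex U = S.A.relIndex U := by
          rw [mul_assoc, ← e1, e5, e2]
      _ = S.A.relIndex U1 * U1.relIndex U := e3.symm
      _ ≤ S.A.relIndex U1 * S.A.relIndex M := Nat.mul_le_mul_left _ e4
      _ = S.A.relIndex M * S.A.relIndex U1 * 1 := by ring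
  refine ⟨le_antisymm hsup (Subgroup.relIndex_eq_one.1 e6), ?_⟩
  rw [← e2, ← e5, e6, mul_one, e1]

/-- The bound for the group acting on a symplectic section. -/
theorem kb_symp [Group.IsSolvable X] : ∀ t : ℕ,
    (∀ p n : ℕ, p.Prime → 1 ≤ n → p ^ n ∣ t → IrrBoundB p (2 * n) (3 ^ (p ^ n - 1))) →
    ∀ (U : Subgroup X) [U.Normal], S.A ≤ U → U ≤ S.F → S.A.relIndex U = t * t →
      KB (S.C ⧸ S.Kf U) (3 ^ (t - 1)) := by
  intro t
  induction t using Nat.strong_induction_on with
  | _ t ih =>
    intro hP U _ hAU hUF hidx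
    have htpos : 0 < t := by
      refine Nat.pos_of_ne_zero fun h0 => ?_
      exact (relIndex_pos' S.A U).ne' (by rw [hidx, h0, mul_zero])
    by_cases hsplit : ∃ M : Subgroup X, M.Normal ∧ S.A < M ∧ M < U
    · obtain ⟨M, hMn, hAM, hMU⟩ := hsplit
      obtain ⟨hsup, hmul⟩ := S.split_or_irreducible hAU hUF hAM.le hMU.le
      set U1 := U ⊓ centralizer (M : Set X) with hU1
      haveI : U1.Normal := inferInstanceAs (U ⊓ centralizer (M : Set X)).Normal
      have hA1 : S.A ≤ U1 := le_inf hAU fun a ha => mem_centralizer_iff.2 fun y hy =>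
        (S.central ha (S.F_le (hUF (hMU.le hy)))).eq.symm
      obtain ⟨t0, ht0⟩ := S.exists_sqrt hAM.le (hMU.le.trans hUF)
      obtain ⟨t1, ht1⟩ := S.exists_sqrt hA1 (inf_le_left.trans hUF)
      have ht : t = t0 * t1 := by
        refine Nat.mul_self_inj.1 ?_
        rw [← hidx, hmul, ht0, ht1]
        ring
      have h0 : 2 ≤ t0 := by
        rcases Nat.lt_or_ge t0 2 with h | h
        · exfalso
          have : t0 = 0 ∨ t0 = 1 := by omega
          rcases this with rfl | rfl
          · exact (relIndex_pos' S.A M).ne' ht0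
          · exact hAM.not_ge (Subgroup.relIndex_eq_one.1 ht0)
        · exact h
      have h1 : 2 ≤ t1 := by
        rcases Nat.lt_or_ge t1 2 with h | h
        · exfalso
          have : t1 = 0 ∨ t1 = 1 := by omega
          rcases this with rfl | rfl
          · exact (relIndex_pos' S.A U1).ne' ht1
          · refine hMU.not_ge (le_of_eq hsup.symm |>.trans (sup_le le_rfl ?_))
            exact (Subgroup.relIndex_eq_one.1 ht1).trans hAM.le
        · exact h
      have b0 := ih t0 (by nlinarith) (fun p n hp hn hd => hP p n hp hn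
        (hd.trans (ht ▸ Dvd.intro t1 rfl))) M hAM.le (hMU.le.trans hUF) ht0
      have b1 := ih t1 (by nlinarith) (fun p n hp hn hd => hP p n hp hn
        (hd.trans (ht ▸ Dvd.intro_left t0 rfl))) U1 hA1 (inf_le_left.trans hUF) ht1
      let f : S.C ⧸ S.Kf U →* S.C ⧸ S.Kf M :=
        QuotientGroup.map _ _ (MonoidHom.id _) (S.Kf_anti hMU.le)
      let g : S.C ⧸ S.Kf U →* S.C ⧸ S.Kf U1 :=
        QuotientGroup.map _ _ (MonoidHom.id _) (S.Kf_anti inf_le_left)
      have hinj : Function.Injective (g.comp f.ker.subtype) := by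
        rw [injective_iff_map_eq_one]
        rintro ⟨q, hq⟩ hq1
        refine Subtype.ext ?_
        obtain ⟨c, rfl⟩ := QuotientGroup.mk_surjective q
        exact (QuotientGroup.eq_one_iff c).2 (S.inf_Kf_le hsup
          ⟨(QuotientGroup.eq_one_iff c).1 hq, (QuotientGroup.eq_one_iff c).1 hq1⟩)
      refine (KB.ext f (KB.of_injective hinj b1) b0).mono ?_
      rw [← pow_add, ht]
      refine Nat.pow_le_pow_right (by norm_num) ?_
      have : t0 + t1 ≤ t0 * t1 := by nlinarith
      omega
    by_cases ht1 : t = 1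
    · subst ht1
      have hK : ∀ c : S.C, c ∈ S.Kf U := fun c => S.mem_Kf.2 fun y hy => by
        have hyA : y ∈ S.A := Subgroup.relIndex_eq_one.1 (by simpa using hidx) hy
        rw [commutatorElement_eq_one_iff_commute.2 (S.central hyA c.2).symm]
        exact S.A.one_mem
      haveI : Subsingleton (S.C ⧸ S.Kf U) := ⟨fun a b => by
        induction a using QuotientGroup.induction_on with
        | _ a => induction b using QuotientGroup.induction_on with
          | _ b => exact QuotientGroup.eq.2 (hK _)⟩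
      exact KB.of_card (by simp)
    -- no normal subgroup strictly between `A` and `U`
    have hmid : ∀ M : Subgroup X, M.Normal → S.A ≤ M → M ≤ U → M = S.A ∨ M = U := by
      intro M hM hAM hMU
      by_contra hne
      rw [not_or] at hne
      exact hsplit ⟨M, hM, lt_of_le_of_ne hAM (Ne.symm hne.1), lt_of_le_of_ne hMU hne.2⟩
    haveI := S.subgroupOf_normal le_rfl hAU hUF
    let W := U ⧸ S.A.subgroupOf U
    have hcomm : ∀ a b : W, a * b = b * a := fun a b => by
      induction a using QuotientGroup.induction_on with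
      | _ a => induction b using QuotientGroup.induction_on with
        | _ b =>
          refine QuotientGroup.eq.2 ?_
          show ((a : X) * b)⁻¹ * ((b : X) * a) ∈ S.A
          have h := S.commutator_mem (hUF (U.inv_mem b.2)) (hUF (U.inv_mem a.2))
          simpa [commutatorElement_def, mul_assoc] using h
    letI : CommGroup W := { (inferInstance : Group W) with mul_comm := hcomm }
    have hW : Nat.card W = t * t := hidx
    have hRW : ∀ R : Subgroup W, (∀ x : X, ∀ r ∈ R, S.wConj U x r ∈ R) → R = ⊥ ∨ R = ⊤ := by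
      intro R hR
      let R' : Subgroup X := (R.comap (QuotientGroup.mk' (S.A.subgroupOf U))).map U.subtype
      have hn : R'.Normal := ⟨fun r hr x => by
        obtain ⟨y, hy, rfl⟩ := hr
        exact ⟨MulAut.conjNormal (H := U) x y, hR x _ hy, rfl⟩⟩
      have hle : R' ≤ U := Subgroup.map_subtype_le _
      have hAR : S.A ≤ R' := fun a ha => ⟨⟨a, hAU ha⟩, by
        show ((⟨a, hAU ha⟩ : U) : W) ∈ R
        rw [show ((⟨a, hAU ha⟩ : U) : W) = 1 from (QuotientGroup.eq_one_iff _).2 ha]
        exact R.one_mem, rfl⟩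
      rcases hmid R' hn hAR hle with h | h
      · left
        rw [Subgroup.eq_bot_iff_forall]
        intro w hw
        obtain ⟨y, rfl⟩ := QuotientGroup.mk_surjective w
        refine (QuotientGroup.eq_one_iff y).2 ?_
        show (y : X) ∈ S.A
        rw [← h]
        exact ⟨y, hw, rfl⟩
      · right
        rw [Subgroup.eq_top_iff']
        intro w
        obtain ⟨y, rfl⟩ := QuotientGroup.mk_surjective w
        obtain ⟨y', hy', he⟩ := (show (y : X) ∈ R' from h.symm ▸ y.2)
        rwa [← show y' = y from Subtype.ext he]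
    obtain ⟨p, hp, hpdvd⟩ := Nat.exists_prime_and_dvd (show t * t ≠ 1 from fun h => ht1 (by
      exact (mul_eq_one.1 h).1))
    haveI : Fact p.Prime := ⟨hp⟩
    -- the elements of exponent `p` are invariant
    have hexp : ∀ q : W, q ^ p = 1 := by
      let R : Subgroup W := (powMonoidHom p : W →* W).ker
      rcases hRW R (fun x r hr => by
        show (S.wConj U x r) ^ p = 1
        rw [← map_pow, show r ^ p = 1 from hr, map_one]) with h | h
      · obtain ⟨q, hq⟩ := exists_prime_orderOf_dvd_card' (G := W) p (hW ▸ hpdvd)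
        have : q ∈ R := show q ^ p = 1 from hq ▸ pow_orderOf_eq_one q
        rw [h, Subgroup.mem_bot] at this
        rw [this, orderOf_one] at hq
        exact absurd hq.symm hp.ne_one
      · intro q
        exact (show q ∈ R from h ▸ Subgroup.mem_top q)
    obtain ⟨m, hm⟩ := (IsPGroup.iff_card (p := p) (G := W)).1 fun q => ⟨1, by rw [pow_one]; exact hexp q⟩
    obtain ⟨n, -, rfl⟩ := (Nat.dvd_prime_pow hp).1 (show t ∣ p ^ m from hm ▸ hW ▸ Dvd.intro t rfl)
    have hn : 1 ≤ n := Nat.one_le_iff_ne_zero.2 fun h => ht1 (by rw [h, pow_zero])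
    have h := kb_range_of_act hexp (S.wConj U) hRW (N := 2 * n)
      (by rw [hW, ← pow_add, two_mul]) (hP p n hp hn dvd_rfl)
    let f : S.C →* (S.wConj U).range := (S.wConj U).rangeRestrict.comp S.C.subtype
    have hker : ∀ c : S.C, c ∈ f.ker ↔ c ∈ S.Kf U := fun c => by
      rw [MonoidHom.mem_ker, Kf, MonoidHom.mem_ker, Subtype.ext_iff]
      rfl
    refine KB.of_injective (f := QuotientGroup.lift (S.Kf U) f fun c hc => (hker c).2 hc) ?_ h
    rw [injective_iff_map_eq_one]
    intro q hq
    obtain ⟨c, rfl⟩ := QuotientGroup.mk_surjective q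
    exact (QuotientGroup.eq_one_iff c).2 ((hker c).1 (MonoidHom.mem_ker.2 hq))

theorem Kf_F_eq : S.Kf S.F = Cfsg.fittingSubgroup S.C := by
  ext c
  rw [mem_Kf, ← S.mem_F]
  exact ⟨fun h => S.mem_F_of_trivial c.2 h, fun h => S.commutator_right_mem h⟩

end Core

end Cfsg.Agent.SolvLin
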